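import Cfsg.Agent.CharInduce.CoprimeExt

/-!
# Good classes of a quotient and the characters over an invariant character

A lower bound for the number of irreducible characters over an invariant irreducible character of
a normal subgroup by classes of the quotient on which the extensions of the character to cyclic
overgroups are invariant.
-/

set_option linter.unusedSectionVars false
set_option linter.style.haveILetI false

namespace Cfsg.Agent.H35.ThreeBlock

open CharBasic CharInduce
open scoped ComplexConjugate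

universe u v

section Basic

variable {H : Type u} [Group H] [Fintype H] {N : Subgroup H} [N.Normal]

/-- A character whose restriction to a smaller subgroup is irreducible is irreducible. -/
theorem isIrr_of_res {K : Subgroup H} (hNK : N ≤ K) {r : K → ℂ} (hr : IsCharacter K r)
    {θ : N → ℂ} (hθ : IsIrrCharacter N θ) (hres : ∀ n : N, r (Subgroup.inclusion hNK n) = θ n) :
    IsIrrCharacter K r := by
  classical
  haveI := Fintype.ofFinite K
  haveI := Fintype.ofFinite N
  have hr0 : r ≠ 0 := fun h => CharBasic.IsIrr.one_ne_zero hθ (by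
    rw [← hres 1, h]; rfl)
  obtain ⟨γ, hγ⟩ := exists_constituent hr hr0
  obtain ⟨s, hs, hsum⟩ := IsChar.exists_eq_add hr γ.2 hγ
  set f := Subgroup.inclusion hNK
  have hγN := IsChar.comp (CharBasic.IsIrr.isCharacter γ.2) f
  obtain ⟨δ, hδ⟩ := exists_constituent hγN (fun h => CharBasic.IsIrr.one_ne_zero γ.2 (by
    have h1 : (γ : K → ℂ) (f 1) = 0 := congrFun h 1
    rwa [map_one] at h1))
  have hθeq : θ = (fun n => (γ : K → ℂ) (f n)) + fun n => s (f n) := funext fun n => by
    rw [← hres n, hsum]; rfl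
  obtain ⟨a, ha⟩ := classInner_isChar_nat hγN (CharBasic.IsIrr.isCharacter δ.2)
  obtain ⟨c, hc⟩ := classInner_isChar_nat (IsChar.comp hs f) (CharBasic.IsIrr.isCharacter δ.2)
  have hθδ : θ = (δ : N → ℂ) := by
    by_contra hne
    have h0 := classInner_irr_of_ne hθ δ.2 hne
    rw [hθeq, classInner_add_left, ha, hc] at h0
    rw [ha] at hδ
    have : a + c = 0 := by exact_mod_cast h0
    exact hδ (by simp [(Nat.add_eq_zero_iff.1 this).1])
  obtain ⟨t, ht, htsum⟩ := IsChar.exists_eq_add hγN δ.2 hδ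
  have h1 := congrFun htsum 1
  have h2 := congrFun hθeq 1
  rw [← hθδ] at h1
  simp only [Pi.add_apply, map_one] at h1 h2
  obtain ⟨m, hm⟩ := CharBasic.IsChar.exists_degree hs
  obtain ⟨j, hj⟩ := CharBasic.IsChar.exists_degree ht
  rw [h1, hm, hj] at h2
  have hz : (j + m : ℕ) = 0 := by
    have : ((j + m : ℕ) : ℂ) = 0 := by push_cast; linear_combination -h2
    exact_mod_cast this
  rw [hsum, IsChar.eq_zero_of_one_eq_zero hs (by rw [hm, (Nat.add_eq_zero_iff.1 hz).2]; simp),
    add_zero]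
  exact γ.2

/-- Two characters of an overgroup with a common constituent meet on the normal subgroup. -/
theorem classInner_res_ne_zero {K : Subgroup H} [Fintype K] [Fintype N] (hNK : N ≤ K) {a : K → ℂ}
    (ha : IsCharacter K a) {θ : N → ℂ} (hθ : IsIrrCharacter N θ) {c : ℂ}
    (hres : ∀ n : N, a (Subgroup.inclusion hNK n) = c * θ n)
    {β : H → ℂ} (hβ : IsIrrCharacter H β) (h : classInner a (fun k : K => β k) ≠ 0) :
    classInner (fun n : N => β n) θ ≠ 0 := by
  classical
  have hb := CharInduce.IsChar.res (CharBasic.IsIrr.isCharacter hβ) K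
  rw [classInner_eq_sum (CharBasic.IsChar.isClassFunction ha)] at h
  obtain ⟨γ, -, hγ⟩ := Finset.exists_ne_zero_of_sum_ne_zero h
  obtain ⟨s, hs, hsa⟩ := IsChar.exists_eq_add ha γ.2 (left_ne_zero_of_mul hγ)
  obtain ⟨t, ht, htb⟩ := IsChar.exists_eq_add hb γ.2 (by
    have := right_ne_zero_of_mul hγ
    intro h0
    exact this (by rw [h0, map_zero]))
  set f := Subgroup.inclusion hNK
  have hγN := IsChar.comp (CharBasic.IsIrr.isCharacter γ.2) f
  obtain ⟨δ, hδ⟩ := exists_constituent hγN (fun h => CharBasic.IsIrr.one_ne_zero γ.2 (by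
    have h1 : (γ : K → ℂ) (f 1) = 0 := congrFun h 1
    rwa [map_one] at h1))
  obtain ⟨i, hi⟩ := classInner_isChar_nat hγN (CharBasic.IsIrr.isCharacter δ.2)
  obtain ⟨j, hj⟩ := classInner_isChar_nat (IsChar.comp hs f) (CharBasic.IsIrr.isCharacter δ.2)
  rw [hi, Nat.cast_ne_zero] at hδ
  have hθδ : θ = (δ : N → ℂ) := by
    by_contra hne
    have h0 : classInner (c • θ) (δ : N → ℂ) = 0 := by
      rw [classInner_smul_left, classInner_irr_of_ne hθ δ.2 hne, mul_zero]
    rw [show c • θ = (fun n => (γ : K → ℂ) (f n)) + fun n => s (f n) from funext fun n => by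
      rw [Pi.smul_apply, smul_eq_mul, ← hres n, hsa]; rfl, classInner_add_left, hi, hj] at h0
    have : i + j = 0 := by exact_mod_cast h0
    omega
  obtain ⟨k, hk⟩ := classInner_isChar_nat (IsChar.comp ht f) (CharBasic.IsIrr.isCharacter δ.2)
  rw [hθδ, show (fun n : N => β n) = (fun n => (γ : K → ℂ) (f n)) + fun n => t (f n) from
    funext fun n => congrFun htb (f n), classInner_add_left, hi, hk]
  exact_mod_cast (by omega : i + k ≠ 0)

end Basic

section Cyclic

variable {H : Type u} [Group H] (N : Subgroup H) [hN : N.Normal]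

/-- The subgroup generated by `N` and `x`. -/
def cycOver (x : H) : Subgroup H := N ⊔ Subgroup.zpowers x

theorem le_cycOver (x : H) : N ≤ cycOver N x := le_sup_left

theorem self_mem_cycOver (x : H) : x ∈ cycOver N x :=
  Subgroup.mem_sup_right (Subgroup.mem_zpowers x)

theorem mem_cycOver {x k : H} :
    k ∈ cycOver N x ↔ (k : H ⧸ N) ∈ Subgroup.zpowers (x : H ⧸ N) := by
  constructor
  · intro h
    have h1 : cycOver N x ≤ (Subgroup.zpowers (x : H ⧸ N)).comap (QuotientGroup.mk' N) := by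
      refine sup_le (fun n hn => ?_) ?_
      · rw [Subgroup.mem_comap, QuotientGroup.mk'_apply, (QuotientGroup.eq_one_iff n).2 hn]
        exact one_mem _
      · rw [Subgroup.zpowers_le]
        exact Subgroup.mem_zpowers (x : H ⧸ N)
    exact h1 h
  · rintro ⟨i, hi⟩
    have hm : (x ^ i)⁻¹ * k ∈ N := QuotientGroup.eq.1 (by rw [QuotientGroup.mk_zpow]; exact hi)
    rw [show k = x ^ i * ((x ^ i)⁻¹ * k) by group]
    exact mul_mem (Subgroup.zpow_mem _ (self_mem_cycOver N x) i) (le_cycOver N x hm)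

theorem cycOver_cyclic (x : H) :
    IsCyclic (cycOver N x ⧸ N.subgroupOf (cycOver N x)) := by
  refine ⟨⟨((⟨x, self_mem_cycOver N x⟩ : cycOver N x) : _ ⧸ N.subgroupOf (cycOver N x)),
    fun q => ?_⟩⟩
  induction q using QuotientGroup.induction_on with
  | H k =>
    obtain ⟨i, hi⟩ := (mem_cycOver N).1 k.2
    refine ⟨i, ?_⟩
    show ((⟨x, self_mem_cycOver N x⟩ : cycOver N x) : _ ⧸ N.subgroupOf (cycOver N x)) ^ i = _
    rw [← QuotientGroup.mk_zpow, QuotientGroup.eq, Subgroup.mem_subgroupOf]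
    exact QuotientGroup.eq.1 (by rw [Subgroup.coe_zpow, QuotientGroup.mk_zpow]; exact hi)

/-- The subgroup of elements commuting with `x` modulo `N`. -/
def modCent (x : H) : Subgroup H :=
  (Subgroup.centralizer ({(x : H ⧸ N)} : Set (H ⧸ N))).comap (QuotientGroup.mk' N)

theorem mem_modCent {x h : H} : h ∈ modCent N x ↔ Commute (h : H ⧸ N) x := by
  rw [modCent, Subgroup.mem_comap, Subgroup.mem_centralizer_singleton_iff]
  rfl

theorem mk_conj {x z h : H} (hz : (z : H ⧸ N) = x) (hh : Commute (h : H ⧸ N) x) :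
    ((h * z * h⁻¹ : H) : H ⧸ N) = x := by
  rw [QuotientGroup.mk_mul, QuotientGroup.mk_mul, QuotientGroup.mk_inv, hz, hh.eq,
    mul_inv_cancel_right]

/-- Conjugation inside `N⟨x⟩` is trivial modulo `N`. -/
theorem mk_conj_cycOver {x a b : H} (ha : a ∈ cycOver N x) (hb : b ∈ cycOver N x) :
    ((b * a * b⁻¹ : H) : H ⧸ N) = a := by
  obtain ⟨i, hi⟩ := Subgroup.mem_zpowers_iff.1 ((mem_cycOver N).1 ha)
  obtain ⟨j, hj⟩ := Subgroup.mem_zpowers_iff.1 ((mem_cycOver N).1 hb)
  exact mk_conj N rfl (hi ▸ hj ▸ Commute.zpow_zpow_self (x : H ⧸ N) j i)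

end Cyclic

section Ext

variable {H : Type u} [Group H] [Fintype H] (N : Subgroup H) [hN : N.Normal] (θ : N → ℂ)

/-- A character of `N⟨x⟩` extending `θ`, extended by zero. -/
def IsExtAt (x : H) (f : H → ℂ) : Prop :=
  ∃ χ : cycOver N x → ℂ, IsIrrCharacter (cycOver N x) χ ∧
    (∀ n : N, χ (Subgroup.inclusion (le_cycOver N x) n) = θ n) ∧
    ∀ (z : H) (hz : z ∈ cycOver N x), f z = χ ⟨z, hz⟩

variable {N θ}

theorem exists_extAt (hθ : IsIrrCharacter N θ) (hinv : ∀ g : H, conjFun N θ g = θ) (x : H) :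
    ∃ f, IsExtAt N θ x f := by
  classical
  haveI := Fintype.ofFinite (cycOver N x)
  set N' := N.subgroupOf (cycOver N x)
  let e : N' ≃* N := Subgroup.subgroupOfEquivOfLe (le_cycOver N x)
  have hirr : IsIrrCharacter N' (fun n => θ (e n)) :=
    CharInduce.IsIrr.comp hθ e.toMonoidHom e.surjective
  obtain ⟨m, ρ, hρ, hρχ⟩ := hirr
  haveI := hρ
  obtain ⟨χ, hχ, hres⟩ := Extend.exists_extension_cyclic ρ (fun g k => by
    rw [hρχ]
    have h1 := congrFun (hinv (g : H)⁻¹) (e k)
    rw [conjFun_eq_comp] at h1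
    have h2 := congrFun (hinv (g : H)) (e k)
    rw [conjFun_eq_comp] at h2
    first
    | exact h1
    | exact h2) (cycOver_cyclic N x)
  refine ⟨extendByZero (cycOver N x) χ, χ, hχ, fun n => ?_, fun z hz => extendByZero_of_mem χ hz⟩
  have h1 := hres (e.symm n)
  rw [hρχ] at h1
  simp only [MulEquiv.apply_symm_apply] at h1
  rw [← h1]
  rfl

theorem extAt_unique (hθ : IsIrrCharacter N θ) {x : H} {f f' : H → ℂ} (hf : IsExtAt N θ x f)
    (hf' : IsExtAt N θ x f') : ∃ c : ℂ, ∀ z : H, (z : H ⧸ N) = x → f' z = c * f z := by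
  classical
  haveI := Fintype.ofFinite (cycOver N x)
  obtain ⟨χ, hχ, hr, hfχ⟩ := hf
  obtain ⟨χ', hχ', hr', hfχ'⟩ := hf'
  let e : N.subgroupOf (cycOver N x) ≃* N := Subgroup.subgroupOfEquivOfLe (le_cycOver N x)
  obtain ⟨l, hl, hll⟩ := CharInduce.exists_hom_between_extensions (N := N.subgroupOf (cycOver N x))
    (ϑ := fun n => θ (e n)) (CharInduce.IsIrr.comp hθ e.toMonoidHom e.surjective) hχ
    (fun n => hr (e n)) hχ' (fun n => hr' (e n))
  refine ⟨(l ⟨x, self_mem_cycOver N x⟩ : ℂ), fun z hz => ?_⟩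
  have hzK : z ∈ (cycOver N x) := (mem_cycOver N).2 (hz ▸ Subgroup.mem_zpowers _)
  rw [hfχ' z hzK, hfχ z hzK, hll]
  congr 1
  have hm : (⟨x, self_mem_cycOver N x⟩ : (cycOver N x))⁻¹ * ⟨z, hzK⟩ ∈ N.subgroupOf (cycOver N x) := by
    rw [Subgroup.mem_subgroupOf]
    exact QuotientGroup.eq.1 hz.symm
  have h2 := hl _ hm
  rw [map_mul, map_inv, inv_mul_eq_one] at h2
  rw [h2]

variable (N θ)

/-- `h` centralises `x` modulo `N` and fixes the extensions of `θ` on the coset of `x`. -/
def FixesExt (x h : H) : Prop :=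
  Commute (h : H ⧸ N) x ∧
    ∀ f, IsExtAt N θ x f → ∀ z : H, (z : H ⧸ N) = x → f (h * z * h⁻¹) = f z

/-- The elements fixing the extensions at `x`. -/
def extFixer (x : H) : Subgroup H where
  carrier := {h | FixesExt N θ x h}
  one_mem' := ⟨Commute.one_left _, fun f _ z _ => by simp⟩
  mul_mem' := fun {a b} ha hb => ⟨by rw [QuotientGroup.mk_mul]; exact ha.1.mul_left hb.1,
    fun f hf z hz => by
      rw [show a * b * z * (a * b)⁻¹ = a * (b * z * b⁻¹) * a⁻¹ by group,
        ha.2 f hf _ (mk_conj N hz hb.1), hb.2 f hf z hz]⟩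
  inv_mem' := fun {a} ha => ⟨by rw [QuotientGroup.mk_inv]; exact ha.1.inv_left,
    fun f hf z hz => by
      have hc : Commute (((a⁻¹ : H)) : H ⧸ N) (x : H ⧸ N) := by
        rw [QuotientGroup.mk_inv]; exact ha.1.inv_left
      have h1 := ha.2 f hf _ (mk_conj N hz hc)
      rw [show a * (a⁻¹ * z * a⁻¹⁻¹) * a⁻¹ = z by group] at h1
      exact h1.symm⟩

/-- A good class: everything centralising `x` modulo `N` fixes the extensions. -/
def IsGoodMod (x : H) : Prop := ∀ h : H, Commute (h : H ⧸ N) x → FixesExt N θ x h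

variable {N θ}

theorem exists_coset_ne_zero (hθ : IsIrrCharacter N θ) {x : H} {f : H → ℂ}
    (hf : IsExtAt N θ x f) : ∃ z : H, (z : H ⧸ N) = x ∧ f z ≠ 0 := by
  classical
  haveI := Fintype.ofFinite (cycOver N x)
  obtain ⟨χ, hχ, hr, hfχ⟩ := hf
  by_contra hno
  push Not at hno
  set N' := N.subgroupOf (cycOver N x)
  haveI := Fintype.ofFinite N'
  haveI := Fintype.ofFinite ((cycOver N x) ⧸ N')
  let η : (cycOver N x) → ℂ := fun k => if ((k : H) : H ⧸ N) = x then 1 else 0
  have hcl : IsClassFunction (cycOver N x) η := fun a b => by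
    have e : (((b * a * b⁻¹ : (cycOver N x)) : H) : H ⧸ N) = ((a : H) : H ⧸ N) :=
      mk_conj_cycOver N a.2 b.2
    simp only [η, e]
  have hco : ∀ n ∈ N', ∀ g : (cycOver N x), η (n * g) = η g := fun n hn g => by
    have e : (((n * g : (cycOver N x)) : H) : H ⧸ N) = ((g : H) : H ⧸ N) := by
      rw [Subgroup.coe_mul, QuotientGroup.mk_mul, (QuotientGroup.eq_one_iff (n : H)).2 hn, one_mul]
    simp only [η, e]
  have hexp := expansion_of_coset_invariant N' hcl hco
  have hzero : classInner (η * χ) χ = 0 := by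
    rw [classInner_def]
    refine mul_eq_zero_of_right _ (Finset.sum_eq_zero fun k _ => ?_)
    simp only [Pi.mul_apply, η]
    split_ifs with h
    · rw [← hfχ k k.2, hno k h]; simp
    · simp
  let e : N' ≃* N := Subgroup.subgroupOfEquivOfLe (le_cycOver N x)
  have hϑ : IsIrrCharacter N' (fun n => θ (e n)) :=
    CharInduce.IsIrr.comp hθ e.toMonoidHom e.surjective
  have hχN : ∀ n : N', χ n = θ (e n) := fun n => hr (e n)
  have hϑinv : ∀ y : (cycOver N x), conjFun N' (fun n => θ (e n)) y = fun n => θ (e n) := fun y => by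
    rw [show (fun n => θ (e n)) = fun n : N' => χ n from funext fun n => (hχN n).symm]
    exact conjFun_res N' (CharBasic.IsIrr.isClassFunction hχ) y
  have h1 : (fun _ : N' => (1 : ℂ)) * (fun n => θ (e n)) = fun n => θ (e n) := one_mul _
  obtain ⟨g1, g2, -⟩ := gallagher N' isIrrCharacter_one hϑ (conjFun_one_char N') hϑinv
    (by rw [h1]; exact hϑ) hχ hχN
  let infl : IrrCharacter ((cycOver N x) ⧸ N') → IrrCharacter (cycOver N x) := fun b =>
    ⟨fun g => (b : (cycOver N x) ⧸ N' → ℂ) g, CharInduce.IsIrr.comp b.2 (QuotientGroup.mk' N')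
      (QuotientGroup.mk'_surjective N')⟩
  have habove : ∀ b, infl b ∈ above N' (fun _ : N' => (1 : ℂ)) := fun b => by
    rw [mem_above, classInner_indFun_left N' _ _ (CharBasic.IsIrr.isClassFunction (infl b).2)]
    intro h
    refine ((constituent_one_iff N' (infl b).2).2 fun n hn => ?_) (by
      rw [← conj_classInner, h, map_zero])
    show (b : (cycOver N x) ⧸ N' → ℂ) (n : (cycOver N x) ⧸ N') = (b : (cycOver N x) ⧸ N' → ℂ) ((1 : (cycOver N x)) : (cycOver N x) ⧸ N')
    rw [(QuotientGroup.eq_one_iff n).2 hn, QuotientGroup.mk_one]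
  let one : IrrCharacter ((cycOver N x) ⧸ N') := ⟨fun _ => 1, isIrrCharacter_one⟩
  have key : classInner (η * χ) χ = classInner η (infl one : (cycOver N x) → ℂ) := by
    conv_lhs => rw [hexp, Finset.sum_mul, classInner_sum_left]
    rw [Finset.sum_eq_single one]
    · rw [smul_mul_assoc, classInner_smul_left]
      have e1 : (fun g : (cycOver N x) => (one : (cycOver N x) ⧸ N' → ℂ) g) * χ = χ := one_mul χ
      rw [e1, classInner_irr_self hχ, mul_one]
    · intro b _ hb
      rw [smul_mul_assoc, classInner_smul_left]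
      refine mul_eq_zero_of_right _ (classInner_irr_of_ne (g1 _ (habove b)).1 hχ fun e2 => hb ?_)
      have e3 := g2 _ (habove b) _ (habove one) (e2.trans (one_mul χ).symm)
      exact Subtype.ext (funext fun q => by
        induction q using QuotientGroup.induction_on with
        | H g => exact congrFun (congrArg Subtype.val e3) g)
    · simp
  rw [hzero] at key
  rw [classInner_def] at key
  have h0 : (∑ k : (cycOver N x), η k * conj ((infl one : (cycOver N x) → ℂ) k)) ≠ 0 := by
    simp only [infl, one, map_one, mul_one, η, Finset.sum_boole, Nat.cast_ne_zero]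
    rw [← Nat.pos_iff_ne_zero, Finset.card_pos]
    exact ⟨⟨x, self_mem_cycOver N x⟩, by simp⟩
  exact mul_ne_zero (inv_ne_zero (card_ne_zero_complex (cycOver N x))) h0 key.symm

/-- A criterion for fixing the extensions: a root `y` of `x` modulo `N` commuting with `h`. -/
theorem fixesExt_of_root (hθ : IsIrrCharacter N θ) (hinv : ∀ g : H, conjFun N θ g = θ) {x y h : H}
    (hhy : Commute (h : H ⧸ N) y) {e : ℕ} (hxy : (x : H ⧸ N) = (y : H ⧸ N) ^ e)
    (hcase : h ∈ cycOver N y ∨ (h : H ⧸ N) ^ e = 1) : FixesExt N θ x h := by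
  classical
  have hhx : Commute (h : H ⧸ N) x := hxy ▸ hhy.pow_right e
  refine ⟨hhx, ?_⟩
  haveI := Fintype.ofFinite (cycOver N y)
  haveI := Fintype.ofFinite (cycOver N x)
  obtain ⟨g, hg⟩ := exists_extAt hθ hinv y
  obtain ⟨ψ, hψ, hψr, hgψ⟩ := id hg
  have hle : cycOver N x ≤ cycOver N y := fun z hz => by
    rw [mem_cycOver, hxy] at hz
    exact (mem_cycOver N).2 ((Subgroup.zpowers_le.2 (Subgroup.npow_mem_zpowers _ e)) hz)
  have hgx : IsExtAt N θ x g :=
    ⟨fun k => ψ (Subgroup.inclusion hle k),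
      isIrr_of_res (le_cycOver N x) (CharInduce.IsChar.comp (CharBasic.IsIrr.isCharacter hψ) _) hθ
        (fun n => hψr n),
      fun n => hψr n, fun z hz => hgψ z (hle hz)⟩
  suffices hmain : ∀ z : H, (z : H ⧸ N) = x → g (h * z * h⁻¹) = g z by
    intro f hf z hz
    obtain ⟨c, hc⟩ := extAt_unique hθ hgx hf
    rw [hc z hz, hc _ (mk_conj N hz hhx), hmain z hz]
  have hin : ∀ z : H, (z : H ⧸ N) = x → z ∈ cycOver N y := fun z hz =>
    hle ((mem_cycOver N).2 (by rw [hz]; exact Subgroup.mem_zpowers _))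
  intro z hz
  rcases hcase with hK | hpow
  · rw [hgψ z (hin z hz), hgψ _ (hin _ (mk_conj N hz hhx))]
    exact CharBasic.IsIrr.isClassFunction hψ ⟨z, hin z hz⟩ ⟨h, hK⟩
  -- the twist of the extension at `y`
  have hconjK : ∀ k : cycOver N y, h * (k : H) * h⁻¹ ∈ cycOver N y := fun k => by
    obtain ⟨i, hi⟩ := (mem_cycOver N).1 k.2
    exact (mem_cycOver N).2 ⟨i, hi.trans (mk_conj N rfl (hi ▸ hhy.zpow_right i)).symm⟩
  let c : cycOver N y →* cycOver N y :=
    { toFun := fun k => ⟨h * (k : H) * h⁻¹, hconjK k⟩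
      map_one' := Subtype.ext (by simp)
      map_mul' := fun a b => Subtype.ext (by push_cast; group) }
  have hcres : ∀ n : N, ψ (c (Subgroup.inclusion (le_cycOver N y) n)) = θ n := fun n => by
    have e1 : c (Subgroup.inclusion (le_cycOver N y) n) =
        Subgroup.inclusion (le_cycOver N y) (MulAut.conjNormal h n) := Subtype.ext rfl
    rw [e1, hψr]
    have h2 := congrFun (hinv h) n
    rw [conjFun_eq_comp] at h2
    exact h2
  have hgc : IsExtAt N θ y (fun z => g (h * z * h⁻¹)) :=
    ⟨fun k => ψ (c k),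
      isIrr_of_res (le_cycOver N y) (CharInduce.IsChar.comp (CharBasic.IsIrr.isCharacter hψ) c) hθ
        hcres,
      hcres, fun z hz => hgψ _ (hconjK ⟨z, hz⟩)⟩
  obtain ⟨χ', hχ', hr', hfχ'⟩ := hgc
  let em : N.subgroupOf (cycOver N y) ≃* N := Subgroup.subgroupOfEquivOfLe (le_cycOver N y)
  obtain ⟨l, hl, hll⟩ := CharInduce.exists_hom_between_extensions (N := N.subgroupOf (cycOver N y))
    (ϑ := fun n => θ (em n)) (CharInduce.IsIrr.comp hθ em.toMonoidHom em.surjective) hψ
    (fun n => hψr (em n)) hχ' (fun n => hr' (em n))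
  have htw : ∀ (i : ℕ) (w : H) (hw : w ∈ (cycOver N y)), (w : H ⧸ N) = (y : H ⧸ N) ^ i →
      g (h * w * h⁻¹) = (l ⟨y, self_mem_cycOver N y⟩ : ℂ) ^ i * g w := by
    intro i w hw hwi
    have h1 : g (h * w * h⁻¹) = (l ⟨w, hw⟩ : ℂ) * g w := by
      rw [hgψ w hw, ← congrFun hll ⟨w, hw⟩]
      exact hfχ' w hw
    rw [h1, ← Units.val_pow_eq_pow_val, ← map_pow]
    congr 2
    have hm : ((⟨y, self_mem_cycOver N y⟩ : (cycOver N y)) ^ i)⁻¹ * ⟨w, hw⟩ ∈ N.subgroupOf (cycOver N y) := by
      rw [Subgroup.mem_subgroupOf]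
      push_cast
      exact QuotientGroup.eq.1 (by rw [QuotientGroup.mk_pow]; exact hwi.symm)
    have h2 := hl _ hm
    rw [map_mul, map_inv, inv_mul_eq_one] at h2
    rw [h2]
  set ω := (l ⟨y, self_mem_cycOver N y⟩ : ℂ)
  -- iterate
  obtain ⟨w, hwy, hw0⟩ := exists_coset_ne_zero hθ hg
  have hyK : ∀ v : H, (v : H ⧸ N) = y → v ∈ (cycOver N y) := fun v hv =>
    (mem_cycOver N).2 (hv ▸ Subgroup.mem_zpowers _)
  have hiter : ∀ j : ℕ, ((h ^ j * w * (h ^ j)⁻¹ : H) : H ⧸ N) = y ∧
      g (h ^ j * w * (h ^ j)⁻¹) = ω ^ j * g w := by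
    intro j
    induction j with
    | zero => simp [hwy]
    | succ j ih =>
      have e1 : h ^ (j + 1) * w * (h ^ (j + 1))⁻¹ = h * (h ^ j * w * (h ^ j)⁻¹) * h⁻¹ := by group
      rw [e1]
      refine ⟨mk_conj N ih.1 hhy, ?_⟩
      rw [htw 1 _ (hyK _ ih.1) (by rw [pow_one]; exact ih.1), ih.2]
      ring
  have hn : h ^ e ∈ N := by rw [← QuotientGroup.eq_one_iff, QuotientGroup.mk_pow, hpow]
  have hclass : g (h ^ e * w * (h ^ e)⁻¹) = g w := by
    rw [hgψ w (hyK w hwy), hgψ _ (hyK _ (hiter e).1)]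
    exact CharBasic.IsIrr.isClassFunction hψ ⟨w, hyK w hwy⟩ ⟨h ^ e, le_cycOver N y hn⟩
  rw [(hiter e).2] at hclass
  have hω : ω ^ e = 1 := (mul_eq_right₀ hw0).1 hclass
  rw [htw e z (hin z hz) (hz.trans hxy), hω, one_mul]

/-- The class function of a good class. -/
theorem exists_classFun_of_good (hθ : IsIrrCharacter N θ) (hinv : ∀ g : H, conjFun N θ g = θ)
    {x : H} (hx : IsGoodMod N θ x) :
    ∃ F : H → ℂ, IsClassFunction H F ∧ (∃ z : H, (z : H ⧸ N) = x ∧ F z ≠ 0) ∧
      (∀ z : H, F z ≠ 0 → IsConj (x : H ⧸ N) (z : H ⧸ N)) ∧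
      ∀ β : IrrCharacter H, β ∉ above N θ → classInner F (β : H → ℂ) = 0 := by
  classical
  haveI := Fintype.ofFinite N
  haveI := Fintype.ofFinite (cycOver N x)
  obtain ⟨f, hf⟩ := exists_extAt hθ hinv x
  obtain ⟨χ, hχ, hr, hfχ⟩ := id hf
  set φ : (cycOver N x) → ℂ := fun k => if ((k : H) : H ⧸ N) = x then χ k else 0 with hφ
  have hval : ∀ z : H, extendByZero (cycOver N x) φ z = if (z : H ⧸ N) = x then f z else 0 := fun z => by
    by_cases hz : z ∈ (cycOver N x)
    · rw [extendByZero_of_mem φ hz, hfχ z hz]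
    · rw [extendByZero_of_not_mem φ hz, if_neg fun h => hz
        ((mem_cycOver N).2 (by rw [h]; exact Subgroup.mem_zpowers _))]
  refine ⟨indFun (cycOver N x) φ, isClassFunction_indFun (cycOver N x) φ, ?_, ?_, ?_⟩
  · obtain ⟨z, hz, hz0⟩ := exists_coset_ne_zero hθ hf
    refine ⟨z, hz, fun h => ?_⟩
    have h1 := card_mul_indFun (cycOver N x) φ z
    rw [h, mul_zero] at h1
    simp only [hval] at h1
    rw [Finset.sum_congr rfl (g := fun g : H =>
      if ((g⁻¹ * z * g : H) : H ⧸ N) = x then f z else 0) (fun g _ => by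
        split_ifs with hg
        · have hg' : Commute ((g⁻¹ : H) : H ⧸ N) (x : H ⧸ N) := by
            rw [QuotientGroup.mk_mul, QuotientGroup.mk_mul, hz] at hg
            rw [QuotientGroup.mk_inv] at hg ⊢
            show _ * _ = _ * _
            conv_rhs => rw [← hg, mul_assoc, mul_inv_cancel, mul_one]
          have := (hx g⁻¹ hg').2 f hf z hz
          rwa [inv_inv] at this
        · rfl), ← Finset.sum_filter, Finset.sum_const, eq_comm, nsmul_eq_mul, mul_eq_zero,
      Nat.cast_eq_zero, Finset.card_eq_zero] at h1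
    rcases h1 with h1 | h1
    · exact absurd h1 (Finset.ne_empty_of_mem (a := (1 : H)) (by simp [hz]))
    · exact hz0 h1
  · intro z hz
    have h1 := card_mul_indFun (cycOver N x) φ z
    have h2 : (∑ g : H, extendByZero (cycOver N x) φ (g⁻¹ * z * g)) ≠ 0 := by
      rw [← h1]; exact mul_ne_zero (card_ne_zero_complex (cycOver N x)) hz
    obtain ⟨g, -, hg⟩ := Finset.exists_ne_zero_of_sum_ne_zero h2
    rw [hval] at hg
    have he : ((g⁻¹ * z * g : H) : H ⧸ N) = x := by
      by_contra hne; exact hg (if_neg hne)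
    refine (isConj_iff.2 ⟨((g⁻¹ : H) : H ⧸ N), ?_⟩).symm
    rw [← he]
    simp only [QuotientGroup.mk_mul, QuotientGroup.mk_inv, inv_inv]
  · intro β hβ
    rw [classInner_indFun_left (cycOver N x) φ _ (CharBasic.IsIrr.isClassFunction β.2)]
    set N' := N.subgroupOf (cycOver N x)
    haveI := Fintype.ofFinite N'
    haveI := Fintype.ofFinite ((cycOver N x) ⧸ N')
    let η : (cycOver N x) → ℂ := fun k => if ((k : H) : H ⧸ N) = x then 1 else 0
    have hcl : IsClassFunction (cycOver N x) η := fun a b => by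
      have e : (((b * a * b⁻¹ : (cycOver N x)) : H) : H ⧸ N) = ((a : H) : H ⧸ N) :=
        mk_conj_cycOver N a.2 b.2
      simp only [η, e]
    have hco : ∀ n ∈ N', ∀ g : (cycOver N x), η (n * g) = η g := fun n hn g => by
      have e : (((n * g : (cycOver N x)) : H) : H ⧸ N) = ((g : H) : H ⧸ N) := by
        rw [Subgroup.coe_mul, QuotientGroup.mk_mul, (QuotientGroup.eq_one_iff (n : H)).2 hn, one_mul]
      simp only [η, e]
    have hφe : φ = η * χ := funext fun k => by
      simp only [hφ, Pi.mul_apply, η]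
      split_ifs <;> simp
    rw [hφe, expansion_of_coset_invariant N' hcl hco, Finset.sum_mul, classInner_sum_left]
    refine Finset.sum_eq_zero fun b _ => ?_
    rw [smul_mul_assoc, classInner_smul_left]
    refine mul_eq_zero_of_right _ ?_
    by_contra hne
    refine hβ ((mem_above N).2 ?_)
    have hbc : IsCharacter (cycOver N x) ((fun g : (cycOver N x) => (b : (cycOver N x) ⧸ N' → ℂ) g) * χ) :=
      CharInduce.IsChar.mul (CharInduce.IsChar.comp (CharBasic.IsIrr.isCharacter b.2)
        (QuotientGroup.mk' N')) (CharBasic.IsIrr.isCharacter hχ)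
    have h1 := classInner_res_ne_zero (le_cycOver N x) hbc hθ (c := (b : (cycOver N x) ⧸ N' → ℂ) 1)
      (fun n => by
        have e : ((Subgroup.inclusion (le_cycOver N x) n : (cycOver N x)) : (cycOver N x) ⧸ N') = 1 :=
          (QuotientGroup.eq_one_iff _).2 (by rw [Subgroup.mem_subgroupOf]; exact n.2)
        rw [Pi.mul_apply, e, hr]) β.2 hne
    rw [classInner_indFun_left N θ _ (CharBasic.IsIrr.isClassFunction β.2)]
    intro h0
    apply h1
    rw [← conj_classInner, h0, map_zero]

/-- Good classes bound the number of characters over `θ`. -/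
theorem card_le_above (hθ : IsIrrCharacter N θ) (hinv : ∀ g : H, conjFun N θ g = θ) {ι : Type v}
    [Fintype ι] (x : ι → H) (hgood : ∀ i, IsGoodMod N θ (x i))
    (hne : ∀ i j, IsConj (x i : H ⧸ N) (x j) → i = j) : Fintype.card ι ≤ (above N θ).card := by
  classical
  choose F hFc hF0 hFs hFa using fun i => exists_classFun_of_good hθ hinv (hgood i)
  have hli : LinearIndependent ℂ F := by
    rw [Fintype.linearIndependent_iff]
    intro a ha i
    obtain ⟨z, hz, hz0⟩ := hF0 i
    have h1 := congrFun ha z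
    simp only [Finset.sum_apply, Pi.smul_apply, smul_eq_mul, Pi.zero_apply] at h1
    rw [Finset.sum_eq_single i] at h1
    · exact (mul_eq_zero.1 h1).resolve_right hz0
    · intro j _ hji
      refine mul_eq_zero_of_right _ ?_
      by_contra h
      exact hji (hne j i (hz ▸ hFs j z h))
    · simp
  set S : Submodule ℂ (H → ℂ) :=
    Submodule.span ℂ (((above N θ).image fun β : IrrCharacter H => (β : H → ℂ)) : Set (H → ℂ))
  have hmem : ∀ i, F i ∈ S := by
    intro i
    rw [classFunction_expansion (hFc i)]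
    refine Submodule.sum_mem _ fun β _ => ?_
    by_cases hβ : β ∈ above N θ
    · exact Submodule.smul_mem _ _ (Submodule.subset_span (Finset.mem_image_of_mem _ hβ))
    · rw [hFa i β hβ, zero_smul]; exact zero_mem _
  have hli' : LinearIndependent ℂ (fun i => (⟨F i, hmem i⟩ : S)) :=
    LinearIndependent.of_comp S.subtype hli
  exact hli'.fintype_card_le_finrank.trans ((finrank_span_finset_le_card _).trans
    Finset.card_image_le)

/-- A single character over `θ` forces a square index. -/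
theorem exists_sq_index (hθ : IsIrrCharacter N θ) (hinv : ∀ g : H, conjFun N θ g = θ)
    (h1 : (above N θ).card = 1) : ∃ e : ℕ, N.index = e ^ 2 := by
  classical
  haveI := Fintype.ofFinite N
  obtain ⟨β, hβ⟩ := Finset.card_eq_one.1 h1
  obtain ⟨e, he⟩ := classInner_indFun_nat N (CharBasic.IsIrr.isCharacter hθ)
    (CharBasic.IsIrr.isCharacter β.2)
  refine ⟨e, ?_⟩
  have h2 := classInner_indFun_self_of_invariant N hθ hinv
  rw [classInner_eq_sum (isClassFunction_indFun N θ), Finset.sum_eq_single β] at h2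
  · rw [he, Complex.conj_natCast] at h2
    exact_mod_cast (by rw [← h2]; push_cast; ring : ((N.index : ℕ) : ℂ) = ((e ^ 2 : ℕ) : ℂ))
  · intro b _ hb
    have : classInner (indFun N θ) (b : H → ℂ) = 0 := by
      by_contra h
      exact hb (Finset.mem_singleton.1 (hβ ▸ (mem_above N).2 h))
    rw [this, zero_mul]
  · simp

end Ext

end Cfsg.Agent.H35.ThreeBlock
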