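import Cfsg.Agent.BlockBasic.NormalDefect
import Cfsg.Agent.CharInduce.Correspondence
import Cfsg.Agent.H35.ThreeBlock.GoodClass

/-!
# The block of `P C(P)` below a block with normal defect group

Its members are indexed on the linear characters of `P`; the characters above them have height
zero.
-/

set_option linter.unusedSectionVars false
set_option linter.style.haveILetI false

open scoped ComplexConjugate

namespace Cfsg.Agent.H35.ThreeBlock

open CharBasic BlockBasic CharInduce

universe u

variable {G : Type u} [Group G] [Fintype G]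

/-- What the reduction needs of a covered block of a normal subgroup. -/
structure Below (p : ℕ) (M : Ideal Cfsg.AlgInt) (B : Set (Cfsg.IrrCharacter G))
    (P L : Subgroup G) where
  /-- The covered block. -/
  blk : Set (Cfsg.IrrCharacter L)
  isBlk : Cfsg.IsPBlock M blk
  /-- Its member trivial on `P`. -/
  base : Cfsg.IrrCharacter L
  base_mem : base ∈ blk
  base_triv : ∀ x ∈ P.subgroupOf L, (base : L → ℂ) x = (base : L → ℂ) 1
  isDef : Cfsg.IsDefectGroup p M blk (P.subgroupOf L)
  lies : ∀ ψ ∈ blk, ∀ χ : Cfsg.IrrCharacter G,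
    (haveI := Fintype.ofFinite L; classInner (fun n : L => (χ : G → ℂ) n) (ψ : L → ℂ)) ≠ 0 → χ ∈ B

variable {p : ℕ} [hp : Fact p.Prime] {M : Ideal Cfsg.AlgInt}

theorem sup_centralizer_normal (P : Subgroup G) [P.Normal] :
    (P ⊔ Subgroup.centralizer (P : Set G)).Normal := by
  haveI : (Subgroup.centralizer (P : Set G)).Normal := by
    refine ⟨fun x hx g => ?_⟩
    rw [Subgroup.mem_centralizer_iff] at hx ⊢
    intro y hy
    have := hx (g⁻¹ * y * g) (Subgroup.Normal.conj_mem' ‹P.Normal› y hy g)
    calc y * (g * x * g⁻¹) = g * ((g⁻¹ * y * g) * x) * g⁻¹ := by group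
      _ = g * (x * (g⁻¹ * y * g)) * g⁻¹ := by rw [this]
      _ = g * x * g⁻¹ * y := by group
  exact inferInstance

theorem exists_below (hM : Cfsg.IsPModular p M) {B : Set (Cfsg.IrrCharacter G)}
    (hB : Cfsg.IsPBlock M B) {P L : Subgroup G} [P.Normal] [L.Normal]
    (hD : Cfsg.IsDefectGroup p M B P) (hL : L = P ⊔ Subgroup.centralizer (P : Set G)) :
    Nonempty (Below p M B P L) := by
  classical
  haveI := Fintype.ofFinite L
  have hP : IsPGroup p P := IsPGroup.of_card (H35.card_defectGroup hM hB hD)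
  have hPL : P ≤ L := hL ▸ le_sup_left
  have hCL : Subgroup.centralizer (P : Set G) ≤ L := hL ▸ le_sup_right
  haveI := CentralDefect.normal_of_sup (NormalDefect.subgroupOf_sup_centralizer (P := P) hL)
  obtain ⟨χ₀, hχ₀⟩ := isPBlock_nonempty hM hB
  obtain ⟨ψ₀, hψ₀⟩ := CharInduce.exists_constituent
    (CharInduce.IsChar.res (IsIrr.isCharacter χ₀.2) L)
    (fun h0 => irr_one_ne_zero χ₀.2 (by simpa using congrFun h0 1))
  have hd := NormalDefect.isDefectGroup_covered hPL hM hB hD hχ₀ hψ₀
  obtain ⟨θ, hθ, ht⟩ := H86.exists_trivial_on hM (isPBlock_blockOf M ψ₀) (P.subgroupOf L)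
    (hP.comap_of_injective L.subtype L.subtype_injective)
  refine ⟨⟨blockOf M (ψ₀ : L → ℂ), isPBlock_blockOf M ψ₀, θ, hθ, ht, hd, fun ψ hψ χ hχ => ?_⟩⟩
  have i1 := NormalDefect.induced_covered hP hCL hM (isPBlock_blockOf M χ) (self_mem_blockOf hM χ)
    (ψ := ψ) (by convert hχ)
  have i2 := NormalDefect.induced_covered hP hCL hM hB hχ₀ hψ₀
  rw [isPBlock_eq_blockOf hM hB hχ₀]
  intro x
  have e1 := i1.2.2 ψ (self_mem_blockOf hM ψ) χ (self_mem_blockOf hM χ) x
  have e2 := i2.2.2 ψ hψ χ₀ hχ₀ x
  simpa using memLocalIdeal_sub hM e1 e2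

variable {B : Set (Cfsg.IrrCharacter G)} {P L : Subgroup G} [P.Normal] [L.Normal]

theorem Below.exists_linear (D : Below p M B P L) (hM : Cfsg.IsPModular p M)
    (hL : L = P ⊔ Subgroup.centralizer (P : Set G)) (f : P →* ℂˣ) :
    ∃! ψ : Cfsg.IrrCharacter L, ψ ∈ D.blk ∧
      ∀ x : P, (ψ : L → ℂ) ⟨x, (hL ▸ le_sup_left : P ≤ L) x.2⟩ =
        (D.base : L → ℂ) 1 * (f x : ℂ) := by
  classical
  haveI := Fintype.ofFinite L
  set P' := P.subgroupOf L
  haveI := Fintype.ofFinite P'
  have hPL : P ≤ L := hL ▸ le_sup_left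
  have hGL := NormalDefect.subgroupOf_sup_centralizer (P := P) hL
  haveI := CentralDefect.normal_of_sup hGL
  choose l hl using fun ψ : D.blk => NormalDefect.defect_constituent hM D.isBlk hGL D.isDef
    D.base_mem D.base_triv ψ.2
  have hinj : Function.Injective l := by
    intro a b hab
    by_contra hne
    have h1 := CentralDefect.sum_defect_mul_conj hM D.isBlk hGL D.isDef D.base_mem D.base_triv a.2 b.2
    have h2 := CentralDefect.sum_defect_mul_conj hM D.isBlk hGL D.isDef D.base_mem D.base_triv a.2 a.2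
    rw [if_neg (fun h => hne (Subtype.ext h))] at h1
    rw [if_pos rfl] at h2
    simp only [hl, hab] at h1 h2
    exact mul_ne_zero (Nat.cast_ne_zero.2 Nat.card_pos.ne')
      (pow_ne_zero 2 (irr_one_ne_zero D.base.2)) (h2.symm.trans h1)
  haveI : Finite D.blk := Finite.of_injective l hinj
  have hbij : Function.Bijective l := by
    refine hinj.bijective_of_nat_card_le ?_
    rw [CentralDefect.card_eq hM D.isBlk hGL D.isDef D.base_mem D.base_triv,
      CharBasic.card_irrCharacter]
  let e : P' ≃* P := Subgroup.subgroupOfEquivOfLe hPL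
  obtain ⟨ψ, hψ⟩ := hbij.2 ⟨fun y : P' => ((f.comp e.toMonoidHom y : ℂˣ) : ℂ),
    CharInduce.isIrrCharacter_hom (f.comp e.toMonoidHom)⟩
  have hval : ∀ x : P, (ψ.1 : L → ℂ) ⟨x, hPL x.2⟩ = (D.base : L → ℂ) 1 * (f x : ℂ) := fun x => by
    have h := hl ψ ⟨⟨x, hPL x.2⟩, x.2⟩
    rw [hψ] at h
    exact h
  refine ⟨ψ.1, ⟨ψ.2, hval⟩, fun φ hφ => ?_⟩
  have hlφ : l ⟨φ, hφ.1⟩ = l ψ := Subtype.ext (funext fun y => by
    refine mul_left_cancel₀ (irr_one_ne_zero D.base.2) ?_
    rw [← hl, ← hl]
    exact (hφ.2 (e y)).trans (hval (e y)).symm)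
  exact congrArg Subtype.val (hinj hlφ)

/-- The member with a given linear restriction. -/
noncomputable def Below.mem (D : Below p M B P L) (hM : Cfsg.IsPModular p M)
    (hL : L = P ⊔ Subgroup.centralizer (P : Set G)) (f : P →* ℂˣ) : Cfsg.IrrCharacter L :=
  (D.exists_linear hM hL f).choose

variable (D : Below p M B P L) (hM : Cfsg.IsPModular p M)
  (hL : L = P ⊔ Subgroup.centralizer (P : Set G))

theorem Below.mem_blk (f : P →* ℂˣ) : D.mem hM hL f ∈ D.blk :=
  (D.exists_linear hM hL f).choose_spec.1.1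

theorem Below.mem_apply (f : P →* ℂˣ) (x : P) :
    (D.mem hM hL f : L → ℂ) ⟨x, (hL ▸ le_sup_left : P ≤ L) x.2⟩ =
      (D.base : L → ℂ) 1 * (f x : ℂ) :=
  (D.exists_linear hM hL f).choose_spec.1.2 x

theorem Below.eq_mem (f : P →* ℂˣ) {ψ : Cfsg.IrrCharacter L} (h : ψ ∈ D.blk)
    (hv : ∀ x : P, (ψ : L → ℂ) ⟨x, (hL ▸ le_sup_left : P ≤ L) x.2⟩ =
      (D.base : L → ℂ) 1 * (f x : ℂ)) : ψ = D.mem hM hL f :=
  (D.exists_linear hM hL f).choose_spec.2 ψ ⟨h, hv⟩

theorem Below.mem_one : D.mem hM hL 1 = D.base :=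
  (D.eq_mem hM hL 1 D.base_mem fun x => by
    have := D.base_triv ⟨x, (hL ▸ le_sup_left : P ≤ L) x.2⟩ x.2
    rw [this]
    simp).symm

theorem Below.mem_injective : Function.Injective (D.mem hM hL) := fun f g h =>
  haveI := Fintype.ofFinite L
  MonoidHom.ext fun x => Units.ext (mul_left_cancel₀ (irr_one_ne_zero D.base.2)
    (by rw [← D.mem_apply hM hL f x, ← D.mem_apply hM hL g x, h]))

/-- Conjugation of linear characters of a normal subgroup, a right action. -/
def conjHom (f : P →* ℂˣ) (g : G) : P →* ℂˣ := f.comp (MulAut.conjNormal g).toMonoidHom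

theorem conjHom_apply (f : P →* ℂˣ) (g : G) (x : P) :
    conjHom f g x = f ⟨g * x * g⁻¹, Subgroup.Normal.conj_mem ‹P.Normal› x x.2 g⟩ := by
  show f (MulAut.conjNormal g x) = _
  congr 1

/-- The inertia group of a member is that of the base met with the stabiliser of the linear
character, and conjugation follows the linear character. -/
theorem Below.conj_mem {g : G} (hg : g ∈ inertia L (D.base : L → ℂ)) (f : P →* ℂˣ) :
    conjFun L (D.mem hM hL f : L → ℂ) g = (D.mem hM hL (conjHom f g) : L → ℂ) := by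
  classical
  haveI := Fintype.ofFinite L
  set φ := H80.conjTwist L (D.mem hM hL f) g with hφ
  have hbase : H80.conjTwist L D.base g = D.base := Subtype.ext (by
    have h := (mem_inertia L).1 hg
    rw [conjFun_eq_comp] at h
    exact h)
  have hblk : φ ∈ D.blk := by
    have h1 := isPBlock_eq_blockOf hM D.isBlk D.base_mem
    rw [h1, ← hbase]
    exact (mem_blockOf_twist_iff L D.base _ g).2 (h1 ▸ D.mem_blk hM hL f)
  have e := D.eq_mem hM hL (conjHom f g) hblk fun x => by
    rw [conjHom_apply]
    refine Eq.trans ?_ (D.mem_apply hM hL f ⟨g * x * g⁻¹, _⟩)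
    rw [hφ, H80.conjTwist_apply]
  rw [← e, conjFun_eq_comp]
  rfl

theorem Below.mem_inertia_iff (f : P →* ℂˣ) (g : G) :
    g ∈ inertia L (D.mem hM hL f : L → ℂ) ↔
      g ∈ inertia L (D.base : L → ℂ) ∧ conjHom f g = f := by
  classical
  haveI := Fintype.ofFinite L
  constructor
  · intro hg
    have hT : g ∈ inertia L (D.base : L → ℂ) := by
      have hfix : H80.conjTwist L (D.mem hM hL f) g = D.mem hM hL f := Subtype.ext (by
        have h := (CharInduce.mem_inertia L).1 hg
        rw [conjFun_eq_comp] at h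
        exact h)
      have hblk : H80.conjTwist L D.base g ∈ D.blk := by
        rw [isPBlock_eq_blockOf hM D.isBlk (D.mem_blk hM hL f), ← hfix]
        exact (mem_blockOf_twist_iff L _ _ g).2
          (isPBlock_eq_blockOf hM D.isBlk (D.mem_blk hM hL f) ▸ D.base_mem)
      have hGL := NormalDefect.subgroupOf_sup_centralizer (P := P) hL
      haveI := CentralDefect.normal_of_sup hGL
      have heq := CentralDefect.trivial_unique hM D.isBlk hGL D.isDef hblk D.base_mem
        (fun x hx => by
          rw [H80.conjTwist_apply, H80.conjTwist_apply, D.base_triv _ (by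
            rw [Subgroup.mem_subgroupOf]
            exact Subgroup.Normal.conj_mem ‹P.Normal› _ hx g)]
          exact congrArg (D.base : L → ℂ) (Subtype.ext (by simp))) D.base_triv
      rw [CharInduce.mem_inertia, conjFun_eq_comp]
      exact congrArg Subtype.val heq
    refine ⟨hT, D.mem_injective hM hL (Subtype.ext ?_)⟩
    rw [← D.conj_mem hM hL hT f]
    exact (CharInduce.mem_inertia L).1 hg
  · rintro ⟨hT, hf⟩
    rw [CharInduce.mem_inertia, D.conj_mem hM hL hT f, hf]

include hM hL in
/-- The index of `L` in the inertia group of the base is prime to `p`. -/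
theorem Below.not_dvd_relIndex (hB : Cfsg.IsPBlock M B) (hD : Cfsg.IsDefectGroup p M B P) :
    ¬ p ∣ L.relIndex (inertia L (D.base : L → ℂ)) := by
  haveI := Fintype.ofFinite L
  obtain ⟨χ, hχ⟩ := exists_over L D.base
  exact NormalDefect.not_dvd_relIndex_inertia hM (IsPGroup.of_card (H35.card_defectGroup hM hB hD))
    (hL ▸ le_sup_left) (hL ▸ le_sup_right) hB hD (D.lies _ D.base_mem χ (by convert hχ)) hχ

/-- The members over a linear character have height zero. -/
theorem Below.height_zero (hB : Cfsg.IsPBlock M B) (hD : Cfsg.IsDefectGroup p M B P)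
    (f : P →* ℂˣ) {χ : Cfsg.IrrCharacter G} (hχ : χ ∈ above L (D.mem hM hL f : L → ℂ)) :
    χ ∈ B ∧ Cfsg.blockHeight p B (χ : G → ℂ) = 0 := by
  classical
  haveI := Fintype.ofFinite L
  have hne : classInner (fun n : L => (χ : G → ℂ) n) (D.mem hM hL f : L → ℂ) ≠ 0 := by
    intro h0
    rw [mem_above, classInner_indFun_left L _ _ (IsIrr.isClassFunction χ.2)] at hχ
    apply hχ
    rw [← conj_classInner, h0, map_zero]
  refine ⟨D.lies _ (D.mem_blk hM hL f) χ (by convert hne), ?_⟩
  have hPL : P ≤ L := hL ▸ le_sup_left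
  have hGL := NormalDefect.subgroupOf_sup_centralizer (P := P) hL
  have hfac := CentralDefect.factorization_degree hM D.isBlk hGL D.isDef D.base_mem D.base_triv
  have hPidx : P.index.factorization p =
      (P.subgroupOf L).index.factorization p + L.index.factorization p := by
    rw [show (P.subgroupOf L).index = P.relIndex L from rfl, ← Subgroup.relIndex_mul_index hPL,
      Nat.factorization_mul (show P.relIndex L ≠ 0 from Subgroup.index_ne_zero_of_finite)
        Subgroup.index_ne_zero_of_finite, Finsupp.add_apply]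
  obtain ⟨g, hg⟩ := exists_isDefectClass (p := p) hM hB
  have hmin : sInf ((fun φ : Cfsg.IrrCharacter G =>
      (Cfsg.charDegree (φ : G → ℂ)).factorization p) '' B) = P.index.factorization p := by
    rw [H35.sInf_degree_eq hM hB hg]
    have h2 := congrArg (fun n => n.factorization p) (P.card_mul_index.trans
      (Subgroup.centralizer ({g} : Set G)).card_mul_index.symm)
    simp only [Nat.factorization_mul Nat.card_pos.ne' Subgroup.index_ne_zero_of_finite,
      Finsupp.add_apply] at h2
    rw [H35.card_defectGroup hM hB hD, hp.out.factorization_pow,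
      Finsupp.single_eq_same, H35.blockDefect_eq hM hB hg] at h2
    omega
  have hdeg : Cfsg.charDegree (D.mem hM hL f : L → ℂ) = Cfsg.charDegree (D.base : L → ℂ) := by
    have h := D.mem_apply hM hL f 1
    rw [map_one, Units.val_one, mul_one] at h
    unfold Cfsg.charDegree
    rw [show (1 : L) = ⟨((1 : P) : G), hPL (1 : P).2⟩ from Subtype.ext rfl, h]
    rfl
  obtain ⟨hdvd, hq⟩ := H35.DegreeIndex.degree_quotient_dvd_index L χ.2 (D.mem hM hL f).2 hne _ _
    (apply_one_eq_charDegree χ) (apply_one_eq_charDegree _)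
  have hq0 : Cfsg.charDegree (χ : G → ℂ) / Cfsg.charDegree (D.mem hM hL f : L → ℂ) ≠ 0 :=
    (Nat.div_pos (Nat.le_of_dvd (charDegree_pos χ) hdvd) (charDegree_pos _)).ne'
  rw [Cfsg.blockHeight, hmin, Nat.sub_eq_zero_iff_le, ← Nat.div_mul_cancel hdvd,
    Nat.factorization_mul hq0 (charDegree_pos _).ne', Finsupp.add_apply, hdeg, hfac, hPidx]
  have := (Nat.factorization_le_iff_dvd hq0 Subgroup.index_ne_zero_of_finite).2 hq p
  rw [hdeg] at this
  omega

/-- The number of characters above the member of a linear character. -/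
noncomputable def Below.count (f : P →* ℂˣ) : ℕ := (above L (D.mem hM hL f : L → ℂ)).card

theorem Below.one_le_count (f : P →* ℂˣ) : 1 ≤ D.count hM hL f := by
  haveI := Fintype.ofFinite L
  obtain ⟨χ, hχ⟩ := exists_over L (D.mem hM hL f)
  refine Finset.card_pos.2 ⟨χ, ?_⟩
  rw [mem_above, classInner_indFun_left L _ _ (IsIrr.isClassFunction χ.2), ← conj_classInner]
  simpa using hχ

/-- Inequivalent linear characters have disjoint sets above them. -/
theorem Below.sum_count_le (hB : Cfsg.IsPBlock M B) (hD : Cfsg.IsDefectGroup p M B P)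
    {k : ℕ} (hk : Nat.card {χ : Cfsg.IrrCharacter G //
      χ ∈ B ∧ Cfsg.blockHeight p B (χ : G → ℂ) = 0} ≤ k) (s : Finset (P →* ℂˣ))
    (hs : ∀ a ∈ s, ∀ b ∈ s, ∀ g ∈ inertia L (D.base : L → ℂ), conjHom a g = b → a = b) :
    ∑ f ∈ s, D.count hM hL f ≤ k := by
  classical
  haveI := Fintype.ofFinite L
  simp only [Below.count]
  rw [← Finset.card_biUnion]
  · refine le_trans ?_ hk
    rw [Nat.card_eq_fintype_card, Fintype.card_subtype]
    refine Finset.card_le_card fun χ hχ => ?_
    obtain ⟨f, -, hf⟩ := Finset.mem_biUnion.1 hχ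
    exact Finset.mem_filter.2 ⟨Finset.mem_univ _, D.height_zero hM hL hB hD f hf⟩
  · intro a ha b hb hab
    rw [Function.onFun, Finset.disjoint_left]
    intro χ h1 h2
    have hne : ∀ f, χ ∈ above L (D.mem hM hL f : L → ℂ) →
        classInner (fun n : L => (χ : G → ℂ) n) (D.mem hM hL f : L → ℂ) ≠ 0 := fun f hf h0 => by
      rw [mem_above, classInner_indFun_left L _ _ (IsIrr.isClassFunction χ.2)] at hf
      apply hf
      rw [← conj_classInner, h0, map_zero]
    obtain ⟨g, hg⟩ := exists_conjFun_eq_of_constituent L χ.2 (D.mem hM hL a).2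
      (D.mem hM hL b).2 (hne a h1) (hne b h2)
    have hT : g ∈ inertia L (D.base : L → ℂ) := by
      have htw : H80.conjTwist L (D.mem hM hL a) g = D.mem hM hL b := Subtype.ext (by
        rw [conjFun_eq_comp] at hg
        exact hg.symm)
      have hblk : H80.conjTwist L D.base g ∈ D.blk := by
        rw [isPBlock_eq_blockOf hM D.isBlk (D.mem_blk hM hL b), ← htw]
        exact (mem_blockOf_twist_iff L _ _ g).2
          (isPBlock_eq_blockOf hM D.isBlk (D.mem_blk hM hL a) ▸ D.base_mem)
      have hGL := NormalDefect.subgroupOf_sup_centralizer (P := P) hL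
      haveI := CentralDefect.normal_of_sup hGL
      have heq := CentralDefect.trivial_unique hM D.isBlk hGL D.isDef hblk D.base_mem
        (fun x hx => by
          rw [H80.conjTwist_apply, H80.conjTwist_apply, D.base_triv _ (by
            rw [Subgroup.mem_subgroupOf]
            exact Subgroup.Normal.conj_mem ‹P.Normal› _ hx g)]
          exact congrArg (D.base : L → ℂ) (Subtype.ext (by simp))) D.base_triv
      rw [CharInduce.mem_inertia, conjFun_eq_comp]
      exact congrArg Subtype.val heq
    exact hab (hs a ha b hb g hT (D.mem_injective hM hL (Subtype.ext (by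
      rw [← D.conj_mem hM hL hT a]
      exact hg.symm))))

end Cfsg.Agent.H35.ThreeBlock
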