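import Cfsg.Agent.H35.ThreeBlock.Weights

/-!
# The weights in dimension two
-/

set_option linter.unusedSectionVars false
set_option linter.style.haveILetI false

namespace Cfsg.Agent.H35.ThreeBlock

open MulAction Module

variable {p : ℕ} [Fact p.Prime] {E : Type*} [Group E] [Finite E] {V : Type*} [AddCommGroup V]
  [Module (ZMod p) V] [Module.Finite (ZMod p) V] [DistribMulAction E V] [SMulCommClass E (ZMod p) V]
  [FaithfulSMul E V]

theorem index_stabilizer_mul (v : V) :
    (orbit E v).ncard * Nat.card (stabilizer E v) = Nat.card E := by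
  rw [← index_stabilizer, mul_comm, Subgroup.card_mul_index]

theorem ncard_ne_zero : ({u : V | u ≠ 0}).ncard = p ^ finrank (ZMod p) V - 1 := by
  classical
  haveI : Finite V := Module.finite_of_finite (ZMod p)
  haveI := Fintype.ofFinite V
  rw [show {u : V | u ≠ 0} = ({0} : Set V)ᶜ from rfl, Set.ncard_compl, Set.ncard_singleton,
    Nat.card_eq_fintype_card, Module.card_eq_pow_finrank (K := ZMod p), ZMod.card]

theorem orbit_eq_of_transitive {v : V} (hv : v ≠ 0) (ht : ∀ u : V, u ≠ 0 → u ∈ orbit E v) :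
    orbit E v = {u : V | u ≠ 0} := by
  ext u
  refine ⟨?_, ht u⟩
  rintro ⟨g, rfl⟩
  exact Weights.smul_ne_zero_of_ne hv g

theorem card_eq_of_transitive {v : V} (hv : v ≠ 0) (ht : ∀ u : V, u ≠ 0 → u ∈ orbit E v) :
    (p ^ finrank (ZMod p) V - 1) * Nat.card (stabilizer E v) = Nat.card E := by
  rw [← ncard_ne_zero, ← orbit_eq_of_transitive hv ht, index_stabilizer_mul]

/-- An element of prime order with a fixed vector is conjugate into a stabiliser. -/
theorem dvd_card_stabilizer {q : ℕ} {c : E} (hc : orderOf c = q) {v w : V}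
    (hw : w ∈ orbit E v) (hcw : c • w = w) : q ∣ Nat.card (stabilizer E v) := by
  obtain ⟨g, rfl⟩ := hw
  have hmem : g⁻¹ * c * g ∈ stabilizer E v := by
    rw [mem_stabilizer_iff, mul_smul, mul_smul]
    exact inv_smul_eq_iff.2 hcw
  have h1 : orderOf (g⁻¹ * c * g) = q := by
    rw [← hc]
    simpa using (MulAut.conj g⁻¹).orderOf_eq c
  rw [← h1, ← Subgroup.orderOf_mk _ hmem]
  exact orderOf_dvd_natCard _

theorem free_of_transitive {q : ℕ} {v : V} (ht : ∀ u : V, u ≠ 0 → u ∈ orbit E v)
    (hS : ¬ q ∣ Nat.card (stabilizer E v)) :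
    ∀ c : E, orderOf c = q → ∀ w : V, c • w = w → w = 0 := fun c hc w hcw => by
  by_contra hw
  exact hS (dvd_card_stabilizer hc (ht w hw) hcw)

theorem orderOf_ne_base (hE : ¬ p ∣ Nat.card E) {q : ℕ} (hd : q ∣ Nat.card E) : q ≠ p :=
  fun h => hE (h ▸ hd)

/-- In a plane the stabiliser of a nonzero vector is cyclic. -/
theorem stabilizer_isCyclic (hE : ¬ p ∣ Nat.card E) (hn : finrank (ZMod p) V = 2) {v : V}
    (hv : v ≠ 0) : IsCyclic (stabilizer E v) := by
  classical
  set L := Submodule.span (ZMod p) {v} with hL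
  obtain ⟨w, hw⟩ : ∃ w : V, w ∉ L := by
    by_contra h
    push Not at h
    have : L = ⊤ := Submodule.eq_top_iff'.2 h
    have h1 := finrank_span_singleton (K := ZMod p) hv
    rw [← hL, this, finrank_top, hn] at h1
    omega
  have hspan : ∀ u : V, ∃ a : ZMod p, u - a • w ∈ L := by
    intro u
    have htop : Submodule.span (ZMod p) {w} ⊔ L = ⊤ := by
      refine Submodule.eq_top_of_finrank_eq ?_
      have e := Submodule.finrank_sup_add_finrank_inf_eq (Submodule.span (ZMod p) {w}) L
      have hw0 : w ≠ 0 := fun h => hw (h ▸ L.zero_mem)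
      have hinf : Submodule.span (ZMod p) {w} ⊓ L = ⊥ := by
        refine (Submodule.eq_bot_iff _).2 fun x hx => ?_
        obtain ⟨a, rfl⟩ := Submodule.mem_span_singleton.1 hx.1
        by_contra hne
        have ha : a ≠ 0 := fun h => hne (by rw [h, zero_smul])
        exact hw (by simpa [smul_smul, inv_mul_cancel₀ ha] using L.smul_mem a⁻¹ hx.2)
      rw [hinf, finrank_bot, finrank_span_singleton hw0, hL, finrank_span_singleton hv] at e
      rw [hn, hL]
      omega
    obtain ⟨x, hx, y, hy, hxy⟩ := Submodule.mem_sup.1 (htop ▸ Submodule.mem_top : u ∈ _ ⊔ L)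
    obtain ⟨a, rfl⟩ := Submodule.mem_span_singleton.1 hx
    exact ⟨a, by rw [← hxy, add_sub_cancel_left]; exact hy⟩
  have huniq : ∀ {a a' : ZMod p} {u : V}, u - a • w ∈ L → u - a' • w ∈ L → a = a' := by
    intro a a' u h h'
    by_contra hne
    have h1 : (a' - a) • w ∈ L := by
      have := L.sub_mem h h'
      rw [sub_sub_sub_cancel_left, ← sub_smul] at this
      exact this
    have := L.smul_mem (a' - a)⁻¹ h1
    rw [smul_smul, inv_mul_cancel₀ (sub_ne_zero.2 (Ne.symm hne)), one_smul] at this
    exact hw this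
  have hfix : ∀ g : stabilizer E v, ∀ x ∈ L, (g : E) • x = x := by
    intro g x hx
    obtain ⟨a, rfl⟩ := Submodule.mem_span_singleton.1 hx
    rw [smul_comm, mem_stabilizer_iff.1 g.2]
  choose χ hχ using fun g : stabilizer E v => hspan ((g : E) • w)
  let f : stabilizer E v →* ZMod p :=
    { toFun := χ
      map_one' := huniq (hχ 1) (by simp)
      map_mul' := fun g h => huniq (hχ (g * h)) (by
        have h1 : (g : E) • ((h : E) • w - χ h • w) = (h : E) • w - χ h • w := hfix g _ (hχ h)
        have h2 : ((g * h : stabilizer E v) : E) • w =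
            ((h : E) • w - χ h • w) + χ h • ((g : E) • w) := by
          rw [Subgroup.coe_mul, mul_smul, ← smul_comm (g : E), ← h1, ← smul_add, sub_add_cancel]
        rw [h2, show (h : E) • w - χ h • w + χ h • (g : E) • w - (χ g * χ h) • w =
          ((h : E) • w - χ h • w) + χ h • ((g : E) • w - χ g • w) by
            rw [smul_sub, smul_smul, mul_comm]; abel]
        exact L.add_mem (hχ h) (L.smul_mem _ (hχ g))) }
  refine isCyclic_of_injective f.toHomUnits ((injective_iff_map_eq_one _).2 fun g hg => ?_)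
  have h1 : χ g = 1 := congrArg Units.val hg
  have h2 := hχ g
  rw [h1, one_smul] at h2
  set d := (g : E) • w - w
  have hd : (g : E) • d = d := hfix g d h2
  set o := orderOf (g : E)
  have hd0 : d = 0 := eq_zero_of_mem_mvd_fixd (p := p) (g := (g : E)) (q := o)
    (pow_orderOf_eq_one _) (fun h => hE (h.trans (orderOf_dvd_natCard _))) ⟨w, rfl⟩ hd
  refine Subtype.ext (eq_of_smul_eq_smul fun u : V => ?_)
  obtain ⟨a, ha⟩ := hspan u
  have h3 : (g : E) • w = w := sub_eq_zero.1 hd0
  conv_lhs => rw [← sub_add_cancel u (a • w), smul_add, hfix g _ ha, smul_comm, h3,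
    sub_add_cancel]
  rw [Subgroup.coe_one, one_smul]

theorem Weights.card_stabilizer_le (W : Weights E V) {v : V}
    (hc : IsCyclic (stabilizer E v)) : Nat.card (stabilizer E v) ≤ W.l v := by
  classical
  haveI := Fintype.ofFinite E
  haveI := hc
  obtain ⟨⟨y, hy⟩, hgen⟩ := hc.exists_generator
  have hS : stabilizer E v = Subgroup.zpowers y := by
    refine le_antisymm (fun g hg => ?_) (Subgroup.zpowers_le.2 hy)
    obtain ⟨i, hi⟩ := Subgroup.mem_zpowers_iff.1 (hgen ⟨g, hg⟩)
    exact ⟨i, congrArg Subtype.val hi⟩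
  have h := W.good_le v (Finset.univ.filter (· ∈ stabilizer E v))
    (fun x hx => goodIn_of_eq_zpowers hS (Finset.mem_filter.1 hx).2) (by
      intro a ha b _ g hg hgab
      obtain ⟨i, hi⟩ := Subgroup.mem_zpowers_iff.1 (hS ▸ hg)
      obtain ⟨j, hj⟩ := Subgroup.mem_zpowers_iff.1 (hS ▸ (Finset.mem_filter.1 ha).2)
      rw [← hgab, ← hi, ← hj, (Commute.zpow_zpow_self y i j).mul_inv_cancel])
  rwa [Nat.card_eq_fintype_card, Fintype.card_subtype]

theorem exists_exponent_two_abelian {S : Subgroup E} (h : ∀ x ∈ S, x ^ 2 = 1) :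
    ∀ a ∈ S, ∀ b ∈ S, Commute a b := fun a ha b hb => by
  have h1 := h (a * b) (S.mul_mem ha hb)
  have ha2 := h a ha
  have hb2 := h b hb
  rw [sq] at h1 ha2 hb2
  have hai : a⁻¹ = a := inv_eq_of_mul_eq_one_right ha2
  have hbi : b⁻¹ = b := inv_eq_of_mul_eq_one_right hb2
  have habi : (a * b)⁻¹ = a * b := inv_eq_of_mul_eq_one_right h1
  rw [mul_inv_rev, hai, hbi] at habi
  exact habi.symm

/-- The plane is impossible for odd `p`. -/
theorem Weights.false_of_finrank_two (W : Weights E V) (hp : p ≠ 2) (hE : ¬ p ∣ Nat.card E)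
    (hn : finrank (ZMod p) V = 2) : False := by
  classical
  haveI : Finite V := Module.finite_of_finite (ZMod p)
  have hp3 : 3 ≤ p := by
    have := (Fact.out : p.Prime).two_le
    omega
  obtain ⟨v, hv⟩ : ∃ v : V, v ≠ 0 := by
    haveI := Module.nontrivial_of_finrank_pos (R := ZMod p) (M := V) (by omega)
    exact exists_ne 0
  have hcard : ∀ u : V, u ≠ 0 → Nat.card (stabilizer E u) ≤ W.l u := fun u hu =>
    W.card_stabilizer_le (stabilizer_isCyclic hE hn hu)
  have hN : 8 ≤ ({u : V | u ≠ 0}).ncard := by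
    rw [ncard_ne_zero (p := p), hn]
    have : 9 ≤ p ^ 2 := by nlinarith
    omega
  by_cases ht : ∀ u : V, u ≠ 0 → u ∈ orbit E v
  swap
  · push Not at ht
    obtain ⟨w, hw, hvw⟩ := ht
    obtain ⟨h0, h1, h2, hall⟩ := W.two_orbits hv hw hvw
    have hs : ∀ u : V, u ≠ 0 → Nat.card (stabilizer E u) = 1 := by
      intro u hu
      have hlu : W.l u = 1 := by
        rcases hall u hu with ⟨g, rfl⟩ | ⟨g, rfl⟩
        · by_contra hne
          have := W.two_orbits (v := g • v) (Weights.smul_ne_zero_of_ne hv g) hw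
            (fun ⟨g', hg'⟩ => hvw ⟨g' * g, by rw [← hg']; exact mul_smul g' g v⟩)
          exact hne this.2.1
        · by_contra hne
          have := W.two_orbits (v := v) (w := g • w) hv (Weights.smul_ne_zero_of_ne hw g)
            (fun ⟨g', hg'⟩ => hvw ⟨g⁻¹ * g', by
              show (g⁻¹ * g') • v = w
              rw [mul_smul]; exact inv_smul_eq_iff.2 hg'⟩)
          exact hne this.2.2.1
      have := hcard u hu
      have := (Nat.card_pos : 0 < Nat.card (stabilizer E u))
      omega
    have hE1 : Nat.card E = 1 := by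
      by_contra hne
      obtain ⟨q, hq, hqd⟩ := Nat.exists_prime_and_dvd hne
      refine W.not_dvd_of_l_eq_one (v := 0) hq
        (noQQ_of_free hq (orderOf_ne_base hE hqd) ⟨v, hv⟩ _ fun c _ hc u hcu => ?_) h0 ?_
      · by_contra hu
        have h := dvd_card_stabilizer hc (mem_orbit_self u) hcu
        rw [hs u hu, Nat.dvd_one] at h
        exact hq.ne_one h
      · rw [stabilizer_zero, Subgroup.card_top]; exact hqd
    have hle : ({u : V | u ≠ 0}).ncard ≤ (orbit E v).ncard + (orbit E w).ncard :=
      (Set.ncard_le_ncard (fun u hu => hall u hu) (Set.toFinite _)).trans (Set.ncard_union_le _ _)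
    have e1 := index_stabilizer_mul (E := E) v
    have e2 := index_stabilizer_mul (E := E) w
    rw [hs v hv, mul_one, hE1] at e1
    rw [hs w hw, mul_one, hE1] at e2
    omega
  -- one orbit
  have hc := card_eq_of_transitive (p := p) hv ht
  rw [hn] at hc
  have hlz := W.l_zero_add_le hv
  have hS := hcard v hv
  have hS0 : 0 < Nat.card (stabilizer E v) := Nat.card_pos
  have hl0 := W.one_le 0
  have hfree : ∀ q : ℕ, q.Prime → q ∣ Nat.card E → ¬ q ∣ Nat.card (stabilizer E v) →
      ∃ x : E, orderOf x = q ∧ GoodIn (stabilizer E (0 : V)) x := by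
    intro q hq hqd hns
    refine Weights.good_of_dvd hq (noQQ_of_free hq (orderOf_ne_base hE hqd) ⟨v, hv⟩ _
      fun c _ => free_of_transitive ht hns c) ?_
    rw [stabilizer_zero, Subgroup.card_top]
    exact hqd
  haveI := Fact.mk Nat.prime_two
  have h4 : 4 ∣ p ^ 2 - 1 := by
    obtain ⟨k, hk⟩ := (Fact.out : p.Prime).odd_of_ne_two hp
    refine ⟨k * (k + 1), ?_⟩
    rw [hk, show (2 * k + 1) ^ 2 = 4 * (k * (k + 1)) + 1 by ring, Nat.add_sub_cancel]
  have h4E : 4 ∣ Nat.card E := hc ▸ h4.mul_right _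
  -- an element of order at least four
  have hex4 : ∀ hpow : (∀ q : ℕ, q.Prime → q ∣ Nat.card E → q = 2),
      ∃ x : E, x ^ 2 ≠ 1 ∧ ∃ j, orderOf x = 2 ^ j := by
    intro hpow
    by_contra hno
    push Not at hno
    have hsq : ∀ x : E, x ^ 2 = 1 := fun x => by
      by_contra h
      obtain ⟨k, r, hr, hkr⟩ := Nat.exists_eq_pow_mul_and_not_dvd (orderOf_pos x).ne' 2 (by omega)
      have hr1 : r = 1 := by
        by_contra hr1
        obtain ⟨q, hq, hqr⟩ := Nat.exists_prime_and_dvd hr1
        have := hpow q hq ((hqr.trans (Dvd.intro_left _ hkr.symm)).trans (orderOf_dvd_natCard x))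
        exact hr (this ▸ hqr)
      rw [hr1, mul_one] at hkr
      exact hno x h k hkr
    have hcomm := exists_exponent_two_abelian (S := (⊤ : Subgroup E)) fun x _ => hsq x
    -- an abelian transitive group is free
    have hfree' : ∀ s ∈ stabilizer E v, s = 1 := fun s hs => eq_of_smul_eq_smul fun u : V => by
      rcases eq_or_ne u 0 with rfl | hu
      · simp
      · obtain ⟨g, rfl⟩ := ht u hu
        simp only [one_smul]
        rw [← mul_smul, (hcomm s trivial g trivial).eq, mul_smul, mem_stabilizer_iff.1 hs]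
    obtain ⟨a, -, hao⟩ := exists_orderOf_prime (S := (⊤ : Subgroup E)) Nat.prime_two
      (by rw [Subgroup.card_top]; exact (dvd_trans (by norm_num) h4E))
    have hS1 : ¬ 2 ∣ Nat.card (stabilizer E v) := fun h => by
      obtain ⟨s, hs, hso⟩ := exists_orderOf_prime Nat.prime_two h
      rw [hfree' s hs, orderOf_one] at hso
      omega
    have hQ : NoQQ (⊤ : Subgroup E) 2 := noQQ_of_free Nat.prime_two (Ne.symm hp) ⟨v, hv⟩ _
      fun c _ => free_of_transitive ht hS1 c
    have hall : ∀ g : E, g ∈ Subgroup.zpowers a := fun g => by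
      rcases eq_or_ne g 1 with rfl | hg
      · exact one_mem _
      · exact hQ a trivial g trivial hao (orderOf_eq_prime (hsq g) hg) (hcomm a trivial g trivial)
    have : Nat.card E = 2 := by
      rw [← hao, ← Nat.card_zpowers, (Subgroup.eq_top_iff' _).2 hall, Subgroup.card_top]
    rw [this] at h4E
    omega
  rcases (show Nat.card (stabilizer E v) = 1 ∨ Nat.card (stabilizer E v) = 2 by omega) with h | h
  · -- free action
    have hns : ∀ q : ℕ, q.Prime → ¬ q ∣ Nat.card (stabilizer E v) := fun q hq hd => by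
      rw [h, Nat.dvd_one] at hd
      exact hq.ne_one hd
    obtain ⟨x, hxo, hx⟩ := hfree 2 Nat.prime_two (dvd_trans (by norm_num) h4E)
      (hns 2 Nat.prime_two)
    have hl : W.l 0 ≤ 2 := by have := W.one_le v; omega
    have hpow : ∀ q : ℕ, q.Prime → q ∣ Nat.card E → q = 2 := fun q hq hqd => by
      by_contra hne
      obtain ⟨y, hyo, hy⟩ := hfree q hq hqd (hns q hq)
      have := W.three_le_of_good' hx hy (by omega) (by have := hq.two_le; omega) (by omega)
      omega
    obtain ⟨y, hy2, j, hyj⟩ := hex4 hpow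
    have hy : GoodIn (stabilizer E (0 : V)) y :=
      goodIn_of_noQQ Nat.prime_two (by rw [stabilizer_zero]; exact Subgroup.mem_top _) hyj
        (noQQ_of_free Nat.prime_two (Ne.symm hp) ⟨v, hv⟩ _
          fun c _ => free_of_transitive ht (hns 2 Nat.prime_two) c)
    have hy1 : orderOf y ≠ 1 := fun e => hy2 (by rw [orderOf_eq_one_iff.1 e, one_pow])
    have hyx : orderOf x ≠ orderOf y := fun e => hy2 (by
      rw [hxo] at e; rw [e]; exact pow_orderOf_eq_one y)
    have := W.three_le_of_good' hx hy (by omega) hy1 hyx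
    omega
  · -- stabilisers of order two
    have hl : W.l 0 = 1 := by omega
    have hpow : ∀ q : ℕ, q.Prime → q ∣ Nat.card E → q = 2 := fun q hq hqd => by
      by_contra hne
      obtain ⟨y, hyo, hy⟩ := hfree q hq hqd (by
        rw [h, Nat.prime_dvd_prime_iff_eq hq Nat.prime_two]; exact hne)
      have := W.two_le_of_good hy (fun e => hq.ne_one (by rw [← hyo, e, orderOf_one]))
      omega
    obtain ⟨x, hx2, j, hxj⟩ := hex4 hpow
    have hx1 : x ≠ 1 := fun e => hx2 (by rw [e, one_pow])
    have hgood : GoodIn (stabilizer E (0 : V)) x := by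
      refine goodIn_of_noQQ Nat.prime_two (by rw [stabilizer_zero]; exact Subgroup.mem_top _) hxj
        (noQQ_of_free Nat.prime_two (Ne.symm hp) ⟨v, hv⟩ _ fun c hcm hco w hcw => ?_)
      -- an involution commuting with `x` has no fixed vector
      by_contra hw0
      have hcx : Commute x c := ((Subgroup.mem_centralizer_singleton_iff.1 hcm.2 : c * x = x * c)).symm
      have hcq : c ^ 2 = 1 := hco ▸ pow_orderOf_eq_one c
      have hc1 : c ≠ 1 := fun e => by rw [e, orderOf_one] at hco; omega
      -- both lines are preserved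
      have hm := finrank_mvd_add (p := p) (V := V) c
      have hmpos : 1 ≤ finrank (ZMod p) (mvd (p := p) (V := V) c) := by
        rcases Nat.eq_zero_or_pos (finrank (ZMod p) (mvd (p := p) (V := V) c)) with e | e
        · exact absurd (Submodule.finrank_eq_zero.1 e) (mvd_ne_bot hc1)
        · exact e
      have hfpos : 1 ≤ finrank (ZMod p) (fixd (p := p) (V := V) c) := by
        rcases Nat.eq_zero_or_pos (finrank (ZMod p) (fixd (p := p) (V := V) c)) with e | e
        · exact absurd ((Submodule.mem_bot (ZMod p)).1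
            (Submodule.finrank_eq_zero.1 e ▸ mem_fixd.2 hcw)) hw0
        · exact e
      rw [hn] at hm
      have hdisj : mvd (p := p) (V := V) c ⊓ fixd (p := p) c = ⊥ :=
        (Submodule.eq_bot_iff _).2 fun u hu =>
          eq_zero_of_mem_mvd_fixd hcq (not_dvd_of_ne Nat.prime_two (Ne.symm hp)) hu.1
            (mem_fixd.1 hu.2)
      have hline : ∀ (U : Submodule (ZMod p) V), finrank (ZMod p) U = 1 → (∀ u ∈ U, x • u ∈ U) →
          ∃ a : ZMod p, ∀ u ∈ U, x • u = a • u := by
        intro U hU hxU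
        obtain ⟨⟨u₀, hu₀⟩, hne, hspan⟩ := finrank_eq_one_iff'.1 hU
        obtain ⟨a, ha⟩ := hspan ⟨x • u₀, hxU u₀ hu₀⟩
        refine ⟨a, fun u hu => ?_⟩
        obtain ⟨b, hb⟩ := hspan ⟨u, hu⟩
        have hb' : b • u₀ = u := congrArg Subtype.val hb
        have ha' : a • u₀ = x • u₀ := congrArg Subtype.val ha
        rw [← hb', smul_comm x b, ← ha', smul_comm a b]
      obtain ⟨a, ha⟩ := hline (mvd c) (by omega) (fun u hu => smul_mem_mvd hcx hu)
      obtain ⟨b, hb⟩ := hline (fixd c) (by omega) (fun u hu => smul_mem_fixd hcx hu)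
      have htop : mvd (p := p) (V := V) c ⊔ fixd (p := p) c = ⊤ := by
        refine Submodule.eq_top_of_finrank_eq ?_
        have e := Submodule.finrank_sup_add_finrank_inf_eq (mvd (p := p) (V := V) c) (fixd c)
        rw [hdisj, finrank_bot] at e
        omega
      -- the eigenvalues square to one
      obtain ⟨u, hu, hu0⟩ := (mvd (p := p) (V := V) c).ne_bot_iff.1 (mvd_ne_bot hc1)
      have hord : ∀ (a : ZMod p) (z : V), z ≠ 0 → x • z = a • z → a ^ 2 ^ j = 1 := by
        intro a z hz hxz
        have hi : ∀ i : ℕ, x ^ i • z = a ^ i • z := by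
          intro i
          induction i with
          | zero => simp
          | succ i ih => rw [pow_succ', mul_smul, ih, smul_comm, hxz, smul_smul, ← pow_succ]
        have h1 := hi (2 ^ j)
        rw [← hxj, pow_orderOf_eq_one, one_smul, hxj] at h1
        by_contra hne
        exact hz ((smul_eq_zero.1 (show (a ^ 2 ^ j - 1) • z = 0 by
          rw [sub_smul, one_smul, ← h1, sub_self])).resolve_left (sub_ne_zero.2 hne))
      have hp3' : p = 3 := by
        by_contra hne
        rw [h] at hc
        have hd : ∀ q : ℕ, q.Prime → q ∣ p ^ 2 - 1 → q = 2 := fun q hq hqd =>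
          hpow q hq (hc ▸ hqd.mul_right 2)
        obtain ⟨k, hk⟩ := (Fact.out : p.Prime).odd_of_ne_two hp
        -- `k` or `k + 1` is odd
        have hkk : p ^ 2 - 1 = 4 * (k * (k + 1)) := by
          rw [hk, show (2 * k + 1) ^ 2 = 4 * (k * (k + 1)) + 1 by ring, Nat.add_sub_cancel]
        have hone : ∀ d : ℕ, d ∣ k * (k + 1) → ¬ 2 ∣ d → d = 1 := fun d hd' h2 => by
          by_contra h1
          obtain ⟨q, hq, hqd⟩ := Nat.exists_prime_and_dvd h1
          exact h2 (hd q hq (hkk ▸ (hqd.trans hd').mul_left 4) ▸ hqd)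
        rcases Nat.even_or_odd k with ⟨i, hi⟩ | ⟨i, hi⟩
        · have := hone (k + 1) (Dvd.intro_left _ rfl) (by omega)
          omega
        · have := hone k (Dvd.intro _ rfl) (by omega)
          omega
      subst hp3'
      have hsq : ∀ a : ZMod 3, ∀ z : V, z ≠ 0 → x • z = a • z → a ^ 2 = 1 := fun a z hz hxz => by
        have h1 := hord a z hz hxz
        have hane : a ≠ 0 := fun e => by
          rw [e, zero_pow (pow_ne_zero j two_ne_zero)] at h1
          exact zero_ne_one h1
        exact ZMod.pow_card_sub_one_eq_one hane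
      refine hx2 (eq_of_smul_eq_smul fun z : V => ?_)
      obtain ⟨z₁, hz₁, z₂, hz₂, rfl⟩ :=
        Submodule.mem_sup.1 (htop ▸ Submodule.mem_top : z ∈ mvd c ⊔ fixd c)
      rw [one_smul, sq, mul_smul, smul_add, ha z₁ hz₁, hb z₂ hz₂, smul_add, smul_comm x a,
        smul_comm x b, ha z₁ hz₁, hb z₂ hz₂, smul_smul, smul_smul, ← sq, ← sq,
        hsq a u hu0 (ha u hu), hsq b w hw0 (hb w (mem_fixd.2 hcw)), one_smul, one_smul]
    have := W.two_le_of_good hgood hx1
    omega

end Cfsg.Agent.H35.ThreeBlock
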