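import Cfsg.Agent.H35.ThreeBlock.DimTwo

/-!
# Irreducible elements of prime order
-/

set_option linter.unusedSectionVars false
set_option linter.style.haveILetI false

namespace Cfsg.Agent.H35.ThreeBlock

open MulAction Module Cfsg.Agent.Arith

variable {p : ℕ} [Fact p.Prime] {E : Type*} [Group E] [Finite E] {V : Type*} [AddCommGroup V]
  [Module (ZMod p) V] [Module.Finite (ZMod p) V] [DistribMulAction E V] [SMulCommClass E (ZMod p) V]
  [FaithfulSMul E V]

variable {q : ℕ} {g : E}

/-- A nonzero subspace invariant under an element of full primitive order is everything. -/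
theorem eq_top_of_invariant (hq : IsPPD q p (finrank (ZMod p) V)) (hg : orderOf g = q)
    {U : Submodule (ZMod p) V} (hU : ∀ u ∈ U, g • u ∈ U) (hne : U ≠ ⊥) : U = ⊤ := by
  have h0 : 0 < finrank (ZMod p) U :=
    Nat.pos_of_ne_zero fun h => hne (Submodule.finrank_eq_zero.1 h)
  have hn : 0 < finrank (ZMod p) V := h0.trans_le (Submodule.finrank_le U)
  have hd := dvd_finrank_of_free hq hn (hg ▸ pow_orderOf_eq_one g) U hU
    (fun u _ hf => by
      by_contra hu
      exact smul_ne_of_ppd hn hq hg hu hf)
  exact Submodule.eq_top_of_finrank_eq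
    (le_antisymm (Submodule.finrank_le U) (Nat.le_of_dvd h0 hd))

/-- Endomorphisms commuting with `g` are determined at one vector. -/
theorem end_eq_zero_of_apply (hq : IsPPD q p (finrank (ZMod p) V)) (hg : orderOf g = q)
    {T : V →ₗ[ZMod p] V} (hT : ∀ u : V, T (g • u) = g • T u) {v : V} (hv : v ≠ 0) (h : T v = 0) :
    T = 0 := by
  refine LinearMap.ker_eq_top.1 (eq_top_of_invariant hq hg (fun u hu => ?_) ?_)
  · rw [LinearMap.mem_ker] at hu ⊢
    rw [hT, hu, smul_zero]
  · exact (Submodule.ne_bot_iff _).2 ⟨v, h, hv⟩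

theorem eq_of_commute_smul_eq (hq : IsPPD q p (finrank (ZMod p) V)) (hg : orderOf g = q)
    {h h' : E} (hh : Commute h g) (hh' : Commute h' g) {v : V} (hv : v ≠ 0)
    (he : h • v = h' • v) : h = h' := by
  have h0 := end_eq_zero_of_apply hq hg (T := lin (p := p) (V := V) h - lin h') (fun u => by
    simp [smul_sub, ← mul_smul, hh.eq, hh'.eq]) hv (by simp [he])
  refine eq_of_smul_eq_smul fun u : V => sub_eq_zero.1 ?_
  simpa using LinearMap.congr_fun h0 u

/-- The centraliser of `g` is commutative. -/
theorem commute_of_commute (hq : IsPPD q p (finrank (ZMod p) V)) (hg : orderOf g = q) {h h' : E}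
    (hh : Commute h g) (hh' : Commute h' g) : Commute h h' := by
  classical
  have hn : 0 < finrank (ZMod p) V := by
    by_contra h0
    obtain ⟨hq', -, -⟩ := hq
    rcases Nat.eq_zero_or_pos (finrank (ZMod p) V) with e | e
    · haveI : Subsingleton V := Module.finrank_zero_iff.1 e
      have : g = 1 := eq_of_smul_eq_smul fun u : V => Subsingleton.elim _ _
      rw [this, orderOf_one] at hg
      exact Nat.not_prime_one (hg ▸ hq')
    · exact h0 e
  haveI := Module.nontrivial_of_finrank_pos (R := ZMod p) (M := V) hn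
  obtain ⟨v, hv⟩ := exists_ne (0 : V)
  set U := Submodule.span (ZMod p) (Set.range fun i : ℕ => g ^ i • v) with hU
  have htop : U = ⊤ := by
    refine eq_top_of_invariant hq hg (fun u hu => ?_) ((Submodule.ne_bot_iff _).2
      ⟨v, Submodule.subset_span ⟨0, by simp⟩, hv⟩)
    induction hu using Submodule.span_induction with
    | mem x hx =>
      obtain ⟨i, rfl⟩ := hx
      exact Submodule.subset_span ⟨i + 1, by simp [pow_succ', mul_smul]⟩
    | zero => rw [smul_zero]; exact Submodule.zero_mem _
    | add x y _ _ hx hy => rw [smul_add]; exact Submodule.add_mem _ hx hy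
    | smul c x _ hx => rw [smul_comm]; exact Submodule.smul_mem _ c hx
  have key : h • (h' • v) = h' • (h • v) := by
    have hmem : h' • v ∈ U := htop ▸ Submodule.mem_top
    obtain ⟨c, hc⟩ := Finsupp.mem_span_range_iff_exists_finsupp.1 hmem
    set T : V →ₗ[ZMod p] V := lin h' - c.sum fun i a => a • lin (g ^ i) with hT
    have hT0 : T = 0 := end_eq_zero_of_apply hq hg (fun u => by
      simp only [hT, LinearMap.sub_apply, DistribSMul.toLinearMap_apply, Finsupp.sum,
        LinearMap.coe_sum, Finset.sum_apply, LinearMap.smul_apply, smul_sub, Finset.smul_sum]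
      congr 1
      · rw [← mul_smul, hh'.eq, mul_smul]
      · refine Finset.sum_congr rfl fun i _ => ?_
        rw [smul_comm g (c i), ← mul_smul, ← mul_smul, (Commute.pow_self g i).eq]) hv (by
      simp only [hT, LinearMap.sub_apply, DistribSMul.toLinearMap_apply, Finsupp.sum,
        LinearMap.coe_sum, Finset.sum_apply, LinearMap.smul_apply]
      rw [Finsupp.sum] at hc
      rw [hc, sub_self])
    have h1 := LinearMap.congr_fun hT0 (h • v)
    simp only [hT, LinearMap.sub_apply, DistribSMul.toLinearMap_apply, Finsupp.sum,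
      LinearMap.coe_sum, Finset.sum_apply, LinearMap.smul_apply, LinearMap.zero_apply,
      sub_eq_zero] at h1
    rw [h1, ← hc, Finsupp.sum, Finset.smul_sum]
    refine Finset.sum_congr rfl fun i _ => ?_
    rw [smul_comm h (c i), ← mul_smul, ← mul_smul, (hh.pow_right i).eq]
  exact eq_of_commute_smul_eq hq hg (hh.mul_left hh') (hh'.mul_left hh) hv
    (by rw [mul_smul, mul_smul, key])

/-- Conjugate powers of `g` are Frobenius powers. -/
theorem exists_modEq_pow_of_conj (hq : IsPPD q p (finrank (ZMod p) V)) (hg : orderOf g = q)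
    (hn : 0 < finrank (ZMod p) V) {h : E} {j : ℕ} (hconj : h * g * h⁻¹ = g ^ j) :
    ∃ i : ℕ, j ≡ p ^ i [MOD q] := by
  classical
  haveI := Module.nontrivial_of_finrank_pos (R := ZMod p) (M := V) hn
  haveI : Finite V := Module.finite_of_finite (ZMod p)
  haveI : Finite (Module.End (ZMod p) V) := Module.finite_of_finite (ZMod p)
  let ρ : E →* Module.End (ZMod p) V :=
    { toFun := fun x => lin x
      map_one' := LinearMap.ext fun u => one_smul E u
      map_mul' := fun x y => LinearMap.ext fun u => mul_smul x y u }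
  have hρinj : Function.Injective ρ := fun x y hxy =>
    eq_of_smul_eq_smul fun u : V => LinearMap.congr_fun hxy u
  set a := ρ g with ha
  have hint : IsIntegral (ZMod p) a := Algebra.IsIntegral.isIntegral a
  set f := minpoly (ZMod p) a
  have hcomm : ∀ (r : Polynomial (ZMod p)) (u : V),
      Polynomial.aeval a r (g • u) = g • Polynomial.aeval a r u := by
    intro r u
    have h1 : Commute (Polynomial.aeval a r) a := by
      have h2 := (Commute.all r (Polynomial.X : Polynomial (ZMod p))).map (Polynomial.aeval (R := ZMod p) a)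
      rwa [Polynomial.aeval_X] at h2
    exact LinearMap.congr_fun h1.eq u
  have hirr : Irreducible f := by
    rw [Polynomial.Monic.irreducible_iff_natDegree (minpoly.monic hint)]
    refine ⟨minpoly.ne_one (ZMod p) a, fun r s hr hs hrs => ?_⟩
    have h0 : Polynomial.aeval a r * Polynomial.aeval a s = 0 := by
      rw [← map_mul, hrs]
      exact minpoly.aeval _ _
    by_contra hdeg
    rw [not_or] at hdeg
    have hlt : ∀ t t' : Polynomial (ZMod p), t.Monic → t'.Monic → t * t' = f → t'.natDegree ≠ 0 →
        Polynomial.aeval a t ≠ 0 := by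
      intro t t' ht ht' he hdeg' h
      have h1 := Polynomial.natDegree_le_of_dvd (minpoly.dvd (ZMod p) a h) ht.ne_zero
      have h2 := congrArg Polynomial.natDegree he
      rw [ht.natDegree_mul ht'] at h2
      change f.natDegree ≤ t.natDegree at h1
      omega
    obtain ⟨v, hv⟩ : ∃ v, Polynomial.aeval a s v ≠ 0 := by
      by_contra hv
      push Not at hv
      exact hlt s r hs hr (by rw [mul_comm, hrs]) hdeg.1 (LinearMap.ext hv)
    exact hlt r s hr hs hrs hdeg.2
      (end_eq_zero_of_apply hq hg (hcomm r) hv (LinearMap.congr_fun h0 v))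
  haveI := Fact.mk hirr
  -- `f` kills `a ^ j`
  have hkill : Polynomial.aeval (a ^ j) f = 0 := by
    let c : Module.End (ZMod p) V ≃ₐ[ZMod p] Module.End (ZMod p) V :=
      (LinearEquiv.ofBijective (lin (p := p) (V := V) h)
        ⟨fun x y hxy => smul_left_cancel h hxy,
          fun y => ⟨h⁻¹ • y, smul_inv_smul h y⟩⟩).conjAlgEquiv (ZMod p)
    have hc : c a = a ^ j := by
      rw [ha, ← map_pow, ← hconj]
      refine LinearMap.ext fun u => ?_
      show h • g • _ = (h * g * h⁻¹) • u
      rw [mul_smul, mul_smul]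
      congr 2
      apply smul_left_cancel h
      rw [smul_inv_smul]
      exact LinearEquiv.apply_symm_apply (LinearEquiv.ofBijective (lin (p := p) (V := V) h)
        ⟨fun x y hxy => smul_left_cancel h hxy,
          fun y => ⟨h⁻¹ • y, smul_inv_smul h y⟩⟩) u
    rw [← hc, Polynomial.aeval_algHom_apply, minpoly.aeval, map_zero]
  let K := AdjoinRoot f
  haveI : Module.Finite (ZMod p) K := (minpoly.monic hint).finite_adjoinRoot
  haveI : Finite K := Module.finite_of_finite (ZMod p)
  haveI : Algebra.IsAlgebraic (ZMod p) K := Algebra.IsAlgebraic.of_finite _ _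
  set α : K := AdjoinRoot.root f
  have hmin : minpoly (ZMod p) α = f := by
    rw [AdjoinRoot.minpoly_root (minpoly.ne_zero hint), (minpoly.monic hint).leadingCoeff, inv_one,
      map_one, mul_one]
  have hroot : Polynomial.aeval (α ^ j) (minpoly (ZMod p) α) = 0 := by
    rw [hmin, show Polynomial.aeval (α ^ j) f = Polynomial.aeval α (f.comp (Polynomial.X ^ j)) by
      rw [Polynomial.aeval_comp, map_pow, Polynomial.aeval_X], AdjoinRoot.aeval_eq,
      AdjoinRoot.mk_eq_zero]
    refine minpoly.dvd _ _ ?_
    rw [Polynomial.aeval_comp, map_pow, Polynomial.aeval_X, hkill]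
  obtain ⟨σ, hσ⟩ := minpoly.exists_algEquiv_of_root' (Algebra.IsAlgebraic.isAlgebraic α) hroot
  obtain ⟨i, hi⟩ := (FiniteField.bijective_frobeniusAlgEquivOfAlgebraic_pow (ZMod p) K).2 σ
  refine ⟨i, ?_⟩
  have hi' : σ α = α ^ p ^ (i : ℕ) := by
    rw [← hi, AlgEquiv.coe_pow, FiniteField.coe_frobeniusAlgEquivOfAlgebraic_iterate, ZMod.card]
  rw [hσ] at hi'
  have hdvd : f ∣ (Polynomial.X ^ j - Polynomial.X ^ p ^ (i : ℕ) : Polynomial (ZMod p)) := by
    rw [← AdjoinRoot.mk_eq_zero, map_sub, map_pow, map_pow, AdjoinRoot.mk_X, sub_eq_zero]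
    exact hi'
  have h1 : g ^ j = g ^ p ^ (i : ℕ) := hρinj (by
    rw [map_pow, map_pow, ← ha, ← sub_eq_zero]
    have h2 := Polynomial.aeval_eq_zero_of_dvd_aeval_eq_zero hdvd (minpoly.aeval (ZMod p) a)
    simpa using h2)
  rw [pow_eq_pow_iff_modEq, hg] at h1
  exact h1

end Cfsg.Agent.H35.ThreeBlock
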