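import Cfsg.Agent.Arith.LargePrimDiv

/-!
# Elements of prime order in coprime linear actions
-/

set_option linter.unusedSectionVars false
set_option linter.style.haveILetI false

namespace Cfsg.Agent.H35.ThreeBlock

open Module Cfsg.Agent.Arith

variable {p : ℕ} [Fact p.Prime] {E : Type*} [Group E] [Finite E] {V : Type*} [AddCommGroup V]
  [Module (ZMod p) V] [Module.Finite (ZMod p) V] [DistribMulAction E V] [SMulCommClass E (ZMod p) V]
  [FaithfulSMul E V]

/-- The linear map of a group element. -/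
abbrev lin (g : E) : V →ₗ[ZMod p] V := DistribSMul.toLinearMap (ZMod p) V g

/-- The subspace moved by `g`. -/
def mvd (g : E) : Submodule (ZMod p) V := LinearMap.range (lin g - LinearMap.id)

/-- The subspace fixed by `g`. -/
def fixd (g : E) : Submodule (ZMod p) V := LinearMap.ker (lin g - LinearMap.id)

theorem mem_mvd {g : E} {v : V} : v ∈ mvd (p := p) g ↔ ∃ w : V, g • w - w = v := Iff.rfl

theorem mem_fixd {g : E} {v : V} : v ∈ fixd (p := p) g ↔ g • v = v := by
  simp [fixd, sub_eq_zero]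

theorem finrank_mvd_add (g : E) :
    finrank (ZMod p) (mvd (p := p) (V := V) g) + finrank (ZMod p) (fixd (p := p) (V := V) g) =
      finrank (ZMod p) V :=
  LinearMap.finrank_range_add_finrank_ker _

theorem smul_mem_mvd {g c : E} (h : Commute c g) {v : V} (hv : v ∈ mvd (p := p) g) :
    c • v ∈ mvd (p := p) g := by
  obtain ⟨w, rfl⟩ := mem_mvd.1 hv
  exact mem_mvd.2 ⟨c • w, by rw [smul_sub, ← mul_smul, ← mul_smul, h.eq]⟩

theorem smul_mem_fixd {g c : E} (h : Commute c g) {v : V} (hv : v ∈ fixd (p := p) g) :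
    c • v ∈ fixd (p := p) g := by
  rw [mem_fixd] at hv ⊢
  rw [← mul_smul, ← h.eq, mul_smul, hv]

theorem mvd_ne_bot {g : E} (hg : g ≠ 1) : mvd (p := p) (V := V) g ≠ ⊥ := by
  intro h
  refine hg (eq_of_smul_eq_smul fun v : V => ?_)
  have : g • v - v ∈ mvd (p := p) g := mem_mvd.2 ⟨v, rfl⟩
  rw [h, Submodule.mem_bot, sub_eq_zero] at this
  rw [this, one_smul]

theorem natCast_smul_eq_zero {q : ℕ} (hqp : ¬ p ∣ q) {v : V} (h : q • v = 0) : v = 0 := by
  have h1 : ((q : ℕ) : ZMod p) ≠ 0 := fun h0 => hqp ((ZMod.natCast_eq_zero_iff q p).1 h0)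
  rw [← Nat.cast_smul_eq_nsmul (ZMod p)] at h
  exact (smul_eq_zero.1 h).resolve_left h1

theorem eq_zero_of_mem_mvd_fixd {g : E} {q : ℕ} (hgq : g ^ q = 1) (hqp : ¬ p ∣ q) {v : V}
    (hv : v ∈ mvd (p := p) g) (hf : g • v = v) : v = 0 := by
  obtain ⟨w, rfl⟩ := mem_mvd.1 hv
  have hi : ∀ i : ℕ, g ^ i • w = w + i • (g • w - w) := by
    intro i
    induction i with
    | zero => simp
    | succ i ih =>
      rw [pow_succ', mul_smul, ih, smul_add, smul_comm g i, hf] <;>
      first
      | (rw [add_smul, one_smul]; abel)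
      | abel
  have h1 := hi q
  rw [hgq, one_smul] at h1
  exact natCast_smul_eq_zero hqp (add_eq_left.1 h1.symm)

theorem sum_pow_smul_fixed {g : E} {q : ℕ} (hgq : g ^ q = 1) (w : V) :
    g • (∑ i ∈ Finset.range q, g ^ i • w) = ∑ i ∈ Finset.range q, g ^ i • w := by
  rw [Finset.smul_sum]
  simp only [← mul_smul, ← pow_succ']
  have h1 := Finset.sum_range_succ' (fun i => g ^ i • w) q
  have h2 := Finset.sum_range_succ (fun i => g ^ i • w) q
  rw [h2, hgq, pow_zero] at h1
  exact add_right_cancel h1.symm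

/-- Elements of the moved space of a prime-order element are permuted in orbits of that length. -/
theorem dvd_pow_finrank_mvd {g : E} {q : ℕ} (hq : q.Prime) (hgq : g ^ q = 1) (hqp : q ≠ p)
    (U : Submodule (ZMod p) V) (hU : ∀ u ∈ U, g • u ∈ U)
    (hfree : ∀ u ∈ U, g • u = u → u = 0) : q ∣ p ^ finrank (ZMod p) U - 1 := by
  classical
  haveI := Fact.mk hq
  haveI : Finite U := Module.finite_of_finite (ZMod p)
  have hpow : ∀ i : ℕ, ∀ u ∈ U, g ^ i • u ∈ U := by
    intro i
    induction i with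
    | zero => simp
    | succ i ih => exact fun u hu => by rw [pow_succ', mul_smul]; exact hU _ (ih u hu)
  let σ : Function.End U := fun u => ⟨g • (u : V), hU u u.2⟩
  have hσpow : ∀ (i : ℕ) (u : U), ((σ ^ i) u : V) = g ^ i • (u : V) := by
    intro i u
    induction i with
    | zero => simp only [pow_zero]; rw [one_smul]; rfl
    | succ i ih =>
      rw [pow_succ', pow_succ', mul_smul, ← ih]
      rfl
  have hσ : σ ^ (q ^ 1) = 1 := funext fun u => Subtype.ext (by
    rw [hσpow, pow_one, hgq, one_smul]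
    rfl)
  haveI := Fintype.ofFinite U
  have h1 := Equiv.Perm.card_fixedPoints_modEq (f := σ) (p := q) (n := 1) hσ
  have h2 : Fintype.card σ.fixedPoints = 1 := by
    rw [Fintype.card_eq_one_iff]
    refine ⟨⟨0, Subtype.ext (smul_zero g)⟩, fun u => Subtype.ext (Subtype.ext ?_)⟩
    exact hfree u.1 u.1.2 (congrArg Subtype.val u.2)
  rw [h2, Module.card_eq_pow_finrank (K := ZMod p), ZMod.card] at h1
  exact (Nat.modEq_iff_dvd' (Nat.one_le_pow _ _ (Fact.out : p.Prime).pos)).1 h1.symm

variable {m : ℕ}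

theorem ppd_ne_base {q : ℕ} (hq : IsPPD q p m) (hm : 0 < m) : q ≠ p :=
  fun h => hq.not_dvd_base (Fact.out : p.Prime).one_le hm (dvd_of_eq h)

/-- A semiregular invariant subspace has dimension divisible by the order of `p` modulo `q`. -/
theorem dvd_finrank_of_free {q : ℕ} (hq : IsPPD q p m) (hm : 0 < m) {g : E} (hgq : g ^ q = 1)
    (U : Submodule (ZMod p) V) (hU : ∀ u ∈ U, g • u ∈ U)
    (hfree : ∀ u ∈ U, g • u = u → u = 0) : m ∣ finrank (ZMod p) U :=
  (hq.dvd_iff (Fact.out : p.Prime).one_le hm).1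
    (dvd_pow_finrank_mvd hq.1 hgq (ppd_ne_base hq hm) U hU hfree)

theorem not_dvd_of_ne {q : ℕ} (hq : q.Prime) (hqp : q ≠ p) : ¬ p ∣ q := fun h =>
  hqp ((Nat.prime_dvd_prime_iff_eq Fact.out hq).1 h).symm

theorem le_finrank_mvd {q : ℕ} (hq : IsPPD q p m) (hm : 0 < m) {g : E} (hg : orderOf g = q) :
    m ∣ finrank (ZMod p) (mvd (p := p) (V := V) g) ∧
      m ≤ finrank (ZMod p) (mvd (p := p) (V := V) g) := by
  have hgq : g ^ q = 1 := hg ▸ pow_orderOf_eq_one g
  have h1 := dvd_finrank_of_free hq hm hgq (mvd (p := p) (V := V) g) (fun u hu => smul_mem_mvd (Commute.refl g) hu)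
    (fun u hu hf => eq_zero_of_mem_mvd_fixd hgq (not_dvd_of_ne hq.1 (ppd_ne_base hq hm)) hu hf)
  refine ⟨h1, Nat.le_of_dvd (Nat.pos_of_ne_zero fun h => ?_) h1⟩
  refine mvd_ne_bot (p := p) (V := V) (g := g) (fun h' => ?_) (Submodule.finrank_eq_zero.1 h)
  rw [h', orderOf_one] at hg
  exact hq.1.ne_one hg.symm

/-- No element of primitive prime order for `n` fixes a nonzero vector. -/
theorem smul_ne_of_ppd {q : ℕ} (hn : 0 < finrank (ZMod p) V)
    (hq : IsPPD q p (finrank (ZMod p) V)) {g : E} (hg : orderOf g = q) {v : V} (hv : v ≠ 0) :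
    g • v ≠ v := by
  intro h
  have h1 := (le_finrank_mvd (V := V) hq hn hg).2
  have h2 := finrank_mvd_add (p := p) (V := V) g
  have h3 : fixd (p := p) (V := V) g = ⊥ := Submodule.finrank_eq_zero.1 (by omega)
  exact hv ((Submodule.mem_bot (ZMod p)).1 (h3 ▸ mem_fixd.2 h))

/-- Two independent commuting elements of order `q` need room. -/
theorem finrank_add_two_mul_le {q : ℕ} (hq : IsPPD q p m) (hm : 0 < m) {a b : E}
    (ha : orderOf a = q) (hb : orderOf b = q) (hab : Commute a b)
    (hb' : b ∉ Subgroup.zpowers a) (F : Submodule (ZMod p) V)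
    (hFa : ∀ u ∈ F, a • u = u) (hFb : ∀ u ∈ F, b • u = u) :
    finrank (ZMod p) F + 2 * m ≤ finrank (ZMod p) V := by
  classical
  have hqp := not_dvd_of_ne hq.1 (ppd_ne_base hq hm)
  have haq : a ^ q = 1 := ha ▸ pow_orderOf_eq_one a
  have hbq : b ^ q = 1 := hb ▸ pow_orderOf_eq_one b
  obtain ⟨hdvd, hle⟩ := le_finrank_mvd (V := V) hq hm ha
  set W := mvd (p := p) (V := V) a with hW
  have hWa : ∀ u ∈ W, a • u = u → u = 0 := fun u hu hf => eq_zero_of_mem_mvd_fixd haq hqp hu hf
  have hFW : F ⊓ W = ⊥ := (Submodule.eq_bot_iff _).2 fun u hu => hWa u hu.2 (hFa u hu.1)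
  -- an element of the group with a fixed vector in `W`
  have hex : ∃ j : ℕ, ∃ w ∈ W, w ≠ 0 ∧ (b * a ^ j) • w = w := by
    by_contra hno
    push Not at hno
    obtain ⟨w, hw, hw0⟩ := W.ne_bot_iff.1 fun h => by
      rw [← Submodule.finrank_eq_zero] at h; omega
    have hWpow : ∀ {c : E}, Commute c a → ∀ (i : ℕ), c ^ i • w ∈ W :=
      fun hc i => smul_mem_mvd (hc.pow_left i) hw
    have hSa : ∑ i ∈ Finset.range q, a ^ i • w = 0 :=
      hWa _ (Submodule.sum_mem _ fun i _ => hWpow (Commute.refl a) i) (sum_pow_smul_fixed haq w)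
    have hSc : ∀ j : ℕ, ∑ i ∈ Finset.range q, (b * a ^ j) ^ i • w = 0 := by
      intro j
      have hcq : (b * a ^ j) ^ q = 1 := by
        rw [(hab.symm.pow_right j).mul_pow, hbq, ← pow_mul, mul_comm, pow_mul, haq]; simp
      by_contra hne
      exact hno j _ (Submodule.sum_mem _ fun i _ =>
        hWpow (hab.symm.mul_left ((Commute.refl a).pow_left j)) i) hne (sum_pow_smul_fixed hcq w)
    have hzero : (∑ j ∈ Finset.range q, ∑ i ∈ Finset.range q, (b * a ^ j) ^ i • w) = q • w := by
      rw [Finset.sum_comm, Finset.sum_eq_single 0]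
      · simp
      · intro i hi hi0
        have h1 : ∀ j, (b * a ^ j) ^ i • w = b ^ i • ((a ^ i) ^ j • w) := fun j => by
          rw [(hab.symm.pow_right j).mul_pow, ← pow_mul, mul_comm, pow_mul, mul_smul]
        simp only [h1, ← Finset.smul_sum]
        have hai : a ^ i • (∑ j ∈ Finset.range q, (a ^ i) ^ j • w) =
            ∑ j ∈ Finset.range q, (a ^ i) ^ j • w :=
          sum_pow_smul_fixed (by rw [← pow_mul, mul_comm, pow_mul, haq, one_pow]) w
        have hz : (∑ j ∈ Finset.range q, (a ^ i) ^ j • w) = 0 := by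
          refine hWa _ (Submodule.sum_mem _ fun j _ => hWpow ((Commute.refl a).pow_left i) j) ?_
          obtain ⟨k, hk⟩ := exists_pow_eq_self_of_coprime (x := a) (n := i) (by
            rw [ha]
            exact (hq.1.coprime_iff_not_dvd.2 fun h =>
              absurd (Nat.le_of_dvd (Nat.pos_of_ne_zero hi0) h) (by
                have := Finset.mem_range.1 hi; omega)).symm)
          have hall : ∀ r : ℕ, (a ^ i) ^ r • (∑ j ∈ Finset.range q, (a ^ i) ^ j • w) =
              ∑ j ∈ Finset.range q, (a ^ i) ^ j • w := by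
            intro r
            induction r with
            | zero => rw [pow_zero, one_smul]
            | succ r ih => rw [pow_succ, mul_smul, hai, ih]
          have h2 := hall k
          rwa [hk] at h2
        rw [hz, smul_zero]
      · intro h
        exact absurd (Finset.mem_range.2 hq.1.pos) h
    simp only [hSc, Finset.sum_const_zero] at hzero
    exact hw0 (natCast_smul_eq_zero hqp hzero.symm)
  obtain ⟨j, w, hw, hw0, hcw⟩ := hex
  set c := b * a ^ j
  have hca : Commute c a := hab.symm.mul_left ((Commute.refl a).pow_left j)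
  have hc1 : c ≠ 1 := fun h => hb' (by
    rw [eq_inv_of_mul_eq_one_left h]
    exact inv_mem (Subgroup.npow_mem_zpowers a j))
  have hcq : c ^ q = 1 := by
    rw [(hab.symm.pow_right j).mul_pow, hbq, ← pow_mul, mul_comm, pow_mul, haq]; simp
  have hcord : orderOf c = q := by
    haveI := Fact.mk hq.1
    exact orderOf_eq_prime hcq hc1
  have hcF : ∀ u ∈ F, c • u = u := by
    intro u hu
    have haj : ∀ i : ℕ, a ^ i • u = u := by
      intro i
      induction i with
      | zero => simp
      | succ i ih => rw [pow_succ, mul_smul, hFa u hu, ih]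
    rw [mul_smul, haj, hFb u hu]
  have hCW : ∀ u ∈ mvd (p := p) (V := V) c, c • u = u → u = 0 :=
    fun u hu hf => eq_zero_of_mem_mvd_fixd hcq hqp hu hf
  by_cases hWfix : ∀ u ∈ W, c • u = u
  · obtain ⟨-, hle'⟩ := le_finrank_mvd (V := V) hq hm hcord
    have h1 : W ⊓ mvd (p := p) c = ⊥ :=
      (Submodule.eq_bot_iff _).2 fun u hu => hCW u hu.2 (hWfix u hu.1)
    have h2 : F ⊓ (W ⊔ mvd (p := p) c) = ⊥ := by
      refine (Submodule.eq_bot_iff _).2 fun v hv => ?_
      obtain ⟨x, hx, y, hy, rfl⟩ := Submodule.mem_sup.1 hv.2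
      have h3 := hcF _ hv.1
      rw [smul_add, hWfix x hx, add_right_inj] at h3
      have hy0 := hCW y hy h3
      subst hy0
      rw [add_zero] at hv ⊢
      exact hWa x hx (hFa x hv.1)
    have e1 := Submodule.finrank_sup_add_finrank_inf_eq W (mvd (p := p) (V := V) c)
    have e2 := Submodule.finrank_sup_add_finrank_inf_eq F (W ⊔ mvd (p := p) (V := V) c)
    rw [h1, finrank_bot] at e1
    rw [h2, finrank_bot] at e2
    have e3 := Submodule.finrank_le (F ⊔ (W ⊔ mvd (p := p) (V := V) c))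
    omega
  · push Not at hWfix
    obtain ⟨x, hx, hx'⟩ := hWfix
    set U := W.map (lin c - LinearMap.id)
    have hUW : U ≤ W := by
      rintro u ⟨y, hy, rfl⟩
      exact W.sub_mem (smul_mem_mvd hca hy) hy
    have hUc : ∀ u ∈ U, c • u ∈ U := by
      rintro u ⟨y, hy, rfl⟩
      exact ⟨c • y, smul_mem_mvd hca hy, by simp [smul_sub]⟩
    have hUfree : ∀ u ∈ U, c • u = u → u = 0 := by
      rintro u ⟨y, hy, rfl⟩ hf
      exact hCW _ (mem_mvd.2 ⟨y, rfl⟩) hf
    have hd := dvd_finrank_of_free hq hm hcq U hUc hUfree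
    have hne : U ≠ ⊥ := fun h => hx' (by
      have : c • x - x ∈ U := ⟨x, hx, rfl⟩
      rw [h, Submodule.mem_bot, sub_eq_zero] at this
      exact this)
    have hUle : m ≤ finrank (ZMod p) U :=
      Nat.le_of_dvd (Nat.pos_of_ne_zero fun h => hne (Submodule.finrank_eq_zero.1 h)) hd
    have hlt : finrank (ZMod p) U < finrank (ZMod p) W := by
      refine Submodule.finrank_lt_finrank_of_lt (lt_of_le_of_ne hUW fun h => hw0 ?_)
      exact hUfree w (h ▸ hw) hcw
    have e2 := Submodule.finrank_sup_add_finrank_inf_eq F W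
    rw [hFW, finrank_bot] at e2
    have e3 := Submodule.finrank_le (F ⊔ W)
    obtain ⟨i, hi⟩ := hdvd
    have : 2 ≤ i := by
      by_contra h
      interval_cases i <;> omega
    have : 2 * m ≤ finrank (ZMod p) W := by rw [hi]; nlinarith
    omega

end Cfsg.Agent.H35.ThreeBlock
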