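import Cfsg.Agent.H83.RegInner

/-!
# The number of characters of height zero in a two-block of defect at least two
-/

open scoped ComplexConjugate

namespace Cfsg.Agent.H35.ThreeBlock

open CharBasic

universe u

variable {G : Type u} [Group G] [Fintype G] {M : Ideal Cfsg.AlgInt}

theorem int_sq_mod_four_even {a : ℤ} (h : (2 : ℤ) ∣ a) : ((a : ZMod 4)) ^ 2 = 0 := by
  obtain ⟨c, rfl⟩ := h
  push_cast
  generalize (c : ZMod 4) = z
  revert z
  decide

theorem int_sq_mod_four_odd {a : ℤ} (h : ¬ (2 : ℤ) ∣ a) : ((a : ZMod 4)) ^ 2 = 1 := by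
  obtain ⟨c, rfl⟩ : ∃ c, a = 2 * c + 1 := ⟨a / 2, by omega⟩
  push_cast
  generalize (c : ZMod 4) = z
  revert z
  decide

/-- In a two-block of defect at least two the height zero count is divisible by four. -/
theorem four_dvd_card_height_zero [Fact (Nat.Prime 2)] (hM : Cfsg.IsPModular 2 M)
    {B : Set (Cfsg.IrrCharacter G)} (hB : Cfsg.IsPBlock M B) (hd : 2 ≤ Cfsg.blockDefect 2 B) :
    4 ∣ Nat.card {χ : Cfsg.IrrCharacter G //
      χ ∈ B ∧ Cfsg.blockHeight 2 B (χ : G → ℂ) = 0} := by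
  classical
  obtain ⟨χ, hχ, h0⟩ := H83.exists_height_zero hM hB
  have h := congrArg (Int.cast : ℤ → ZMod 4) (H83.sum_entry_sq hM hB hχ)
  push_cast at h
  have h4 : (2 : ZMod 4) ^ Cfsg.blockDefect 2 B = 0 := by
    obtain ⟨i, hi⟩ := Nat.exists_eq_add_of_le hd
    rw [hi, pow_add, show (2 : ZMod 4) ^ 2 = 0 by decide, zero_mul]
  rw [h4, zero_mul] at h
  have hval : ∀ φ : Cfsg.IrrCharacter G, ((H83.entry 2 B χ φ : ZMod 4)) ^ 2 =
      if φ ∈ B ∧ Cfsg.blockHeight 2 B (φ : G → ℂ) = 0 then 1 else 0 := by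
    intro φ
    by_cases hφ : φ ∈ B
    · by_cases hz : Cfsg.blockHeight 2 B (φ : G → ℂ) = 0
      · rw [if_pos ⟨hφ, hz⟩, int_sq_mod_four_odd]
        have := H83.not_dvd_entry_of_height_zero hM hB hχ h0 hφ
        rw [hz, zero_add, pow_one] at this
        exact_mod_cast this
      · rw [if_neg (fun h => hz h.2), int_sq_mod_four_even]
        have := H83.dvd_entry hM hB hχ hφ
        exact (dvd_pow_self (2 : ℤ) hz).trans (by exact_mod_cast this)
    · rw [if_neg (fun h => hφ h.1), H83.entry_eq_zero hM hB hχ hφ]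
      simp
  rw [Finset.sum_congr rfl (fun φ _ => hval φ), Finset.sum_boole] at h
  rw [Nat.card_eq_fintype_card, Fintype.card_subtype]
  exact (ZMod.natCast_eq_zero_iff _ 4).1 h

end Cfsg.Agent.H35.ThreeBlock
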