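import Cfsg.Agent.H35.ThreeBlock.DimTwo

/-!
# Two orbits on nonzero vectors

If a coprime linear group has two orbits on nonzero vectors, both stable under scalars, counting
the zeros of linear forms on an orbit shows that the dimension is even, `2 * m`, and that
`p ^ m - 1` divides the orbit sizes, unless a primitive prime of the dimension divides the group
order.
-/

set_option linter.unusedSectionVars false
set_option linter.style.haveILetI false

namespace Cfsg.Agent.H35.ThreeBlock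

open MulAction Module Cfsg.Agent.Arith

section Ram

variable {p : ℕ} [Fact p.Prime]

/-- `p - 1` at zero and `-1` elsewhere. -/
def ram (z : ZMod p) : ℤ := if z = 0 then (p : ℤ) - 1 else -1

theorem ram_mul {c : ZMod p} (hc : c ≠ 0) (z : ZMod p) : ram (c * z) = ram z := by
  simp [ram, hc]

theorem ram_sq (z : ZMod p) : ram z * ram z = ((p : ℤ) - 2) * ram z + ((p : ℤ) - 1) := by
  unfold ram
  split_ifs <;> ring

theorem sum_ram : ∑ z : ZMod p, ram z = 0 := by
  unfold ram
  rw [Finset.sum_ite, Finset.sum_const, Finset.sum_const, Finset.filter_eq',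
    if_pos (Finset.mem_univ _), Finset.card_singleton, Finset.filter_ne', Finset.card_erase_of_mem
      (Finset.mem_univ _), Finset.card_univ, ZMod.card]
  have := (Fact.out : p.Prime).one_le
  simp [Nat.cast_sub this]

variable {M : Type*} [AddCommGroup M] [Module (ZMod p) M]

/-- Scalar-stable sums are divisible by `p - 1`. -/
theorem dvd_sum_of_stable (s : Finset M) (h0 : (0 : M) ∉ s)
    (hs : ∀ c : ZMod p, c ≠ 0 → ∀ x ∈ s, c • x ∈ s) (F : M → ℤ)
    (hF : ∀ c : ZMod p, c ≠ 0 → ∀ x ∈ s, F (c • x) = F x) : ((p : ℤ) - 1) ∣ ∑ x ∈ s, F x := by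
  classical
  rw [← Finset.sum_fiberwise_of_maps_to (g := fun x : M => Submodule.span (ZMod p) {x})
    (t := s.image fun x : M => Submodule.span (ZMod p) {x})
    (fun x hx => Finset.mem_image_of_mem _ hx)]
  refine Finset.dvd_sum fun L hL => ?_
  obtain ⟨x, hx, rfl⟩ := Finset.mem_image.1 hL
  have hx0 : x ≠ 0 := fun h => h0 (h ▸ hx)
  have hfib : (s.filter fun y => Submodule.span (ZMod p) {y} = Submodule.span (ZMod p) {x}) =
      ((Finset.univ : Finset (ZMod p)).erase 0).map
        ⟨fun c => c • x, smul_left_injective (ZMod p) hx0⟩ := by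
    ext y
    simp only [Finset.mem_filter, Finset.mem_map, Finset.mem_erase, Finset.mem_univ, and_true,
      Function.Embedding.coeFn_mk]
    constructor
    · rintro ⟨hy, hspan⟩
      obtain ⟨c, rfl⟩ := Submodule.mem_span_singleton.1 (hspan ▸ Submodule.mem_span_singleton_self y)
      exact ⟨c, fun h => h0 (by simpa [h] using hy), rfl⟩
    · rintro ⟨c, hc, rfl⟩
      exact ⟨hs c hc x hx, Submodule.span_singleton_smul_eq (Ne.isUnit hc) x⟩
  rw [hfib, Finset.sum_map, Finset.sum_congr rfl (g := fun _ => F x) fun c hc => by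
    simpa using hF c (Finset.ne_of_mem_erase hc) x hx]
  rw [Finset.sum_const, Finset.card_erase_of_mem (Finset.mem_univ _), Finset.card_univ, ZMod.card,
    nsmul_eq_mul, Nat.cast_sub (Fact.out : p.Prime).one_le, Nat.cast_one]
  exact dvd_mul_right _ _

theorem dvd_card_of_stable (s : Finset M) (h0 : (0 : M) ∉ s)
    (hs : ∀ c : ZMod p, c ≠ 0 → ∀ x ∈ s, c • x ∈ s) : ((p : ℤ) - 1) ∣ (s.card : ℤ) := by
  simpa using dvd_sum_of_stable s h0 hs (fun _ => 1) (fun _ _ _ _ => rfl)

variable {V : Type*} [AddCommGroup V] [Module (ZMod p) V] [Fintype (Module.Dual (ZMod p) V)]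

theorem sum_ram_eq_zero {x : V} (hx : x ≠ 0) :
    ∑ f : Module.Dual (ZMod p) V, ram (f x) = 0 := by
  obtain ⟨g, hg⟩ : ∃ g : Module.Dual (ZMod p) V, g x = 1 := by
    obtain ⟨g, hg⟩ := Module.Projective.exists_dual_ne_zero (ZMod p) hx
    exact ⟨(g x)⁻¹ • g, by simp [inv_mul_cancel₀ hg]⟩
  have h1 : ∀ c : ZMod p, ∑ f : Module.Dual (ZMod p) V, ram (f x + c) = ∑ f : Module.Dual (ZMod p) V, ram (f x) := fun c => by
    refine Fintype.sum_equiv (Equiv.addRight (c • g)) _ _ fun f => ?_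
    simp [hg]
  have h2 : (p : ℤ) * ∑ f : Module.Dual (ZMod p) V, ram (f x) = 0 := by
    have : ∑ c : ZMod p, ∑ f : Module.Dual (ZMod p) V, ram (f x + c) = 0 := by
      rw [Finset.sum_comm]
      refine Finset.sum_eq_zero fun f _ => ?_
      rw [← sum_ram (p := p)]
      exact Fintype.sum_equiv (Equiv.addLeft (f x)) _ _ fun c => rfl
    rw [Finset.sum_congr rfl fun c _ => h1 c, Finset.sum_const, Finset.card_univ, ZMod.card,
      nsmul_eq_mul] at this
    exact this
  exact (mul_eq_zero.1 h2).resolve_left (by exact_mod_cast (Fact.out : p.Prime).ne_zero)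

theorem sum_ram_mul_eq_zero {x y : V} (hy : y ∉ Submodule.span (ZMod p) {x}) :
    ∑ f : Module.Dual (ZMod p) V, ram (f x) * ram (f y) = 0 := by
  obtain ⟨g, hgy, hgx⟩ := Submodule.exists_dual_map_eq_bot_of_notMem hy inferInstance
  obtain ⟨g, hgx, hgy⟩ : ∃ g : Module.Dual (ZMod p) V, g x = 0 ∧ g y = 1 := by
    refine ⟨(g y)⁻¹ • g, ?_, by simp [inv_mul_cancel₀ hgy]⟩
    have : g x ∈ (Submodule.span (ZMod p) {x}).map g :=
      Submodule.mem_map_of_mem (Submodule.mem_span_singleton_self x)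
    rw [hgx, Submodule.mem_bot] at this
    simp [this]
  have h1 : ∀ c : ZMod p, ∑ f : Module.Dual (ZMod p) V, ram (f x) * ram (f y + c) =
      ∑ f : Module.Dual (ZMod p) V, ram (f x) * ram (f y) := fun c => by
    refine Fintype.sum_equiv (Equiv.addRight (c • g)) _ _ fun f => ?_
    simp [hgx, hgy]
  have h2 : (p : ℤ) * ∑ f : Module.Dual (ZMod p) V, ram (f x) * ram (f y) = 0 := by
    have : ∑ c : ZMod p, ∑ f : Module.Dual (ZMod p) V, ram (f x) * ram (f y + c) = 0 := by
      rw [Finset.sum_comm]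
      refine Finset.sum_eq_zero fun f _ => ?_
      rw [← Finset.mul_sum]
      refine mul_eq_zero_of_right _ ?_
      rw [← sum_ram (p := p)]
      exact Fintype.sum_equiv (Equiv.addLeft (f y)) _ _ fun c => rfl
    rw [Finset.sum_congr rfl fun c _ => h1 c, Finset.sum_const, Finset.card_univ, ZMod.card,
      nsmul_eq_mul] at this
    exact this
  exact (mul_eq_zero.1 h2).resolve_left (by exact_mod_cast (Fact.out : p.Prime).ne_zero)

theorem sum_ram_mul_smul {x : V} (hx : x ≠ 0) {c : ZMod p} (hc : c ≠ 0) :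
    ∑ f : Module.Dual (ZMod p) V, ram (f x) * ram (f (c • x)) =
      ((p : ℤ) - 1) * Fintype.card (Module.Dual (ZMod p) V) := by
  simp only [map_smul, smul_eq_mul, ram_mul hc, ram_sq, Finset.sum_add_distrib, ← Finset.mul_sum,
    sum_ram_eq_zero hx, Finset.sum_const, Finset.card_univ, nsmul_eq_mul]
  ring

theorem sum_ram_mul_stable [DecidableEq V] (s : Finset V) (h0 : (0 : V) ∉ s)
    (hs : ∀ c : ZMod p, c ≠ 0 → ∀ x ∈ s, c • x ∈ s) {x : V} (hx : x ≠ 0) :
    ∑ f : Module.Dual (ZMod p) V, ram (f x) * ∑ y ∈ s, ram (f y) =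
      if x ∈ s then ((p : ℤ) - 1) * (((p : ℤ) - 1) * Fintype.card (Module.Dual (ZMod p) V))
      else 0 := by
  classical
  simp only [Finset.mul_sum]
  rw [Finset.sum_comm, ← Finset.sum_filter_add_sum_filter_not s
    (fun y => y ∈ Submodule.span (ZMod p) {x})]
  rw [Finset.sum_eq_zero (s := s.filter fun y => ¬ y ∈ Submodule.span (ZMod p) {x})
    fun y hy => sum_ram_mul_eq_zero (Finset.mem_filter.1 hy).2, add_zero]
  split_ifs with hxs
  · have hfib : (s.filter fun y => y ∈ Submodule.span (ZMod p) {x}) =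
        ((Finset.univ : Finset (ZMod p)).erase 0).map
          ⟨fun c => c • x, smul_left_injective (ZMod p) hx⟩ := by
      ext y
      simp only [Finset.mem_filter, Finset.mem_map, Finset.mem_erase, Finset.mem_univ, and_true,
        Function.Embedding.coeFn_mk, Submodule.mem_span_singleton]
      constructor
      · rintro ⟨hy, c, rfl⟩
        exact ⟨c, fun h => h0 (by simpa [h] using hy), rfl⟩
      · rintro ⟨c, hc, rfl⟩
        exact ⟨hs c hc x hxs, c, rfl⟩
    rw [hfib, Finset.sum_map, Finset.sum_congr rfl fun c hc => by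
      exact sum_ram_mul_smul hx (Finset.ne_of_mem_erase hc)]
    rw [Finset.sum_const, Finset.card_erase_of_mem (Finset.mem_univ _), Finset.card_univ,
      ZMod.card, nsmul_eq_mul, Nat.cast_sub (Fact.out : p.Prime).one_le, Nat.cast_one]
  · refine Finset.sum_eq_zero fun y hy => absurd ?_ hxs
    obtain ⟨hys, hy⟩ := Finset.mem_filter.1 hy
    obtain ⟨c, rfl⟩ := Submodule.mem_span_singleton.1 hy
    have hc : c ≠ 0 := fun h => h0 (by simpa [h] using hys)
    simpa [smul_smul, inv_mul_cancel₀ hc] using hs c⁻¹ (inv_ne_zero hc) _ hys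

end Ram

variable {p : ℕ} [Fact p.Prime] {E : Type*} [Group E] [Finite E] {V : Type*} [AddCommGroup V]
  [Module (ZMod p) V] [Module.Finite (ZMod p) V] [DistribMulAction E V] [SMulCommClass E (ZMod p) V]
  [FaithfulSMul E V]

theorem ncard_add_ncard {v w : V} (hv : v ≠ 0) (hw : w ≠ 0) (hvw : w ∉ orbit E v)
    (hcov : ∀ u : V, u ≠ 0 → u ∈ orbit E v ∨ u ∈ orbit E w) :
    (orbit E v).ncard + (orbit E w).ncard = p ^ finrank (ZMod p) V - 1 := by
  haveI : Finite V := Module.finite_of_finite (ZMod p)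
  rw [← ncard_ne_zero (p := p) (V := V), ← Set.ncard_union_eq]
  · congr 1
    ext u
    refine ⟨?_, hcov u⟩
    rintro (⟨g, rfl⟩ | ⟨g, rfl⟩) <;> exact Weights.smul_ne_zero_of_ne ‹_› g
  · rw [Set.disjoint_left]
    intro u h1 h2
    exact hvw (by
      rw [← orbit_eq_iff] at h1 h2
      rw [← h1, h2]
      exact mem_orbit_self w)

theorem ncard_orbit_dvd {α : Type*} [MulAction E α] (a : α) :
    (orbit E a).ncard ∣ Nat.card E := by
  rw [← index_stabilizer]
  exact Subgroup.index_dvd_card _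

/-- Scalars preserve the orbits when a primitive prime of the dimension is prime to the order. -/
theorem smul_mem_orbit {q : ℕ} (hq : q.Prime) (hq2 : q ≠ 2)
    (hqN : q ∣ p ^ finrank (ZMod p) V - 1) (hqE : ¬ q ∣ Nat.card E) {v w : V} (hv : v ≠ 0)
    (hw : w ≠ 0) (hvw : w ∉ orbit E v)
    (hcov : ∀ u : V, u ≠ 0 → u ∈ orbit E v ∨ u ∈ orbit E w) {c : ZMod p} (hc : c ≠ 0) {u : V}
    (hu : u ∈ orbit E v) : c • u ∈ orbit E v := by
  haveI : Finite V := Module.finite_of_finite (ZMod p)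
  obtain ⟨g, rfl⟩ := hu
  have hcv : c • v ∈ orbit E v := by
    rcases hcov (c • v) (smul_ne_zero hc hv) with h | h
    · exact h
    exfalso
    have himg : (fun x : V => c • x) '' orbit E v = orbit E w := by
      rw [← orbit_eq_iff.2 h]
      ext x
      constructor
      · rintro ⟨_, ⟨k, rfl⟩, rfl⟩
        exact ⟨k, (smul_comm k c v)⟩
      · rintro ⟨k, rfl⟩
        exact ⟨k • v, ⟨k, rfl⟩, (smul_comm k c v).symm⟩
    have hAB : (orbit E w).ncard = (orbit E v).ncard := by
      rw [← himg, Set.ncard_image_of_injective _ (smul_right_injective V hc)]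
    have hsum := ncard_add_ncard (p := p) hv hw hvw hcov
    rw [hAB, ← two_mul] at hsum
    rw [← hsum] at hqN
    rcases hq.dvd_mul.1 hqN with h2 | h2
    · exact hq2 ((Nat.prime_dvd_prime_iff_eq hq Nat.prime_two).1 h2)
    · exact hqE (h2.trans (ncard_orbit_dvd v))
  obtain ⟨k, hk⟩ := hcv
  exact ⟨g * k, by show (g * k) • v = c • g • v; rw [mul_smul, show k • v = c • v from hk, smul_comm]⟩

theorem card_fixedBy_dual (g : E) :
    Nat.card {f : Module.Dual (ZMod p) V // f.comp (lin g⁻¹) = f} = Nat.card (fixedBy V g) := by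
  set T : V →ₗ[ZMod p] V := lin g⁻¹ - LinearMap.id
  have h1 : Nat.card {f : Module.Dual (ZMod p) V // f.comp (lin g⁻¹) = f} =
      Nat.card (LinearMap.ker T.dualMap) := by
    refine Nat.card_congr (Equiv.subtypeEquivRight fun f => ?_)
    rw [LinearMap.mem_ker, LinearMap.dualMap_apply', LinearMap.comp_sub, LinearMap.comp_id,
      sub_eq_zero]
  have h2 : Nat.card (fixedBy V g) = Nat.card (LinearMap.ker T) := by
    refine Nat.card_congr (Equiv.subtypeEquivRight fun u => ?_)
    show g • u = u ↔ u ∈ LinearMap.ker T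
    simp only [LinearMap.mem_ker, T, LinearMap.sub_apply, DistribSMul.toLinearMap_apply,
      LinearMap.id_coe, id_eq, sub_eq_zero, inv_smul_eq_iff]
    exact eq_comm
  haveI : Finite V := Module.finite_of_finite (ZMod p)
  rw [h1, h2, Module.natCard_eq_pow_finrank (K := ZMod p),
    Module.natCard_eq_pow_finrank (K := ZMod p) (V := LinearMap.ker T)]
  congr 1
  have e1 := LinearMap.finrank_range_add_finrank_ker T.dualMap
  have e2 := LinearMap.finrank_range_add_finrank_ker T
  rw [LinearMap.finrank_range_dualMap_eq_finrank_range, Subspace.dual_finrank_eq] at e1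
  omega

theorem exists_half_dim {q : ℕ} (hE : ¬ p ∣ Nat.card E)
    (hq : IsPPD q p (finrank (ZMod p) V)) (hq2 : q ≠ 2)
    (hqE : ¬ q ∣ Nat.card E) {v w : V} (hv : v ≠ 0) (hw : w ≠ 0) (hvw : w ∉ orbit E v)
    (hcov : ∀ u : V, u ≠ 0 → u ∈ orbit E v ∨ u ∈ orbit E w) :
    ∃ m : ℕ, finrank (ZMod p) V = 2 * m ∧ p ^ m - 1 ∣ (orbit E v).ncard := by
  classical
  haveI := Fintype.ofFinite E
  haveI : Finite V := Module.finite_of_finite (ZMod p)
  haveI := Fintype.ofFinite V
  haveI : Finite (Module.Dual (ZMod p) V) := Module.finite_of_finite (ZMod p)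
  haveI := Fintype.ofFinite (Module.Dual (ZMod p) V)
  have hp : p.Prime := Fact.out
  set n := finrank (ZMod p) V with hn
  have hcardW : (Fintype.card (Module.Dual (ZMod p) V) : ℤ) = (p : ℤ) ^ n := by
    rw [← Nat.card_eq_fintype_card, Module.natCard_eq_pow_finrank (K := ZMod p),
      Subspace.dual_finrank_eq, Nat.card_zmod, Nat.cast_pow]
  set O := (orbit E v).toFinset with hO
  have hO0 : (0 : V) ∉ O := fun h => by
    obtain ⟨g, hg⟩ := Set.mem_toFinset.1 h
    exact Weights.smul_ne_zero_of_ne hv g hg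
  have hOs : ∀ c : ZMod p, c ≠ 0 → ∀ x ∈ O, c • x ∈ O := fun c hc x hx =>
    Set.mem_toFinset.2 (smul_mem_orbit hq.1 hq2 hq.2.1 hqE hv hw hvw hcov hc (Set.mem_toFinset.1 hx))
  have hOg : ∀ (g : E) (x : V), g • x ∈ O ↔ x ∈ O := fun g x => by
    simp only [hO, Set.mem_toFinset]
    constructor
    · rintro ⟨k, hk⟩
      exact ⟨g⁻¹ * k, by show (g⁻¹ * k) • v = x; rw [mul_smul, show k • v = g • x from hk, inv_smul_smul]⟩
    · rintro ⟨k, rfl⟩
      exact ⟨g * k, mul_smul g k v⟩
  set A := (orbit E v).ncard with hA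
  set B := (orbit E w).ncard
  have hAB : A + B = p ^ n - 1 := ncard_add_ncard hv hw hvw hcov
  have hAc : O.card = A := (Set.ncard_eq_toFinset_card' _).symm
  let R : Module.Dual (ZMod p) V → ℤ := fun f => ∑ x ∈ O, ram (f x)
  have hRdvd : ∀ f, ((p : ℤ) - 1) ∣ R f := fun f =>
    dvd_sum_of_stable O hO0 hOs _ fun c hc x _ => by rw [map_smul, smul_eq_mul, ram_mul hc]
  choose r hr using hRdvd
  have hp1 : (p : ℤ) - 1 ≠ 0 := by have := hp.two_le; omega
  have hsum1 : ∑ f, r f = 0 := by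
    refine (mul_eq_zero.1 ?_).resolve_left hp1
    rw [Finset.mul_sum, ← Finset.sum_congr rfl (fun f _ => hr f), Finset.sum_comm]
    exact Finset.sum_eq_zero fun x hx => sum_ram_eq_zero fun h => hO0 (h ▸ hx)
  have hsum2 : ∀ x : V, x ≠ 0 →
      ∑ f, ram (f x) * r f = if x ∈ O then ((p : ℤ) - 1) * (p : ℤ) ^ n else 0 := by
    intro x hx
    refine mul_left_cancel₀ hp1 ?_
    have h := sum_ram_mul_stable O hO0 hOs hx
    rw [Finset.mul_sum, mul_ite, mul_zero, ← hcardW, ← h]
    exact Finset.sum_congr rfl fun f _ => by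
      show _ = ram (f x) * R f
      rw [hr f]; ring
  have hsumsq : ∑ f, r f * r f = (A : ℤ) * (p : ℤ) ^ n := by
    refine mul_left_cancel₀ hp1 ?_
    calc ((p : ℤ) - 1) * ∑ f, r f * r f = ∑ f, (∑ x ∈ O, ram (f x)) * r f := by
          rw [Finset.mul_sum]
          exact Finset.sum_congr rfl fun f _ => by
            show _ = R f * r f
            rw [hr f]; ring
      _ = ∑ x ∈ O, ∑ f, ram (f x) * r f := by
          simp only [Finset.sum_mul]
          exact Finset.sum_comm
      _ = ∑ x ∈ O, ((p : ℤ) - 1) * (p : ℤ) ^ n := Finset.sum_congr rfl fun x hx => by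
          rw [hsum2 x fun h => hO0 (h ▸ hx), if_pos hx]
      _ = _ := by rw [Finset.sum_const, hAc, nsmul_eq_mul]; ring
  have hr0 : r 0 = (A : ℤ) := mul_left_cancel₀ hp1 (by
    rw [← hr 0]
    simp only [R, LinearMap.zero_apply, ram, if_true, Finset.sum_const, hAc, nsmul_eq_mul]
    ring)
  -- the dual action
  letI : MulAction E (Module.Dual (ZMod p) V) :=
    { smul := fun g f => f.comp (lin g⁻¹)
      one_smul := fun f => LinearMap.ext fun u => by
        show f ((1 : E)⁻¹ • u) = f u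
        rw [inv_one, one_smul]
      mul_smul := fun g h f => LinearMap.ext fun u => by
        show f ((g * h)⁻¹ • u) = f (h⁻¹ • g⁻¹ • u)
        rw [mul_inv_rev, mul_smul] }
  have hrinv : ∀ (g : E) f, r (g • f) = r f := fun g f => mul_left_cancel₀ hp1 (by
    rw [← hr, ← hr]
    refine Finset.sum_equiv (MulAction.toPerm g⁻¹) (fun x => (hOg g⁻¹ x).symm) fun x _ => ?_
    rfl)
  have hrscal : ∀ (c : ZMod p), c ≠ 0 → ∀ f, r (c • f) = r f := fun c hc f => mul_left_cancel₀ hp1 (by
    rw [← hr, ← hr]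
    exact Finset.sum_congr rfl fun x _ => by rw [LinearMap.smul_apply, smul_eq_mul, ram_mul hc])
  have hcount : Nat.card (orbitRel.Quotient E (Module.Dual (ZMod p) V)) ≤ 3 := by
    have e1 := sum_card_fixedBy_eq_card_orbits_mul_card_group E (Module.Dual (ZMod p) V)
    have e2 := sum_card_fixedBy_eq_card_orbits_mul_card_group E V
    have e3 : ∀ g : E, Fintype.card (fixedBy (Module.Dual (ZMod p) V) g) =
        Fintype.card (fixedBy V g) := fun g => by
      rw [← Nat.card_eq_fintype_card, ← Nat.card_eq_fintype_card]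
      exact card_fixedBy_dual g
    rw [Finset.sum_congr rfl fun g _ => e3 g, e2] at e1
    rw [Nat.card_eq_fintype_card, ← Nat.eq_of_mul_eq_mul_right Fintype.card_pos e1,
      ← Nat.card_eq_fintype_card]
    let φ : Fin 3 → orbitRel.Quotient E V := fun i => Quotient.mk'' (![0, v, w] i)
    have hφ : Function.Surjective φ := by
      refine fun x => Quotient.inductionOn' x fun u => ?_
      rcases eq_or_ne u 0 with rfl | hu
      · exact ⟨0, rfl⟩
      rcases hcov u hu with h | h
      · exact ⟨1, (Quotient.sound' h).symm⟩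
      · exact ⟨2, (Quotient.sound' h).symm⟩
    simpa using Nat.card_le_card_of_surjective φ hφ
  -- the two values
  obtain ⟨f₁, hf₁, f₂, hf₂, hne⟩ : ∃ f₁ : Module.Dual (ZMod p) V, f₁ ≠ 0 ∧ ∃ f₂ : Module.Dual (ZMod p) V, f₂ ≠ 0 ∧ r f₁ ≠ r f₂ := by
    by_contra hcon
    push Not at hcon
    obtain ⟨f₁, hf₁⟩ : ∃ f : Module.Dual (ZMod p) V, f ≠ 0 := by
      obtain ⟨f, hf⟩ := Module.Projective.exists_dual_ne_zero (ZMod p) hv
      exact ⟨f, fun h => hf (by simp [h])⟩
    have hconst : ∀ f ∈ Finset.univ.erase (0 : Module.Dual (ZMod p) V), r f = r f₁ := fun f hf =>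
      hcon f (Finset.ne_of_mem_erase hf) f₁ hf₁
    rw [← Finset.add_sum_erase _ _ (Finset.mem_univ (0 : Module.Dual (ZMod p) V)), hr0,
      Finset.sum_congr rfl hconst, Finset.sum_const, nsmul_eq_mul] at hsum1
    rw [← Finset.add_sum_erase _ _ (Finset.mem_univ (0 : Module.Dual (ZMod p) V)), hr0,
      Finset.sum_congr rfl (fun f hf => by rw [hconst f hf]), Finset.sum_const, nsmul_eq_mul] at hsumsq
    rw [Finset.card_erase_of_mem (Finset.mem_univ _), Finset.card_univ] at hsum1 hsumsq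
    have hN : ((Fintype.card (Module.Dual (ZMod p) V) - 1 : ℕ) : ℤ) = (A : ℤ) + B := by
      rw [Nat.cast_sub Fintype.card_pos, hcardW, Nat.cast_one]
      have := congrArg (fun k : ℕ => (k : ℤ)) hAB
      push_cast [Nat.cast_sub (Nat.one_le_pow n p hp.pos)] at this
      linarith
    rw [hN] at hsum1 hsumsq
    have hAB' : (p : ℤ) ^ n = A + B + 1 := by
      have := congrArg (fun k : ℕ => (k : ℤ)) hAB
      push_cast [Nat.cast_sub (Nat.one_le_pow n p hp.pos)] at this
      linarith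
    have h0 : (A : ℤ) * B * (A + B + 1) = 0 := by
      rw [hAB'] at hsumsq
      linear_combination (((A : ℤ) + B) * r f₁ - A) * hsum1 - ((A : ℤ) + B) * hsumsq
    have hA0 : 0 < A := (Set.ncard_pos).2 ⟨v, mem_orbit_self v⟩
    have hB0 : 0 < B := (Set.ncard_pos).2 ⟨w, mem_orbit_self w⟩
    have : (0 : ℤ) < A * B * (A + B + 1) := by positivity
    omega
  have horb : ∀ f : Module.Dual (ZMod p) V, f ≠ 0 → f ∈ orbit E f₁ ∨ f ∈ orbit E f₂ := by
    intro f hf
    by_contra hcon
    rw [not_or] at hcon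
    let ψ : Fin 4 → orbitRel.Quotient E (Module.Dual (ZMod p) V) := fun i =>
      Quotient.mk'' (![0, f₁, f₂, f] i)
    have h0 : ∀ (g : E) (k : Module.Dual (ZMod p) V), g • k = 0 → k = 0 := fun g k h => by
      rw [← inv_smul_smul g k, h]
      exact LinearMap.zero_comp _
    have h0' : ∀ (g : E), g • (0 : Module.Dual (ZMod p) V) = 0 := fun g => LinearMap.zero_comp _
    have hψ : Function.Injective ψ := by
      intro i j hij
      obtain ⟨g, hg⟩ := Quotient.exact' hij
      change g • ![0, f₁, f₂, f] j = ![0, f₁, f₂, f] i at hg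
      have hs : ∀ {a b : Module.Dual (ZMod p) V}, g • a = b → g⁻¹ • b = a := fun h => by
        rw [← h, inv_smul_smul]
      fin_cases i <;> fin_cases j <;> simp at hg ⊢
      · exact hf₁ (h0 g _ hg)
      · exact hf₂ (h0 g _ hg)
      · exact hf (h0 g _ hg)
      · exact hf₁ (hg.symm.trans (h0' g))
      · exact hne (by rw [← hg, hrinv])
      · exact hcon.1 ⟨g⁻¹, hs hg⟩
      · exact hf₂ (hg.symm.trans (h0' g))
      · exact hne (by rw [← hg, hrinv])
      · exact hcon.2 ⟨g⁻¹, hs hg⟩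
      · exact hf (hg.symm.trans (h0' g))
      · exact hcon.1 ⟨g, hg⟩
      · exact hcon.2 ⟨g, hg⟩
    have := Nat.card_le_card_of_injective ψ hψ
    rw [Nat.card_fin] at this
    omega
  set C := (orbit E f₁).toFinset with hC
  set D := (orbit E f₂).toFinset with hD
  have horbne : ∀ {f k : Module.Dual (ZMod p) V}, f ≠ 0 → k ∈ orbit E f → k ≠ 0 := by
    rintro f k hf ⟨g, rfl⟩ h
    refine hf ?_
    rw [← inv_smul_smul g f, show g • f = 0 from h]
    exact LinearMap.zero_comp _
  have hrC : ∀ f ∈ C, r f = r f₁ := fun f hf => by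
    obtain ⟨g, rfl⟩ := Set.mem_toFinset.1 hf
    exact hrinv g f₁
  have hrD : ∀ f ∈ D, r f = r f₂ := fun f hf => by
    obtain ⟨g, rfl⟩ := Set.mem_toFinset.1 hf
    exact hrinv g f₂
  have hdisj : Disjoint C D := Finset.disjoint_left.2 fun f h1 h2 =>
    hne (by rw [← hrC f h1, hrD f h2])
  have huniv : (Finset.univ : Finset (Module.Dual (ZMod p) V)).erase 0 = C ∪ D := by
    ext f
    simp only [Finset.mem_erase, Finset.mem_univ, and_true, Finset.mem_union, hC, hD,
      Set.mem_toFinset]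
    exact ⟨horb f, fun h => h.elim (horbne hf₁) (horbne hf₂)⟩
  have hCs : ∀ c : ZMod p, c ≠ 0 → ∀ f ∈ C, c • f ∈ C := by
    intro c hc f hf
    rcases horb (c • f) (smul_ne_zero hc (horbne hf₁ (Set.mem_toFinset.1 hf))) with h | h
    · exact Set.mem_toFinset.2 h
    · exact absurd (by rw [← hrC f hf, ← hrscal c hc f, hrD _ (Set.mem_toFinset.2 h)]) hne
  have hDs : ∀ c : ZMod p, c ≠ 0 → ∀ f ∈ D, c • f ∈ D := by
    intro c hc f hf
    rcases horb (c • f) (smul_ne_zero hc (horbne hf₂ (Set.mem_toFinset.1 hf))) with h | h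
    · exact absurd (by rw [← hrD f hf, ← hrscal c hc f, hrC _ (Set.mem_toFinset.2 h)]) hne
    · exact Set.mem_toFinset.2 h
  have hC0 : (0 : Module.Dual (ZMod p) V) ∉ C := fun h => horbne hf₁ (Set.mem_toFinset.1 h) rfl
  have hD0 : (0 : Module.Dual (ZMod p) V) ∉ D := fun h => horbne hf₂ (Set.mem_toFinset.1 h) rfl
  have hsplit : ∀ F : Module.Dual (ZMod p) V → ℤ,
      ∑ f, F f = F 0 + (∑ f ∈ C, F f + ∑ f ∈ D, F f) := fun F => by
    rw [← Finset.add_sum_erase _ _ (Finset.mem_univ (0 : Module.Dual (ZMod p) V)), huniv,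
      Finset.sum_union hdisj]
  set r₁ := r f₁
  set r₂ := r f₂
  rw [hsplit, hr0, Finset.sum_congr rfl hrC, Finset.sum_congr rfl hrD, Finset.sum_const,
    Finset.sum_const, nsmul_eq_mul, nsmul_eq_mul] at hsum1
  rw [hsplit, hr0, Finset.sum_congr rfl (fun f hf => by rw [hrC f hf]),
    Finset.sum_congr rfl (s₂ := D) (fun f hf => by rw [hrD f hf]), Finset.sum_const,
    Finset.sum_const, nsmul_eq_mul, nsmul_eq_mul] at hsumsq
  have hcd : (C.card : ℤ) + D.card = A + B := by
    have h1 : ((Finset.univ : Finset (Module.Dual (ZMod p) V)).erase 0).card = C.card + D.card := by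
      rw [huniv, Finset.card_union_of_disjoint hdisj]
    rw [Finset.card_erase_of_mem (Finset.mem_univ _), Finset.card_univ] at h1
    have h2 : Fintype.card (Module.Dual (ZMod p) V) = p ^ n := by exact_mod_cast hcardW
    rw [h2] at h1
    exact_mod_cast (by omega : C.card + D.card = A + B)
  have hpn : (p : ℤ) ^ n = A + B + 1 := by
    have h := hAB
    have := Nat.one_le_pow n p hp.pos
    exact_mod_cast (by omega : p ^ n = A + B + 1)
  have hid : (C.card : ℤ) * D.card * (r₁ - r₂) ^ 2 = (p : ℤ) ^ n * A * B := by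
    linear_combination (-(C.card : ℤ) * r₁ - (D.card : ℤ) * r₂ + A) * hsum1 +
      ((C.card : ℤ) + D.card) * hsumsq + ((A : ℤ) * (p : ℤ) ^ n - (A : ℤ) ^ 2) * hcd +
      (A : ℤ) ^ 2 * hpn
  -- the dual values
  have hchi : ∀ x : V, x ≠ 0 → ∃ u : ℤ,
      (r₁ - r₂) * u = (if x ∈ O then (p : ℤ) ^ n else 0) - A + r₂ := by
    intro x hx
    obtain ⟨u, hu⟩ := dvd_sum_of_stable C hC0 hCs (fun f => ram (f x))
      (fun c hc f _ => by rw [LinearMap.smul_apply, smul_eq_mul, ram_mul hc])
    refine ⟨u, mul_left_cancel₀ hp1 ?_⟩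
    have h1 := hsum2 x hx
    have h2 := sum_ram_eq_zero (p := p) hx
    rw [hsplit, hr0, Finset.sum_congr rfl (fun f hf => by rw [hrC f hf]),
      Finset.sum_congr rfl (s₂ := D) (fun f hf => by rw [hrD f hf]), ← Finset.sum_mul,
      ← Finset.sum_mul, hu] at h1
    rw [hsplit, hu] at h2
    simp only [LinearMap.zero_apply, ram, if_true] at h1 h2
    split_ifs at h1 ⊢ <;> linear_combination h1 - r₂ * h2
  obtain ⟨u₁, hu₁⟩ := hchi v hv
  obtain ⟨u₂, hu₂⟩ := hchi w hw
  rw [if_pos (Set.mem_toFinset.2 (mem_orbit_self v))] at hu₁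
  rw [if_neg (fun h => hvw (Set.mem_toFinset.1 h))] at hu₂
  have hddvd : (r₁ - r₂).natAbs ∣ p ^ n := by
    have : (r₁ - r₂) * (u₁ - u₂) = (p : ℤ) ^ n := by linear_combination hu₁ - hu₂
    have := congrArg Int.natAbs this
    rw [Int.natAbs_mul, Int.natAbs_pow, Int.natAbs_natCast] at this
    exact Dvd.intro _ this
  obtain ⟨j, -, hj⟩ := (Nat.dvd_prime_pow hp).1 hddvd
  have hEA : ∀ {k : ℕ}, k ∣ Nat.card E → ¬ p ∣ k := fun hk h => hE (h.trans hk)
  have hCcard : C.card = (orbit E f₁).ncard := (Set.ncard_eq_toFinset_card' _).symm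
  have hDcard : D.card = (orbit E f₂).ncard := (Set.ncard_eq_toFinset_card' _).symm
  have hpC : ¬ p ∣ C.card * D.card := fun h => (hp.dvd_mul.1 h).elim
    (hEA (hCcard ▸ ncard_orbit_dvd f₁)) (hEA (hDcard ▸ ncard_orbit_dvd f₂))
  have hpA : ¬ p ∣ A * B := fun h => (hp.dvd_mul.1 h).elim
    (hEA (ncard_orbit_dvd v)) (hEA (ncard_orbit_dvd w))
  have hidN : C.card * D.card * p ^ (2 * j) = p ^ n * (A * B) := by
    have := congrArg Int.natAbs hid
    simp only [Int.natAbs_mul, Int.natAbs_pow, Int.natAbs_natCast, hj] at this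
    rw [← pow_mul, mul_comm j 2] at this
    rw [this, mul_assoc]
  have h2j : 2 * j = n := by
    rcases lt_trichotomy (2 * j) n with h | h | h
    · obtain ⟨i, hi⟩ := Nat.exists_eq_add_of_lt h
      rw [hi, show 2 * j + i + 1 = 2 * j + (i + 1) by omega, pow_add, mul_comm (C.card * D.card),
        mul_assoc, Nat.mul_right_inj (pow_ne_zero _ hp.ne_zero), pow_succ'] at hidN
      exact absurd ⟨_, hidN.trans (mul_assoc _ _ _)⟩ hpC
    · exact h
    · obtain ⟨i, hi⟩ := Nat.exists_eq_add_of_lt h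
      rw [hi, show n + i + 1 = n + (i + 1) by omega, pow_add, mul_comm (C.card * D.card),
        mul_assoc, Nat.mul_right_inj (pow_ne_zero _ hp.ne_zero), pow_succ', mul_assoc] at hidN
      exact absurd ⟨_, hidN.symm⟩ hpA
  refine ⟨j, h2j.symm, ?_⟩
  rw [← h2j, mul_comm (C.card * D.card), Nat.mul_right_inj (pow_ne_zero _ hp.ne_zero)] at hidN
  have hcdn : C.card + D.card = A + B := by exact_mod_cast hcd
  have hcases : (C.card : ℤ) = A ∨ (C.card : ℤ) = B := by
    have h : ((C.card : ℤ) - A) * ((C.card : ℤ) - B) = 0 := by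
      have : (C.card : ℤ) * D.card = (A : ℤ) * B := by exact_mod_cast hidN
      linear_combination (C.card : ℤ) * hcd - this
    rcases mul_eq_zero.1 h with h | h
    · exact Or.inl (by linarith)
    · exact Or.inr (by linarith)
  set P : ℤ := (p : ℤ) ^ j with hP
  have hP2 : P * P = (A : ℤ) + B + 1 := by rw [hP, ← pow_add, ← two_mul, h2j, hpn]
  have hj0 : 0 < j := by
    rcases Nat.eq_zero_or_pos j with rfl | h
    · have hA0 : 0 < A := (Set.ncard_pos).2 ⟨v, mem_orbit_self v⟩
      rw [hP, pow_zero, mul_one] at hP2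
      omega
    · exact h
  have hPne : P + 1 ≠ 0 ∧ P - 1 ≠ 0 := by
    have : (1 : ℤ) < P := one_lt_pow₀ (by exact_mod_cast hp.one_lt) hj0.ne'
    constructor <;> linarith
  have hgoal : (P - 1) ∣ (A : ℤ) → p ^ j - 1 ∣ A := fun h => by
    have h1 : ((p ^ j - 1 : ℕ) : ℤ) = P - 1 := by
      rw [Nat.cast_sub (Nat.one_le_pow _ _ hp.pos), Nat.cast_pow, Nat.cast_one, hP]
    exact Int.natCast_dvd_natCast.1 (h1 ▸ h)
  have hbad : (P + 1) ∣ (A : ℤ) → False := fun h => by
    have h1 : p ^ j + 1 ∣ A := Int.natCast_dvd_natCast.1 (by rw [Nat.cast_add, Nat.cast_pow, Nat.cast_one]; exact h)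
    have h2 : q ∣ (p ^ j + 1) * (p ^ j - 1) := by
      have := hq.2.1
      rwa [← h2j, mul_comm 2 j, pow_mul, show (p ^ j) ^ 2 - 1 = (p ^ j + 1) * (p ^ j - 1) by
        simpa using Nat.sq_sub_sq (p ^ j) 1] at this
    rcases hq.1.dvd_mul.1 h2 with h3 | h3
    · exact hqE ((h3.trans h1).trans (ncard_orbit_dvd v))
    · exact hq.2.2 j hj0 (by omega) h3
  have hd : r₁ - r₂ = P ∨ r₁ - r₂ = -P := by
    rcases Int.natAbs_eq (r₁ - r₂) with h | h <;> rw [hj, Nat.cast_pow] at h
    · exact Or.inl h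
    · exact Or.inr h
  rcases hcases with hc | hc <;> rcases hd with hd | hd
  · refine hgoal ⟨-r₂, mul_left_cancel₀ hPne.1 ?_⟩
    linear_combination hsum1 + r₂ * hP2 - (r₂ : ℤ) * hcd - (P : ℤ) * hc - (C.card : ℤ) * hd
  · refine (hbad ⟨r₂, mul_left_cancel₀ hPne.2 ?_⟩).elim
    linear_combination -hsum1 + r₂ * hP2 * (-1 : ℤ) + r₂ * hcd - P * hc + (C.card : ℤ) * hd
  · refine (hbad ⟨P + r₂, mul_left_cancel₀ hPne.2 ?_⟩).elim
    linear_combination -hsum1 + (-(r₂ + P)) * hP2 + r₂ * hcd + P * hc + (C.card : ℤ) * hd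
  · refine hgoal ⟨-(r₂ - P), mul_left_cancel₀ hPne.1 ?_⟩
    linear_combination hsum1 + (r₂ - P) * hP2 - r₂ * hcd + P * hc - (C.card : ℤ) * hd

end Cfsg.Agent.H35.ThreeBlock
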