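import Cfsg.Agent.H35.ThreeBlock.SmallTransitive
import Cfsg.Agent.H35.ThreeBlock.Scheme

/-!
# Two orbits on eighty vectors

Orbits of sizes sixteen and sixty-four come from an unordered decomposition into two planes.
-/

set_option linter.unusedSectionVars false
set_option linter.style.haveILetI false

namespace Cfsg.Agent.H35.ThreeBlock

open MulAction Module Cfsg.Agent.Arith

/-- The planes of a four-dimensional space over three elements. -/
theorem card_planes {V : Type*} [AddCommGroup V] [Module (ZMod 3) V] [Finite V]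
    (hn : finrank (ZMod 3) V = 4) :
    Nat.card {U : Submodule (ZMod 3) V // finrank (ZMod 3) U = 2} = 130 := by
  classical
  haveI := Fintype.ofFinite V
  set P := {U : Submodule (ZMod 3) V // finrank (ZMod 3) U = 2}
  haveI : Finite P := inferInstance
  haveI := Fintype.ofFinite P
  let f : {s : Fin 2 → V // LinearIndependent (ZMod 3) s} → P := fun s =>
    ⟨Submodule.span (ZMod 3) (Set.range s.1), by
      rw [finrank_span_eq_card s.2, Fintype.card_fin]⟩
  have hspan : ∀ (U : P) (t : {s : Fin 2 → U.1 // LinearIndependent (ZMod 3) s}),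
      Submodule.span (ZMod 3) (Set.range fun i => (t.1 i : V)) = U.1 := fun U t => by
    refine Submodule.eq_of_le_of_finrank_eq (Submodule.span_le.2 ?_) ?_
    · rintro _ ⟨i, rfl⟩
      exact (t.1 i).2
    · show finrank (ZMod 3) (Submodule.span (ZMod 3) (Set.range (U.1.subtype ∘ t.1))) = _
      rw [finrank_span_eq_card (t.2.map' U.1.subtype U.1.ker_subtype), Fintype.card_fin, U.2]
  let e : {s : Fin 2 → V // LinearIndependent (ZMod 3) s} ≃
      Σ U : P, {s : Fin 2 → U.1 // LinearIndependent (ZMod 3) s} :=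
    (Equiv.sigmaFiberEquiv f).symm.trans (Equiv.sigmaCongrRight fun U =>
      { toFun := fun s => ⟨fun i => ⟨s.1.1 i, by
            have h := congrArg Subtype.val s.2
            rw [← h]
            exact Submodule.subset_span ⟨i, rfl⟩⟩,
          LinearIndependent.of_comp U.1.subtype s.1.2⟩
        invFun := fun t => ⟨⟨fun i => (t.1 i : V), t.2.map' U.1.subtype U.1.ker_subtype⟩,
          Subtype.ext (hspan U t)⟩
        left_inv := fun s => rfl
        right_inv := fun t => rfl })
  have h1 := Nat.card_congr e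
  rw [card_linearIndependent (by omega), Nat.card_sigma] at h1
  rw [Finset.sum_congr rfl (g := fun _ => 48) fun U _ => by
    rw [card_linearIndependent (le_of_eq U.2.symm), U.2]
    simp [Fin.prod_univ_two]] at h1
  rw [Finset.sum_const, Finset.card_univ, hn] at h1
  simp [Fin.prod_univ_two] at h1
  rw [← Nat.card_eq_fintype_card] at h1
  show Nat.card P = 130
  omega

/-- Coordinates in a plane. -/
theorem exists_coords {p : ℕ} [Fact p.Prime] {V : Type*} [AddCommGroup V] [Module (ZMod p) V]
    [Module.Finite (ZMod p) V] {U : Submodule (ZMod p) V} (hU : finrank (ZMod p) U = 2) {a m : V}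
    (ha : a ∈ U) (hm : m ∈ U) (ha0 : a ≠ 0) (hm' : ∀ c : ZMod p, c • a ≠ m) {y : V} (hy : y ∈ U) :
    ∃ α β : ZMod p, α • a + β • m = y := by
  have hli : LinearIndependent (ZMod p) ![a, m] := (LinearIndependent.pair_iff' ha0).2 hm'
  have h : Submodule.span (ZMod p) {a, m} = U := by
    refine Submodule.eq_of_le_of_finrank_eq ?_ ?_
    · rw [Submodule.span_le]
      rintro x (rfl | rfl) <;> assumption
    · rw [hU, show ({a, m} : Set V) = Set.range ![a, m] by
        simp [Matrix.range_cons, Matrix.range_empty, Set.pair_comm]]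
      rw [finrank_span_eq_card hli, Fintype.card_fin]
  exact Submodule.mem_span_pair.1 (h ▸ hy)

variable {E : Type*} [Group E] [Finite E] {V : Type*} [AddCommGroup V]
  [Module (ZMod 3) V] [Module.Finite (ZMod 3) V] [DistribMulAction E V]
  [SMulCommClass E (ZMod 3) V] [FaithfulSMul E V]

theorem eq_zero_of_add_self {y : V} (h : y + y = 0) : y = 0 := by
  have h1 : (2 : ZMod 3) • y = 0 := by rw [two_smul]; exact h
  exact (smul_eq_zero.1 h1).resolve_left (by decide)

theorem smul_eq_or_neg (c : ZMod 3) (y : V) (hc : c ≠ 0) : c • y = y ∨ c • y = -y := by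
  have : c = 1 ∨ c = -1 := by revert c; decide
  rcases this with rfl | rfl
  · exact Or.inl (one_smul _ _)
  · exact Or.inr (by rw [neg_smul, one_smul])

/-- An element commuting with a reflection of a plane is a sign on both eigenlines. -/
theorem eigen_cases {U : Submodule (ZMod 3) V} (hU : finrank (ZMod 3) U = 2) {j g : E}
    (hgj : Commute g j) (hgU : ∀ x ∈ U, g • x ∈ U) {a m : V} (ha : a ∈ U) (hm : m ∈ U)
    (ha0 : a ≠ 0) (hm0 : m ≠ 0) (hja : j • a = a) (hjm : j • m = -m) :
    (∀ t : ZMod 3, t • a ≠ m) ∧ (g • a = a ∨ g • a = -a) ∧ (g • m = m ∨ g • m = -m) := by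
  have hind : ∀ t : ZMod 3, t • a ≠ m := fun t ht => hm0 (eq_zero_of_add_self (by
    have : j • m = m := by rw [← ht, smul_comm, hja]
    nth_rw 1 [← this]
    rw [hjm, neg_add_cancel]))
  refine ⟨hind, ?_, ?_⟩
  · obtain ⟨α, β, hαβ⟩ := exists_coords hU ha hm ha0 hind (hgU a ha)
    have hfix : j • g • a = g • a := by rw [← mul_smul, ← hgj.eq, mul_smul, hja]
    rw [← hαβ, smul_add, smul_comm j α, smul_comm j β, hja, hjm, smul_neg,
      add_left_cancel_iff] at hfix
    have hβ0 : β • m = 0 := eq_zero_of_add_self (by nth_rw 1 [← hfix]; exact neg_add_cancel _)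
    rw [← hαβ, hβ0, add_zero]
    refine smul_eq_or_neg α a fun hα => ?_
    rw [hα, zero_smul, hβ0, add_zero] at hαβ
    exact Weights.smul_ne_zero_of_ne ha0 g hαβ.symm
  · obtain ⟨α, β, hαβ⟩ := exists_coords hU ha hm ha0 hind (hgU m hm)
    have hfix : j • g • m = -(g • m) := by rw [← mul_smul, ← hgj.eq, mul_smul, hjm, smul_neg]
    rw [← hαβ, smul_add, smul_comm j α, smul_comm j β, hja, hjm, smul_neg, neg_add,
      add_right_cancel_iff] at hfix
    have hα0 : α • a = 0 := eq_zero_of_add_self (by nth_rw 1 [hfix]; exact neg_add_cancel _)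
    rw [← hαβ, hα0, zero_add]
    refine smul_eq_or_neg β m fun hβ => ?_
    rw [hβ, zero_smul, hα0, add_zero] at hαβ
    exact Weights.smul_ne_zero_of_ne hm0 g hαβ.symm

theorem Weights.false_of_two_orbits_small (W : Weights E V) (hE : ¬ 3 ∣ Nat.card E)
    (hn : finrank (ZMod 3) V = 4) {v w : V} (hv : v ≠ 0) (hw : w ≠ 0) (hvw : w ∉ orbit E v)
    (hA : (orbit E v).ncard = 16) (hB : (orbit E w).ncard = 64) : False := by
  classical
  haveI := Fintype.ofFinite E
  haveI : Finite V := Module.finite_of_finite (ZMod 3)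
  obtain ⟨hl0, -, -, hcov⟩ := W.two_orbits hv hw hvw
  -- the order
  obtain ⟨e, he⟩ := W.square 0 hl0
  rw [stabilizer_zero, Subgroup.card_top] at he
  have hGL : Nat.card E ∣ 24261120 := by
    have h := card_dvd_GL (E := E) (p := 3) (V := V)
    rw [hn] at h
    simp only [Fin.prod_univ_four, Fin.val_zero, Fin.val_one, Fin.val_two] at h
    norm_num at h ⊢
    exact h
  have he2 : ∀ r : ℕ, r.Prime → r ∣ e → r = 2 := by
    intro r hr hre
    have h2 : r ^ 2 ∣ Nat.card E := he ▸ pow_dvd_pow_of_dvd hre 2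
    have h2' : r ^ 2 ∣ 2 ^ 9 * 3 ^ 6 * 5 * 13 := by norm_num; exact h2.trans hGL
    have h1 : r ∣ 2 ^ 9 * 3 ^ 6 * 5 * 13 := (dvd_pow_self r two_ne_zero).trans h2'
    rcases hr.dvd_mul.1 h1 with h | h
    rcases hr.dvd_mul.1 h with h | h
    rcases hr.dvd_mul.1 h with h | h
    · exact (Nat.prime_dvd_prime_iff_eq hr Nat.prime_two).1 (hr.dvd_of_dvd_pow h)
    · have := (Nat.prime_dvd_prime_iff_eq hr Nat.prime_three).1 (hr.dvd_of_dvd_pow h)
      subst this
      exact absurd ((dvd_pow_self 3 two_ne_zero).trans h2) hE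
    · have := (Nat.prime_dvd_prime_iff_eq hr (by norm_num)).1 h
      subst this
      norm_num at h2'
    · have := (Nat.prime_dvd_prime_iff_eq hr (by norm_num)).1 h
      subst this
      norm_num at h2'
  obtain ⟨k, hk⟩ : ∃ k, Nat.card E = 2 ^ k := by
    obtain ⟨i, hi⟩ := eq_two_pow_of_forall_prime e (fun h => Nat.card_pos.ne' (he.trans (by rw [h]; rfl))) he2
    exact ⟨i * 2, by rw [he, hi, ← pow_mul]⟩
  have hk9 : 2 ^ k ∣ 2 ^ 9 := by
    have h : 2 ^ k ∣ 2 ^ 9 * (3 ^ 6 * 5 * 13) := by norm_num; exact hk ▸ hGL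
    exact (Nat.Coprime.pow_left k (by norm_num)).dvd_of_dvd_mul_right h
  have hk256 : Nat.card E ≤ 256 := by
    have hk9' : k ≤ 9 := (Nat.pow_dvd_pow_iff_le_right (by norm_num)).1 hk9
    by_contra hgt
    have : k = 9 := by
      by_contra hne
      exact hgt (hk ▸ (pow_le_pow_right₀ (by norm_num) (show k ≤ 8 by omega)).trans (by norm_num))
    subst this
    rw [hk] at he
    norm_num at he
    rcases le_or_gt e 22 with h | h <;> nlinarith
  have h2E : IsPGroup 2 E := IsPGroup.of_card hk
  -- invariant sets of nonzero vectors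
  have hset : ∀ X : Set V, (0 : V) ∉ X → (∀ (g : E), ∀ x ∈ X, g • x ∈ X) →
      X.Nonempty → (∃ y : V, y ≠ 0 ∧ y ∉ X) → X = orbit E v ∨ X = orbit E w := by
    rintro X h0 hinv ⟨x, hx⟩ ⟨y, hy0, hy⟩
    have hsub : ∀ {a : V}, ∀ z ∈ X, z ∈ orbit E a → orbit E a ⊆ X := by
      rintro a z hz hza _ ⟨g, rfl⟩
      obtain ⟨g', rfl⟩ := hza
      have := hinv (g * g'⁻¹) _ hz
      rwa [← mul_smul, inv_mul_cancel_right] at this
    rcases hcov x (fun h => h0 (h ▸ hx)) with h | h
    · left
      refine Set.Subset.antisymm (fun z hz => ?_) (hsub x hx h)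
      rcases hcov z (fun h' => h0 (h' ▸ hz)) with h' | h'
      · exact h'
      · exact absurd ((hcov y hy0).elim (fun hh => hsub x hx h hh) (fun hh => hsub z hz h' hh)) hy
    · right
      refine Set.Subset.antisymm (fun z hz => ?_) (hsub x hx h)
      rcases hcov z (fun h' => h0 (h' ▸ hz)) with h' | h'
      · exact absurd ((hcov y hy0).elim (fun hh => hsub z hz h' hh) (fun hh => hsub x hx h hh)) hy
      · exact h'
  have hsub : ∀ U : Submodule (ZMod 3) V, (∀ (g : E), ∀ x ∈ U, g • x ∈ U) →
      0 < finrank (ZMod 3) U → finrank (ZMod 3) U < 4 → False := by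
    intro U hU h1 h4
    have hc : ((U : Set V) \ {0}).ncard = 3 ^ finrank (ZMod 3) U - 1 := by
      rw [Set.ncard_diff_singleton_of_mem U.zero_mem, ← Nat.card_coe_set_eq]
      show Nat.card U - 1 = _
      rw [Module.natCard_eq_pow_finrank (K := ZMod 3), Nat.card_zmod]
    have hne : ((U : Set V) \ {0}).Nonempty := by
      obtain ⟨x, hx, hx0⟩ := U.ne_bot_iff.1 (fun h => by rw [h, finrank_bot] at h1; omega)
      exact ⟨x, hx, hx0⟩
    obtain ⟨y, hy⟩ : ∃ y : V, y ∉ U := by
      by_contra h
      push Not at h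
      rw [Submodule.eq_top_iff'.2 h, finrank_top, hn] at h4
      omega
    rcases hset ((U : Set V) \ {0}) (by simp) (fun g x hx => ⟨hU g x hx.1, Weights.smul_ne_zero_of_ne hx.2 g⟩) hne
      ⟨y, fun h => hy (h ▸ U.zero_mem), fun h => hy h.1⟩ with h | h <;> rw [h] at hc
    · rw [hA] at hc
      interval_cases hf : finrank (ZMod 3) U <;> omega
    · rw [hB] at hc
      interval_cases hf : finrank (ZMod 3) U <;> omega
  -- a pair of planes
  let σe : E → V ≃ₗ[ZMod 3] V := fun g => DistribMulAction.toLinearEquiv (ZMod 3) V g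
  letI : MulAction E {U : Submodule (ZMod 3) V // finrank (ZMod 3) U = 2} :=
    { smul := fun g U => ⟨U.1.map (σe g : V →ₗ[ZMod 3] V), by
        rw [← (σe g).submoduleMap U.1 |>.finrank_eq]; exact U.2⟩
      one_smul := fun U => Subtype.ext (Submodule.ext fun x => by
        show x ∈ U.1.map (σe 1 : V →ₗ[ZMod 3] V) ↔ _
        simp [σe, Submodule.mem_map])
      mul_smul := fun g h U => Subtype.ext (Submodule.ext fun x => by
        show x ∈ U.1.map (σe (g * h) : V →ₗ[ZMod 3] V) ↔
          x ∈ (U.1.map (σe h : V →ₗ[ZMod 3] V)).map (σe g : V →ₗ[ZMod 3] V)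
        simp [σe, Submodule.mem_map, mul_smul]) }
  obtain ⟨P, hP⟩ : ∃ P : {U : Submodule (ZMod 3) V // finrank (ZMod 3) U = 2},
      (orbit E P).ncard ≤ 2 := by
    by_contra hno
    push Not at hno
    have h4 : (4 : ℕ) ∣ Nat.card {U : Submodule (ZMod 3) V // finrank (ZMod 3) U = 2} := by
      haveI : Finite {U : Submodule (ZMod 3) V // finrank (ZMod 3) U = 2} := inferInstance
      haveI : Fintype (orbitRel.Quotient E {U : Submodule (ZMod 3) V // finrank (ZMod 3) U = 2}) :=
        Fintype.ofFinite _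
      rw [Nat.card_congr (selfEquivSigmaOrbits' E
        {U : Submodule (ZMod 3) V // finrank (ZMod 3) U = 2}), Nat.card_sigma]
      refine Finset.dvd_sum fun x _ => ?_
      induction x using Quotient.inductionOn' with
      | h P =>
        rw [orbitRel.Quotient.orbit_mk, Nat.card_coe_set_eq]
        have hd : (orbit E P).ncard ∣ 2 ^ k := hk ▸ ncard_orbit_dvd P
        obtain ⟨i, -, hi⟩ := (Nat.dvd_prime_pow Nat.prime_two).1 hd
        have := hno P
        rw [hi] at this ⊢
        rcases i with _ | _ | i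
        · omega
        · omega
        · exact ⟨2 ^ i, by ring⟩
    rw [card_planes hn] at h4
    omega
  obtain ⟨U, hU2⟩ := P
  have hmem : ∀ (g : E) (x : V), x ∈ (g • (⟨U, hU2⟩ : {U : Submodule (ZMod 3) V //
      finrank (ZMod 3) U = 2})).1 ↔ g⁻¹ • x ∈ U := by
    intro g x
    show x ∈ U.map (σe g : V →ₗ[ZMod 3] V) ↔ _
    constructor
    · rintro ⟨a, ha, rfl⟩
      simpa [σe] using ha
    · exact fun h => ⟨_, h, by simp [σe]⟩
  obtain ⟨σ, hσ⟩ : ∃ σ : E, σ • (⟨U, hU2⟩ : {U : Submodule (ZMod 3) V //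
      finrank (ZMod 3) U = 2}) ≠ ⟨U, hU2⟩ := by
    by_contra h
    push Not at h
    refine hsub U (fun g x hx => ?_) (by omega) (by omega)
    exact (SetLike.ext_iff.1 (congrArg Subtype.val (h g)) _).1
      ((hmem g _).2 (by rwa [inv_smul_smul]))
  set Q := σ • (⟨U, hU2⟩ : {U : Submodule (ZMod 3) V // finrank (ZMod 3) U = 2}) with hQ
  set U' := Q.1 with hU'
  have htwo : ∀ g : E, g • (⟨U, hU2⟩ : {U : Submodule (ZMod 3) V // finrank (ZMod 3) U = 2}) =
      ⟨U, hU2⟩ ∨ g • (⟨U, hU2⟩ : {U : Submodule (ZMod 3) V // finrank (ZMod 3) U = 2}) = Q := by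
    intro g
    by_contra h
    rw [not_or] at h
    have h3 : ({⟨U, hU2⟩, Q, g • ⟨U, hU2⟩} :
        Set {U : Submodule (ZMod 3) V // finrank (ZMod 3) U = 2}).ncard = 3 :=
      Set.ncard_eq_three.2 ⟨_, _, _, Ne.symm hσ, Ne.symm h.1, Ne.symm h.2, rfl⟩
    have hle := Set.ncard_le_ncard (s := ({⟨U, hU2⟩, Q, g • ⟨U, hU2⟩} :
        Set {U : Submodule (ZMod 3) V // finrank (ZMod 3) U = 2})) (t := orbit E _) (by
      rintro x (rfl | rfl | rfl)
      exacts [mem_orbit_self _, mem_orbit _ _, mem_orbit _ _])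
    omega
  -- every element fixes or exchanges the planes
  let Keep : E → Prop := fun g => (∀ x ∈ U, g • x ∈ U) ∧ ∀ x ∈ U', g • x ∈ U'
  let Swap : E → Prop := fun g => (∀ x ∈ U, g • x ∈ U') ∧ ∀ x ∈ U', g • x ∈ U
  have himg : ∀ (g : E) (x : V), x ∈ U →
      g • x ∈ (g • (⟨U, hU2⟩ : {U : Submodule (ZMod 3) V // finrank (ZMod 3) U = 2})).1 :=
    fun g x hx => (hmem g _).2 (by rwa [inv_smul_smul])
  have hdich : ∀ g : E, Keep g ∨ Swap g := by
    intro g
    have hU'x : ∀ x ∈ U', σ⁻¹ • x ∈ U := fun x hx => (hmem σ x).1 hx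
    have hg' : ∀ x ∈ U', g • x ∈ ((g * σ) • (⟨U, hU2⟩ : {U : Submodule (ZMod 3) V //
        finrank (ZMod 3) U = 2})).1 := fun x hx => by
      have := himg (g * σ) _ (hU'x x hx)
      rwa [show (g * σ) • σ⁻¹ • x = g • x by rw [← mul_smul, mul_inv_cancel_right]] at this
    rcases htwo g with h | h <;> rcases htwo (g * σ) with h' | h'
    · exact absurd (by rw [mul_smul, ← hQ] at h'; exact smul_left_cancel g (h'.trans h.symm)) hσ
    · exact Or.inl ⟨fun x hx => by have := himg g x hx; rwa [h] at this,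
        fun x hx => by have := hg' x hx; rwa [h'] at this⟩
    · exact Or.inr ⟨fun x hx => by have := himg g x hx; rwa [h] at this,
        fun x hx => by have := hg' x hx; rwa [h'] at this⟩
    · exact absurd (by rw [mul_smul, ← hQ] at h'; exact smul_left_cancel g (h'.trans h.symm)) hσ
  have hU'2 : finrank (ZMod 3) U' = 2 := Q.2
  have hne : U' ≠ U := fun h => hσ (Subtype.ext h)
  have hint : ∀ x ∈ U, x ∈ U' → x = 0 := by
    intro x hx hx'
    by_contra hx0
    have hinv : ∀ (g : E), ∀ y ∈ U ⊓ U', g • y ∈ U ⊓ U' := fun g y hy =>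
      (hdich g).elim (fun h => ⟨h.1 y hy.1, h.2 y hy.2⟩) (fun h => ⟨h.2 y hy.2, h.1 y hy.1⟩)
    have hle : finrank (ZMod 3) ↥(U ⊓ U') ≤ 2 := hU2 ▸ Submodule.finrank_mono inf_le_left
    refine hsub _ hinv ?_ (by omega)
    exact Nat.pos_of_ne_zero fun h =>
      hx0 ((Submodule.eq_bot_iff _).1 (Submodule.finrank_eq_zero.1 h) x ⟨hx, hx'⟩)
  have hdec : ∀ y : V, ∃ a ∈ U, ∃ b ∈ U', a + b = y := by
    have hinf : U ⊓ U' = ⊥ := (Submodule.eq_bot_iff _).2 fun x hx => hint x hx.1 hx.2
    have htop : U ⊔ U' = ⊤ := by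
      refine Submodule.eq_top_of_finrank_eq ?_
      have h := Submodule.finrank_sup_add_finrank_inf_eq U U'
      rw [hinf, finrank_bot, hU2, hU'2] at h
      omega
    exact fun y => Submodule.mem_sup.1 (htop ▸ Submodule.mem_top)
  have hswap : Swap σ := (hdich σ).resolve_left fun h => by
    refine hne (Submodule.eq_of_le_of_finrank_eq (fun x hx => ?_) (by rw [hU'2, hU2]))
    have := h.1 _ ((hmem σ x).1 hx)
    rwa [smul_inv_smul] at this
  have hext : ∀ g h : E, (∀ x ∈ U, g • x = h • x) → (∀ x ∈ U', g • x = h • x) → g = h := by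
    intro g h h1 h2
    refine eq_of_smul_eq_smul fun y : V => ?_
    obtain ⟨a, ha, b, hb, rfl⟩ := hdec y
    rw [smul_add, smul_add, h1 a ha, h2 b hb]
  have hsplit : ∀ {g : E}, Keep g → ∀ {a b : V}, a ∈ U → b ∈ U' → g • (a + b) = a + b →
      g • a = a ∧ g • b = b := by
    intro g hg a b ha hb hab
    rw [smul_add] at hab
    have h1 : g • a - a = b - g • b := by
      rw [sub_eq_sub_iff_add_eq_add, hab, add_comm]
    have h0 : g • a - a = 0 := hint _ (U.sub_mem (hg.1 a ha) ha)
      (h1 ▸ U'.sub_mem hb (hg.2 b hb))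
    exact ⟨sub_eq_zero.1 h0, (sub_eq_zero.1 (h1.symm.trans h0)).symm⟩
  -- the axes are the orbit of `v`
  have haxes : ((U : Set V) ∪ (U' : Set V)) \ {0} = orbit E v := by
    have hc : (((U : Set V) ∪ (U' : Set V)) \ {0}).ncard = 16 := by
      rw [Set.union_diff_distrib, Set.ncard_union_eq (Set.disjoint_left.2 fun x h1 h2 =>
          h1.2 (hint x h1.1 h2.1)),
        Set.ncard_diff_singleton_of_mem U.zero_mem, Set.ncard_diff_singleton_of_mem U'.zero_mem,
        ← Nat.card_coe_set_eq, ← Nat.card_coe_set_eq]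
      show Nat.card U - 1 + (Nat.card U' - 1) = 16
      rw [Module.natCard_eq_pow_finrank (K := ZMod 3),
        Module.natCard_eq_pow_finrank (K := ZMod 3) (V := U'), hU2, hU'2, Nat.card_zmod]
      norm_num
    obtain ⟨y, hy0, hy⟩ : ∃ y : V, y ≠ 0 ∧ y ∉ ((U : Set V) ∪ (U' : Set V)) \ {0} := by
      by_contra h
      push Not at h
      have h80 := Set.ncard_le_ncard (s := {u : V | u ≠ 0}) h
      rw [ncard_ne_zero (p := 3), hn, hc] at h80
      norm_num at h80
    rcases hset (((U : Set V) ∪ (U' : Set V)) \ {0}) (by simp) (fun g x hx => ⟨(hdich g).elim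
        (fun h => hx.1.elim (fun h' => Or.inl (h.1 x h')) (fun h' => Or.inr (h.2 x h')))
        (fun h => hx.1.elim (fun h' => Or.inr (h.1 x h')) (fun h' => Or.inl (h.2 x h'))),
        Weights.smul_ne_zero_of_ne hx.2 g⟩)
      (Set.nonempty_of_ncard_ne_zero (by omega)) ⟨y, hy0, hy⟩ with h | h
    · exact h
    · rw [h, hB] at hc
      omega
  have hmixed : ∀ a ∈ U, ∀ b ∈ U', a ≠ 0 → b ≠ 0 → a + b ∈ orbit E w := by
    intro a ha b hb ha0 hb0
    have hz : a + b ≠ 0 := fun h => ha0 (hint a ha (by
      rw [eq_neg_of_add_eq_zero_left h]; exact U'.neg_mem hb))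
    refine (hcov _ hz).resolve_left fun h => ?_
    rw [← haxes] at h
    rcases h.1 with h' | h'
    · exact hb0 (hint b (by simpa using U.sub_mem h' ha) hb)
    · exact ha0 (hint a ha (by simpa using U'.sub_mem h' hb))
  have hR : ∀ a ∈ U, ∀ b ∈ U', a ≠ 0 → b ≠ 0 →
      64 * Nat.card (stabilizer E (a + b)) = Nat.card E := by
    intro a ha b hb ha0 hb0
    have := index_stabilizer_mul (E := E) (a + b)
    rwa [orbit_eq_iff.2 (hmixed a ha b hb ha0 hb0), hB] at this
  by_cases hτ : ∃ τ : E, τ ≠ 1 ∧ (∀ b ∈ U', τ • b = b) ∧ ∃ u ∈ U, u ≠ 0 ∧ τ • u = u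
  · -- a reflection: the exchanging elements are semiregular
    obtain ⟨τ, hτ1, hτU', u, hu, hu0, hτu⟩ := hτ
    have hτk : Keep τ := (hdich τ).resolve_right fun h => hu0 (hint u hu (hτu ▸ h.1 u hu))
    set τ' := σ * τ * σ⁻¹ with hτ'
    have hτ'U : ∀ a ∈ U, τ' • a = a := fun a ha => by
      have h1 : σ⁻¹ • a ∈ U' := by
        obtain ⟨x, hx, y, hy, hxy⟩ := hdec (σ⁻¹ • a)
        have h2 : σ • x + σ • y = a := by rw [← smul_add, hxy, smul_inv_smul]
        have h3 : σ • x = 0 := hint _ (by
          rw [eq_sub_of_add_eq h2]; exact U.sub_mem ha (hswap.2 y hy)) (hswap.1 x hx)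
        have h4 : x = 0 := by rw [← inv_smul_smul σ x, h3, smul_zero]
        rw [← hxy, h4, zero_add]
        exact hy
      rw [hτ', mul_smul, mul_smul, hτU' _ h1, smul_inv_smul]
    have hτ'k : Keep τ' := (hdich τ').resolve_right fun h =>
      hu0 (hint u hu (hτ'U u hu ▸ h.1 u hu))
    set b := σ • u with hb
    have hbU' : b ∈ U' := hswap.1 u hu
    have hb0 : b ≠ 0 := Weights.smul_ne_zero_of_ne hu0 σ
    have hτ'b : τ' • b = b := by rw [hτ', hb, mul_smul, mul_smul, inv_smul_smul, hτu]
    have hcomm : τ * τ' = τ' * τ := hext _ _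
      (fun a ha => by rw [mul_smul τ τ', mul_smul τ' τ, hτ'U a ha, hτ'U _ (hτk.1 a ha)])
      (fun a ha => by rw [mul_smul τ τ', mul_smul τ' τ, hτU' a ha, hτU' _ (hτ'k.2 a ha)])
    have hτ'1 : τ' ≠ 1 := fun h => hτ1 (conj_eq_one_iff.1 h)
    have hττ' : τ ≠ τ' := fun h => hτ1 (hext τ 1
      (fun a ha => by rw [h, hτ'U a ha, one_smul]) fun a ha => by rw [hτU' a ha, one_smul])
    have hprod1 : τ * τ' ≠ 1 := fun h => hτ1 (hext τ 1 (fun a ha => by
      rw [one_smul]
      have := congrArg (· • a) h
      simpa [mul_smul, hτ'U a ha] using this) fun a ha => by rw [hτU' a ha, one_smul])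
    have hkeepR : ∀ r ∈ stabilizer E (u + b), Keep r := by
      intro r hr
      have hRle : Nat.card (stabilizer E (u + b)) ≤ 4 := by
        have := hR u hu b hbU' hu0 hb0
        omega
      have hτR : τ ∈ stabilizer E (u + b) := by rw [mem_stabilizer_iff, smul_add, hτu, hτU' b hbU']
      have hτ'R : τ' ∈ stabilizer E (u + b) := by
        rw [mem_stabilizer_iff, smul_add, hτ'U u hu, hτ'b]
      by_contra hk
      have hkeep : ∀ x : E, Keep x → x ≠ r := fun x hx h => hk (h ▸ hx)
      have h5 : ({1, τ, τ', τ * τ', r} : Finset E).card = 5 := by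
        have e1 := hkeep 1 ⟨fun x hx => by rwa [one_smul], fun x hx => by rwa [one_smul]⟩
        have e2 := hkeep _ hτk
        have e3 := hkeep _ hτ'k
        have e4 := hkeep (τ * τ') ⟨fun x hx => by rw [mul_smul]; exact hτk.1 _ (hτ'k.1 x hx),
          fun x hx => by rw [mul_smul]; exact hτk.2 _ (hτ'k.2 x hx)⟩
        rw [Finset.card_insert_of_notMem (by simp [Ne.symm hτ1, Ne.symm hτ'1, Ne.symm hprod1, e1]),
          Finset.card_insert_of_notMem (by simp [hττ', e2, hτ'1]),
          Finset.card_insert_of_notMem (by simp [e3, hτ1]),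
          Finset.card_pair e4]
      have h6 : ({1, τ, τ', τ * τ', r} : Finset E).card ≤ Nat.card (stabilizer E (u + b)) := by
        rw [Nat.card_eq_fintype_card, Fintype.card_subtype]
        refine Finset.card_le_card fun x hx => ?_
        simp only [Finset.mem_filter, Finset.mem_univ, true_and]
        simp only [Finset.mem_insert, Finset.mem_singleton] at hx
        rcases hx with rfl | rfl | rfl | rfl | rfl
        exacts [one_mem _, hτR, hτ'R, mul_mem hτR hτ'R, hr]
      omega
    have hfree : ∀ {h : E}, ¬ Keep h → ∀ y : V, h • y = y → y = 0 := by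
      intro h hh y hy
      by_contra hy0
      have hs := (hdich h).resolve_left hh
      rcases hcov y hy0 with hy' | hy'
      · rw [← haxes] at hy'
        rcases hy'.1 with h' | h'
        · exact hy0 (hint y h' (hy ▸ hs.1 y h'))
        · exact hy0 (hint y (hy ▸ hs.2 y h') h')
      · rw [← orbit_eq_iff.2 (hmixed u hu b hbU' hu0 hb0)] at hy'
        obtain ⟨g, rfl⟩ := hy'
        have hr := hkeepR (g⁻¹ * h * g) (by
          rw [mem_stabilizer_iff, mul_smul, mul_smul]
          exact inv_smul_eq_iff.2 hy)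
        refine hh ?_
        rcases hdich g with hg | hg <;> rcases hdich g⁻¹ with hg' | hg'
        · exact ⟨fun x hx => by
              have := hg.1 _ (hr.1 _ (hg'.1 x hx))
              simpa [← mul_smul, mul_assoc] using this,
            fun x hx => by
              have := hg.2 _ (hr.2 _ (hg'.2 x hx))
              simpa [← mul_smul, mul_assoc] using this⟩
        · exact absurd (hint u hu (by simpa using hg'.1 _ (hg.1 u hu))) hu0
        · exact absurd (hint u hu (by simpa using hg.1 _ (hg'.1 u hu))) hu0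
        · exact ⟨fun x hx => by
              have := hg.2 _ (hr.2 _ (hg'.1 x hx))
              simpa [← mul_smul, mul_assoc] using this,
            fun x hx => by
              have := hg.1 _ (hr.1 _ (hg'.2 x hx))
              simpa [← mul_smul, mul_assoc] using this⟩
    have hneg : ∀ h : E, ¬ Keep h → ∃ z ∈ Subgroup.zpowers h, ∀ y : V, z • y = -y := by
      intro h hh
      have hs := (hdich h).resolve_left hh
      obtain ⟨i, hi⟩ := IsPGroup.iff_orderOf.1 h2E h
      rcases i with _ | i
      · rw [pow_zero, orderOf_eq_one_iff] at hi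
        exact absurd (show Keep h from hi ▸ ⟨fun x hx => by rwa [one_smul], fun x hx => by rwa [one_smul]⟩) hh
      set j := h ^ 2 ^ i with hj
      have hj2 : j ^ 2 = 1 := by rw [hj, ← pow_mul, ← pow_succ, ← hi, pow_orderOf_eq_one]
      refine ⟨j, Subgroup.npow_mem_zpowers h _, fun y => ?_⟩
      by_contra hy
      have hf0 : j • y + y ≠ 0 := fun h' => hy (eq_neg_of_add_eq_zero_left h')
      have hjf : j • (j • y + y) = j • y + y := by
        rw [smul_add, ← mul_smul, ← sq, hj2, one_smul, add_comm]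
      rcases i with _ | i
      · exact hf0 (hfree hh _ (by simpa [hj] using hjf))
      set g := h ^ 2 with hg
      have hgk : Keep g := ⟨fun x hx => by rw [hg, sq, mul_smul]; exact hs.2 _ (hs.1 x hx),
        fun x hx => by rw [hg, sq, mul_smul]; exact hs.1 _ (hs.2 x hx)⟩
      have hkpow : ∀ n : ℕ, Keep (g ^ n) := by
        intro n
        induction n with
        | zero => exact ⟨fun x hx => by rwa [pow_zero, one_smul], fun x hx => by rwa [pow_zero, one_smul]⟩
        | succ n ih => exact ⟨fun x hx => by rw [pow_succ, mul_smul]; exact ih.1 _ (hgk.1 x hx),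
            fun x hx => by rw [pow_succ, mul_smul]; exact ih.2 _ (hgk.2 x hx)⟩
      have hjg : j = g ^ 2 ^ i := by rw [hj, hg, ← pow_mul, pow_succ']
      have hjk : Keep j := hjg ▸ hkpow _
      have hjh : Commute h j := (Commute.refl h).pow_right _
      -- a fixed vector in `U`
      obtain ⟨a₁, ha₁, b₁, hb₁, hab⟩ := hdec (j • y + y)
      obtain ⟨hja, hjb⟩ := hsplit hjk ha₁ hb₁ (hab.symm ▸ hjf)
      obtain ⟨a, ha, ha0, hja'⟩ : ∃ a ∈ U, a ≠ 0 ∧ j • a = a := by
        by_cases ha' : a₁ = 0
        · refine ⟨h • b₁, hs.2 _ hb₁, Weights.smul_ne_zero_of_ne (fun hb' => hf0 ?_) h, ?_⟩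
          · rw [← hab, ha', hb', add_zero]
          · rw [← mul_smul, ← hjh.eq, mul_smul, hjb]
        · exact ⟨a₁, ha₁, ha', hja⟩
      have hgj : Commute g j := (Commute.refl h).pow_pow _ _
      obtain ⟨c, hc, hjc⟩ : ∃ c ∈ U, j • c ≠ c := by
        by_contra hall
        push Not at hall
        have hj1 : j = 1 := hext j 1 (fun x hx => by rw [hall x hx, one_smul]) fun x hx => by
          rw [one_smul]
          have hx' := hall _ (hs.2 x hx)
          rw [← mul_smul, ← hjh.eq, mul_smul] at hx'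
          exact smul_left_cancel h hx'
        rw [hj, ← orderOf_dvd_iff_pow_eq_one, hi] at hj1
        have := (Nat.pow_dvd_pow_iff_le_right (by norm_num)).1 hj1
        omega
      set m := c - j • c with hm
      have hmU : m ∈ U := U.sub_mem hc (hjk.1 c hc)
      have hm0 : m ≠ 0 := fun h' => hjc (sub_eq_zero.1 h').symm
      have hjm : j • m = -m := by rw [hm, smul_sub, ← mul_smul, ← sq, hj2, one_smul, neg_sub]
      obtain ⟨hind, hga, hgm⟩ := eigen_cases hU2 hgj hgk.1 ha hmU ha0 hm0 hja' hjm
      have hg2U : ∀ x ∈ U, (g * g) • x = x := by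
        intro x hx
        obtain ⟨α, β, rfl⟩ := exists_coords hU2 ha hmU ha0 hind hx
        rw [mul_smul, smul_add, smul_add, smul_comm g α, smul_comm g β, smul_comm g α, smul_comm g β]
        rcases hga with h1 | h1 <;> rcases hgm with h2 | h2 <;> simp [h1, h2, smul_neg]
      have hg2 : g * g = 1 := hext _ 1 (fun x hx => by rw [hg2U x hx, one_smul]) fun x hx => by
        rw [one_smul]
        have hx' := hg2U _ (hs.2 x hx)
        have hc' : Commute h (g * g) := ((Commute.refl h).pow_right 2).mul_right ((Commute.refl h).pow_right 2)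
        rw [← mul_smul, ← hc'.eq, mul_smul] at hx'
        exact smul_left_cancel h hx'
      have hi0 : i = 0 := by
        have h4 : h ^ 4 = 1 := by
          rw [show h ^ 4 = g * g by rw [hg, ← pow_add], hg2]
        have := orderOf_dvd_of_pow_eq_one h4
        rw [hi, show (4 : ℕ) = 2 ^ 2 by norm_num] at this
        have := (Nat.pow_dvd_pow_iff_le_right (by norm_num)).1 this
        omega
      rw [hi0, pow_zero, pow_one] at hjg
      have hfix' : h • (a + h • a) = a + h • a := by
        rw [smul_add, ← mul_smul, ← sq, ← hg, ← hjg, hja', add_comm]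
      have h0 := hfree hh _ hfix'
      exact ha0 (hint a ha (by rw [eq_neg_of_add_eq_zero_left h0]; exact U'.neg_mem (hs.1 a ha)))
    have hσk : ¬ Keep σ := fun h =>
      Weights.smul_ne_zero_of_ne hu0 σ (hint _ (h.1 u hu) (hswap.1 u hu))
    obtain ⟨z, -, hz⟩ := hneg σ hσk
    have hzpow : ∀ h : E, ¬ Keep h → Compat (stabilizer E (0 : V)) z h := by
      intro h hh
      obtain ⟨z', hz', hz''⟩ := hneg h hh
      have : z' = z := eq_of_smul_eq_smul fun y : V => (hz'' y).trans (hz y).symm
      obtain ⟨d, hd⟩ := mem_powers_iff_mem_zpowers.2 (this ▸ hz')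
      exact ⟨h, smul_zero h, d, Commute.refl h, hd.symm, Or.inl (Subgroup.mem_zpowers h)⟩
    have hgood : GoodIn (stabilizer E (0 : V)) z := by
      refine ⟨smul_zero z, fun h _ _ => ?_⟩
      by_cases hh : Keep h
      · have h1 : ¬ Keep (h * σ) := fun hk' => by
          have h2 := hk'.1 u hu
          rw [mul_smul] at h2
          exact Weights.smul_ne_zero_of_ne (Weights.smul_ne_zero_of_ne hu0 σ) h
            (hint _ h2 (hh.2 _ (hswap.1 u hu)))
        have e : h = h * σ * σ⁻¹ := by group
        rw [e]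
        exact mul_mem (Subgroup.subset_closure ⟨smul_zero _, hzpow _ h1⟩)
          (inv_mem (Subgroup.subset_closure ⟨smul_zero _, hzpow _ hσk⟩))
      · exact Subgroup.subset_closure ⟨smul_zero _, hzpow _ hh⟩
    have hz1 : z ≠ 1 := fun h => by
      have := hz v
      rw [h, one_smul] at this
      exact hv (eq_zero_of_add_self (by nth_rw 1 [this]; exact neg_add_cancel v))
    have := W.two_le_of_good hgood hz1
    omega
  · -- the stabiliser of an axis vector is faithful on the other plane
    push Not at hτ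
    obtain ⟨u, hu, hu0⟩ := U.ne_bot_iff.1 (fun h => by rw [h, finrank_bot] at hU2; omega)
    have huv : u ∈ orbit E v := haxes ▸ ⟨Or.inl hu, hu0⟩
    have hwu : w ∉ orbit E u := by rw [orbit_eq_iff.2 huv]; exact hvw
    obtain ⟨-, hlu, -, -⟩ := W.two_orbits hu0 hw hwu
    set S := stabilizer E u with hS
    have hScard : 16 * Nat.card S = Nat.card E := by
      have := index_stabilizer_mul (E := E) u
      rwa [orbit_eq_iff.2 huv, hA] at this
    have hSk : ∀ s ∈ S, Keep s := fun s hs => (hdich s).resolve_right fun h =>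
      hu0 (hint u hu (mem_stabilizer_iff.1 hs ▸ h.1 u hu))
    have hinj : ∀ s ∈ S, (∀ b ∈ U', s • b = b) → s = 1 := fun s hs h => by
      by_contra h1
      exact hτ s h1 h u hu hu0 (mem_stabilizer_iff.1 hs)
    obtain ⟨g, hg, hg2⟩ : ∃ g ∈ S, g * g ≠ 1 := by
      by_contra hall
      push Not at hall
      have hinvS : ∀ s ∈ S, s⁻¹ = s := fun s hs => inv_eq_of_mul_eq_one_right (hall s hs)
      have hcommS : ∀ s ∈ S, ∀ t ∈ S, Commute s t := fun s hs t ht => by
        show s * t = t * s
        rw [← hinvS _ (mul_mem hs ht), mul_inv_rev, hinvS s hs, hinvS t ht]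
      have h4S : ∀ b ∈ U', b ≠ 0 → 4 * Nat.card (stabilizer E (u + b)) = Nat.card S :=
        fun b hb hb0 => by
          have := hR u hu b hb hu0 hb0
          omega
      obtain ⟨b₀, hb₀, hb₀0⟩ := U'.ne_bot_iff.1 (fun h => by
        rw [h, finrank_bot] at hU'2; omega)
      obtain ⟨j, hj, hj1, b, hb, hb0, hjb⟩ :
          ∃ j ∈ S, j ≠ 1 ∧ ∃ b ∈ U', b ≠ 0 ∧ j • b = b := by
        by_contra hno
        push Not at hno
        have hneg : ∀ s ∈ S, s ≠ 1 → ∀ x ∈ U', s • x = -x := fun s hs hs1 x hx => by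
          by_contra hne'
          refine hno s hs hs1 (s • x + x) (U'.add_mem ((hSk s hs).2 x hx) hx)
            (fun h => hne' (eq_neg_of_add_eq_zero_left h)) ?_
          rw [smul_add, ← mul_smul, hall s hs, one_smul, add_comm]
        have h2 : ∀ s ∈ S, ∀ t ∈ S, s ≠ 1 → t ≠ 1 → s = t := fun s hs t ht hs1 ht1 => by
          have := hinj (s⁻¹ * t) (mul_mem (inv_mem hs) ht) fun x hx => by
            rw [mul_smul, hneg t ht ht1 x hx, ← hneg s hs hs1 x hx, inv_smul_smul]
          exact inv_mul_eq_one.1 this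
        have hle : Nat.card S ≤ 2 := by
          by_cases hex : ∃ s ∈ S, s ≠ 1
          · obtain ⟨s, hs, hs1⟩ := hex
            rw [Nat.card_eq_fintype_card, Fintype.card_subtype]
            refine (Finset.card_le_card (t := {1, s}) fun x hx => ?_).trans Finset.card_le_two
            simp only [Finset.mem_filter] at hx
            by_cases hx1 : x = 1
            · simp [hx1]
            · simp [h2 x hx.2 s hs hx1 hs1]
          · push Not at hex
            rw [Nat.card_eq_fintype_card, Fintype.card_subtype]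
            refine (Finset.card_le_card (t := {1}) fun x hx => ?_).trans (by simp)
            simp only [Finset.mem_filter] at hx
            simp [hex x hx.2]
        have := h4S b₀ hb₀ hb₀0
        have := Nat.card_pos (α := stabilizer E (u + b₀))
        omega
      have hR2 : 2 ≤ Nat.card (stabilizer E (u + b)) := by
        rw [Nat.card_eq_fintype_card, Fintype.card_subtype,
          ← Finset.card_pair (Ne.symm hj1)]
        refine Finset.card_le_card fun x hx => ?_
        simp only [Finset.mem_insert, Finset.mem_singleton] at hx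
        simp only [Finset.mem_filter, Finset.mem_univ, true_and]
        rcases hx with rfl | rfl
        · exact one_mem _
        · rw [mem_stabilizer_iff, smul_add, mem_stabilizer_iff.1 hj, hjb]
      obtain ⟨c, hc, hjc⟩ : ∃ c ∈ U', j • c ≠ c := by
        by_contra h
        push Not at h
        exact hj1 (hinj j hj h)
      set m := c - j • c with hm
      have hmU : m ∈ U' := U'.sub_mem hc ((hSk j hj).2 c hc)
      have hm0 : m ≠ 0 := fun h' => hjc (sub_eq_zero.1 h').symm
      have hjm : j • m = -m := by rw [hm, smul_sub, ← mul_smul, hall j hj, one_smul, neg_sub]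
      have hind := (eigen_cases hU'2 (hcommS j hj j hj) (hSk j hj).2 hb hmU hb0 hm0 hjb hjm).1
      have hle4 : Nat.card S ≤ 4 := by
        rw [Nat.card_eq_fintype_card, Fintype.card_subtype]
        refine (Finset.card_le_card_of_injOn (t := ({b, -b} : Finset V) ×ˢ ({m, -m} : Finset V))
          (fun s => (s • b, s • m)) (fun s hs => ?_) (fun s hs t ht hst => ?_)).trans
          (by
            rw [Finset.card_product]
            exact Nat.mul_le_mul Finset.card_le_two Finset.card_le_two)
        · simp only [Finset.coe_filter, Finset.mem_univ, true_and, Set.mem_ofPred_eq] at hs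
          obtain ⟨-, h1, h2⟩ := eigen_cases hU'2 (hcommS s hs j hj) (hSk s hs).2 hb hmU hb0 hm0 hjb hjm
          simp only [Finset.coe_product, Set.mem_prod, Finset.coe_insert, Finset.coe_singleton,
            Set.mem_insert_iff, Set.mem_singleton_iff]
          exact ⟨h1, h2⟩
        · simp only [Finset.coe_filter, Finset.mem_univ, true_and, Set.mem_ofPred_eq] at hs ht
          obtain ⟨h1, h2⟩ := Prod.mk.inj hst
          refine inv_mul_eq_one.1 (hinj (s⁻¹ * t) (mul_mem (inv_mem hs) ht) fun x hx => ?_)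
          obtain ⟨α, β, rfl⟩ := exists_coords hU'2 hb hmU hb0 hind hx
          rw [smul_add, smul_comm _ α, smul_comm _ β, mul_smul, mul_smul, ← h1, ← h2,
            inv_smul_smul, inv_smul_smul]
      have := h4S b hb hb0
      omega
    -- `g` has no eigenvector on `U'`
    have hgk := hSk g hg
    have heig : ∀ b ∈ U', b ≠ 0 → ∀ c : ZMod 3, c • b ≠ g • b := by
      intro b hb hb0 c hc
      have hc0 : c ≠ 0 := fun h => Weights.smul_ne_zero_of_ne hb0 g (by rw [← hc, h, zero_smul])
      have hcc : c * c = 1 := (show ∀ x : ZMod 3, x ≠ 0 → x * x = 1 by decide) c hc0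
      obtain ⟨m, hm, hmb⟩ : ∃ m ∈ U', ∀ t : ZMod 3, t • b ≠ m := by
        by_contra h
        push Not at h
        have hle : U' ≤ Submodule.span (ZMod 3) {b} := fun x hx =>
          Submodule.mem_span_singleton.2 (h x hx)
        have := Submodule.finrank_mono hle
        rw [hU'2, finrank_span_singleton hb0] at this
        omega
      obtain ⟨α, β, hαβ⟩ := exists_coords hU'2 hb hm hb0 hmb (hgk.2 m hm)
      have hβ : β ≠ 0 := fun h => by
        rw [h, zero_smul, add_zero] at hαβ
        refine hmb (α * c) (smul_left_cancel g ?_)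
        rw [smul_comm, ← hc, smul_smul, mul_assoc, hcc, mul_one, hαβ]
      have hββ : β * β = 1 := (show ∀ x : ZMod 3, x ≠ 0 → x * x = 1 by decide) β hβ
      have hgg : (g * g) • b = b := by
        rw [mul_smul, ← hc, smul_comm g c, ← hc, smul_smul, hcc, one_smul]
      have hd : (g * g) • m = (α * c + β * α) • b + m := by
        rw [mul_smul, ← hαβ, smul_add, smul_comm g α, smul_comm g β, ← hc, ← hαβ, smul_add,
          smul_smul, smul_smul, smul_smul, hββ, one_smul, add_smul, add_assoc]
      set o := orderOf (g * g)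
      have hd0 : (g * g) • m - m = 0 := eq_zero_of_mem_mvd_fixd (p := 3) (g := g * g) (q := o)
        (pow_orderOf_eq_one _) (fun h => hE (h.trans (orderOf_dvd_natCard _))) ⟨m, rfl⟩ (by
          rw [hd, add_sub_cancel_right, smul_comm, hgg])
      refine hg2 (hinj _ (mul_mem hg hg) fun x hx => ?_)
      obtain ⟨α', β', rfl⟩ := exists_coords hU'2 hb hm hb0 hmb hx
      rw [smul_add, smul_comm _ α', smul_comm _ β', hgg, sub_eq_zero.1 hd0]
    have hinv : ∀ s ∈ S, Commute s g → orderOf s = 2 → ∀ b ∈ U', s • b = -b := by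
      intro s hs hsg hso b hb
      have hs2 : s * s = 1 := by rw [← sq, ← hso, pow_orderOf_eq_one]
      by_contra hne
      set f := s • b + b with hf
      have hf0 : f ≠ 0 := fun h => hne (eq_neg_of_add_eq_zero_left h)
      have hfU : f ∈ U' := U'.add_mem ((hSk s hs).2 b hb) hb
      have hsf : s • f = f := by rw [hf, smul_add, ← mul_smul, hs2, one_smul, add_comm]
      have hs1 := hinj s hs fun x hx => by
        obtain ⟨α, β, rfl⟩ := exists_coords hU'2 hfU (hgk.2 f hfU) hf0 (heig f hfU hf0) hx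
        rw [smul_add, smul_comm s α, smul_comm s β, hsf, ← mul_smul, hsg.eq, mul_smul, hsf]
      rw [hs1, orderOf_one] at hso
      omega
    obtain ⟨i, hi⟩ := IsPGroup.iff_orderOf.1 h2E g
    have hgood : GoodIn S g := goodIn_of_noQQ Nat.prime_two hg hi fun a ha b hb hao hbo _ => by
      have hab : b = a := by
        have := hinj (a⁻¹ * b) (mul_mem (inv_mem ha.1) hb.1) fun x hx => by
          rw [mul_smul, hinv b hb.1 (Subgroup.mem_centralizer_singleton_iff.1 hb.2) hbo x hx,
            ← hinv a ha.1 (Subgroup.mem_centralizer_singleton_iff.1 ha.2) hao x hx, inv_smul_smul]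
        exact (inv_mul_eq_one.1 this).symm
      rw [hab]
      exact Subgroup.mem_zpowers a
    have hg1 : g ≠ 1 := fun h => hg2 (by rw [h, one_mul])
    have := W.two_le_of_good hgood hg1
    omega

end Cfsg.Agent.H35.ThreeBlock
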