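import Cfsg.Agent.H35.ThreeBlock.Transitive
import Cfsg.Agent.H35.ThreeBlock.SmallTwoOrbit

/-!
# The Frattini quotient is a line
-/

set_option linter.unusedSectionVars false
set_option linter.style.haveILetI false

namespace Cfsg.Agent.H35.ThreeBlock

open MulAction Module Cfsg.Agent.Arith

variable {p : ℕ} [Fact p.Prime] {E : Type*} [Group E] [Finite E] {V : Type*} [AddCommGroup V]
  [Module (ZMod p) V] [Module.Finite (ZMod p) V] [DistribMulAction E V] [SMulCommClass E (ZMod p) V]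
  [FaithfulSMul E V]

theorem exists_sq_of_mul_sq {A f e : ℕ} (h : A * f ^ 2 = e ^ 2) (hf : f ≠ 0) : ∃ a, A = a ^ 2 := by
  obtain ⟨a, rfl⟩ := (Nat.pow_dvd_pow_iff two_ne_zero).1 (Dvd.intro_left A h)
  refine ⟨a, Nat.eq_of_mul_eq_mul_right (pow_pos (Nat.pos_of_ne_zero hf) 2) ?_⟩
  rw [h, mul_pow, mul_comm]

theorem Weights.false_of_two_orbits (W : Weights E V) (hE : ¬ p ∣ Nat.card E) (hp2 : p ≠ 2)
    (hn : 3 ≤ finrank (ZMod p) V) {v w : V} (hv : v ≠ 0) (hw : w ≠ 0) (hvw : w ∉ orbit E v) :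
    False := by
  classical
  have hp : p.Prime := Fact.out
  have hp3 : 3 ≤ p := by have := hp.two_le; omega
  haveI : Finite V := Module.finite_of_finite (ZMod p)
  set n := finrank (ZMod p) V with hndef
  obtain ⟨hl0, hlv, hlw, hcov⟩ := W.two_orbits hv hw hvw
  obtain ⟨q, hq⟩ := exists_isPPD (a := p) (n := n) hp.one_lt (by omega) (by omega) (by omega)
  have hq2 : q ≠ 2 := by
    rintro rfl
    refine hq.2.2 1 one_pos (by omega) ?_
    obtain ⟨c, hc⟩ := hp.odd_of_ne_two hp2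
    exact ⟨c, by rw [pow_one]; omega⟩
  have hNq : NoQQ (⊤ : Subgroup E) q := noQQ_of_lt (V := V) hq (by omega) _
    (⊥ : Submodule (ZMod p) V)
    (fun s _ u hu => by rw [(Submodule.mem_bot (ZMod p)).1 hu, smul_zero])
    (by rw [finrank_bot, ← hndef]; omega)
  have hqE : ¬ q ∣ Nat.card E := by
    have h := W.not_dvd_of_l_eq_one (v := (0 : V)) hq.1 (by rw [stabilizer_zero]; exact hNq) hl0
    rwa [stabilizer_zero, Subgroup.card_top] at h
  obtain ⟨m, hm, hA⟩ := exists_half_dim hE hq hq2 hqE hv hw hvw hcov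
  rw [← hndef] at hm
  set A := (orbit E v).ncard with hAdef
  set B := (orbit E w).ncard with hBdef
  have hAB : A + B = p ^ n - 1 := ncard_add_ncard hv hw hvw hcov
  have hB : p ^ m - 1 ∣ B := by
    refine (Nat.dvd_add_right hA).1 ?_
    rw [hAB, hm]
    exact Nat.pow_sub_one_dvd_pow_sub_one p ⟨2, by ring⟩
  by_cases hex : ∃ t, IsPPD t p m
  · obtain ⟨t, ht⟩ := hex
    have hS : ∀ {u : V}, u ≠ 0 → W.l u = 1 → ¬ t ∣ Nat.card (stabilizer E u) := fun hu hl =>
      W.not_dvd_of_l_eq_one ht.1 (noQQ_stabilizer (V := V) (E := E) ht (by omega) hu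
        (by rw [← hndef]; omega)) hl
    have hNt : NoQQ (⊤ : Subgroup E) t :=
      noQQ_of_free ht.1 (ppd_ne_base ht (by omega)) ⟨v, hv⟩ _ fun c _ hc x hx => by
        by_contra hx0
        rcases hcov x hx0 with h | h
        · exact hS hv hlv (dvd_card_stabilizer hc h hx)
        · exact hS hw hlw (dvd_card_stabilizer hc h hx)
    have h := W.not_dvd_of_l_eq_one (v := (0 : V)) ht.1 (by rw [stabilizer_zero]; exact hNt) hl0
    rw [stabilizer_zero, Subgroup.card_top] at h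
    exact h ((ht.2.1.trans hA).trans (ncard_orbit_dvd v))
  -- dimension four, `p + 1` a power of two
  obtain ⟨rfl, u, hu⟩ : m = 2 ∧ ∃ u : ℕ, p + 1 = 2 ^ u := by
    by_contra h
    exact hex (exists_isPPD hp.one_lt (by omega) (by omega) h)
  have hu2 : 2 ≤ u := by
    by_contra hlt
    interval_cases u <;> omega
  obtain ⟨e, he⟩ := W.square 0 hl0
  rw [stabilizer_zero, Subgroup.card_top] at he
  have hsq : ∀ {z : V}, W.l z = 1 → ∃ a, (orbit E z).ncard = a ^ 2 := by
    intro z hz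
    obtain ⟨f, hf⟩ := W.square z hz
    have h := index_stabilizer_mul (E := E) z
    rw [hf, he] at h
    exact exists_sq_of_mul_sq h fun h0 => by
      rw [h0] at hf
      exact Nat.card_pos.ne' hf
  obtain ⟨a, ha⟩ := hsq hlv
  obtain ⟨b, hb⟩ := hsq hlw
  rw [← hAdef] at ha
  rw [← hBdef] at hb
  obtain ⟨c, hc⟩ := hA
  obtain ⟨d, hd⟩ := hB
  rw [hm] at hAB
  have hp1 : 1 ≤ p ^ 2 := Nat.one_le_pow _ _ hp.pos
  have hcd : c + d = p ^ 2 + 1 := by
    refine Nat.eq_of_mul_eq_mul_left (n := p ^ 2 - 1) ?_ ?_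
    · have : 3 ^ 2 ≤ p ^ 2 := Nat.pow_le_pow_left hp3 2
      omega
    · rw [mul_add, ← hc, ← hd, hAB, show (p ^ 2 - 1) * (p ^ 2 + 1) = (p ^ 2) ^ 2 - 1 by
        rw [mul_comm]; simpa using (Nat.sq_sub_sq (p ^ 2) 1).symm, ← pow_mul]
  obtain ⟨w₀, hw₀⟩ : ∃ w₀, p = 2 * w₀ + 1 := by
    obtain ⟨k, hk⟩ := hp.odd_of_ne_two hp2
    exact ⟨k, hk⟩
  have hw₀odd : ¬ 2 ∣ w₀ := by
    rintro ⟨k, rfl⟩
    rw [hw₀, show u = u - 2 + 2 by omega, pow_add] at hu
    omega
  have hfac : p ^ 2 - 1 = w₀ * 2 ^ (u + 1) := by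
    have h : p ^ 2 - 1 = (p + 1) * (p - 1) := by simpa using Nat.sq_sub_sq p 1
    rw [h, hu, show p - 1 = 2 * w₀ by omega, pow_succ]
    ring
  have hcop : w₀.Coprime (2 ^ (u + 1) * Nat.gcd c d) := by
    refine Nat.Coprime.mul_right ((Nat.prime_two.coprime_iff_not_dvd.2 hw₀odd).symm.pow_right _)
      (Nat.coprime_of_dvd fun r hr hrw hrg => ?_)
    have h1 : r ∣ p ^ 2 + 1 :=
      hcd ▸ dvd_add (hrg.trans (Nat.gcd_dvd_left c d)) (hrg.trans (Nat.gcd_dvd_right c d))
    have h2 : r ∣ p ^ 2 - 1 := hfac ▸ hrw.mul_right _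
    have h3 : r ∣ 2 := by
      have := Nat.dvd_sub h1 h2
      rwa [show p ^ 2 + 1 - (p ^ 2 - 1) = 2 by omega] at this
    obtain rfl := (Nat.prime_dvd_prime_iff_eq hr Nat.prime_two).1 h3
    exact hw₀odd hrw
  obtain ⟨x, hx⟩ : ∃ x, w₀ = x ^ 2 := by
    refine exists_eq_pow_of_mul_eq_pow (b := 2 ^ (u + 1) * Nat.gcd c d) (c := Nat.gcd a b) ?_ ?_
    · rw [isUnit_iff_eq_one]; exact hcop
    · rw [← mul_assoc, ← hfac, ← Nat.gcd_mul_left, ← hc, ← hd, ha, hb, Nat.pow_gcd_pow]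
  have hp' : p = 3 := by
    by_contra hne
    have hu3 : 3 ≤ u := by
      by_contra h
      rw [show u = 2 by omega] at hu
      omega
    have h4 : x ^ 2 % 4 = 3 := by
      rw [← hx]
      rw [hw₀, show u = u - 3 + 3 by omega, pow_add] at hu
      omega
    rw [Nat.pow_mod] at h4
    have : x % 4 < 4 := Nat.mod_lt _ (by norm_num)
    interval_cases hxm : x % 4 <;> norm_num at h4
  subst hp'
  have hAB80 : a ^ 2 + b ^ 2 = 80 := by rw [← ha, ← hb, hAB]; norm_num
  have hne0 : a ≠ 0 ∧ b ≠ 0 := by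
    constructor
    · rintro rfl
      have : 0 < A := (Set.ncard_pos (Set.toFinite _)).2 ⟨v, mem_orbit_self v⟩
      rw [ha] at this
      exact absurd this (by norm_num)
    · rintro rfl
      have : 0 < B := (Set.ncard_pos (Set.toFinite _)).2 ⟨w, mem_orbit_self w⟩
      rw [hb] at this
      exact absurd this (by norm_num)
  have hcases : (a = 4 ∧ b = 8) ∨ (a = 8 ∧ b = 4) := by
    have ha9 : a < 9 := by nlinarith
    have hb9 : b < 9 := by nlinarith
    obtain ⟨h1, h2⟩ := hne0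
    interval_cases a <;> interval_cases b <;> omega
  have hn4 : finrank (ZMod 3) V = 4 := by rw [← hndef]; omega
  rcases hcases with ⟨rfl, rfl⟩ | ⟨rfl, rfl⟩
  · exact W.false_of_two_orbits_small hE hn4 hv hw hvw (by rw [← hAdef, ha]; norm_num)
      (by rw [← hBdef, hb]; norm_num)
  · exact W.false_of_two_orbits_small hE hn4 hw hv
      (fun h => hvw (by rw [orbit_eq_iff.2 h]; exact mem_orbit_self w))
      (by rw [← hBdef, hb]; norm_num) (by rw [← hAdef, ha]; norm_num)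

/-- The weights force dimension at most one. -/
theorem Weights.finrank_le_one (W : Weights E V) (hE : ¬ p ∣ Nat.card E) (hp2 : p ≠ 2) :
    finrank (ZMod p) V ≤ 1 := by
  by_contra hn
  haveI : Nontrivial V :=
    Module.nontrivial_of_finrank_pos (R := ZMod p) (M := V) (by omega)
  obtain ⟨v, hv⟩ := exists_ne (0 : V)
  rcases eq_or_ne (finrank (ZMod p) V) 2 with h2 | h2
  · exact W.false_of_finrank_two hp2 hE h2
  by_cases ht : ∀ u : V, u ≠ 0 → u ∈ orbit E v
  · exact W.false_of_transitive hE hp2 (by omega) hv ht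
  · push Not at ht
    obtain ⟨w, hw, hvw⟩ := ht
    exact W.false_of_two_orbits hE hp2 (by omega) hv hw hvw

end Cfsg.Agent.H35.ThreeBlock
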