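import Cfsg.Agent.H35.ThreeBlock.Below
import Cfsg.Agent.H35.ThreeBlock.TwoOrbit
import Cfsg.Agent.H81.EqualDegrees.NormalQuot
import Cfsg.Agent.PGroups.Basic

/-!
# Few characters of height zero in a block with normal defect group

For odd `p`, at most three characters of height zero force a defect group of order three.
-/

set_option linter.unusedSectionVars false
set_option linter.style.haveILetI false

open scoped ComplexConjugate

namespace Cfsg.Agent.H35.ThreeBlock

open CharBasic BlockBasic CharInduce MulAction Module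

universe u

variable {G : Type u} [Group G] [Fintype G] {p : ℕ} [hp : Fact p.Prime] {M : Ideal Cfsg.AlgInt}

/-- Linear characters of order `p` see the Frattini quotient of a `p`-group. -/
theorem exists_hom_ker_eq {Q : Type u} [Group Q] [Finite Q] (hQ : IsPGroup p Q) {K : Subgroup Q}
    (hK : IsCoatom K) : ∃ f : Q →* ℂˣ, f ^ p = 1 ∧ f.ker = K := by
  haveI := PGroups.normal_of_isCoatom hQ hK
  have hidx : Nat.card (Q ⧸ K) = p := PGroups.index_eq_of_isCoatom hQ hK
  haveI : NeZero p := ⟨hp.out.ne_zero⟩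
  have hroots : Nat.card (rootsOfUnity p ℂ) = p := Complex.card_rootsOfUnity p
  let e : Q ⧸ K ≃* rootsOfUnity p ℂ := mulEquivOfPrimeCardEq hidx hroots
  refine ⟨(rootsOfUnity p ℂ).subtype.comp (e.toMonoidHom.comp (QuotientGroup.mk' K)),
    MonoidHom.ext fun x => ?_, ?_⟩
  · rw [MonoidHom.pow_apply, MonoidHom.one_apply]
    exact (mem_rootsOfUnity p _).1 (e (x : Q ⧸ K)).2
  · ext x
    rw [MonoidHom.mem_ker]
    exact (Subgroup.subtype_injective _).eq_iff' (map_one _) |>.trans
      ((MulEquiv.map_eq_one_iff e).trans (QuotientGroup.eq_one_iff x))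

theorem mem_frattini_of_forall_hom {Q : Type u} [Group Q] [Finite Q] (hQ : IsPGroup p Q) {x : Q}
    (h : ∀ f : Q →* ℂˣ, f ^ p = 1 → f x = 1) : x ∈ frattini Q := by
  simp only [frattini, Order.radical, Subgroup.mem_iInf]
  intro K hK
  obtain ⟨f, hf, hker⟩ := exists_hom_ker_eq (p := p) hQ hK
  rw [← hker]
  exact h f hf

/-- A `p`-group with at most `p` characters of exponent `p` is cyclic. -/
theorem isCyclic_of_card_hom_le {Q : Type u} [Group Q] [Finite Q] (hQ : IsPGroup p Q)
    [Finite (Q →* ℂˣ)] (h : Nat.card {f : Q →* ℂˣ // f ^ p = 1} ≤ p) : IsCyclic Q := by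
  classical
  have huniq : ∀ K K' : Subgroup Q, IsCoatom K → IsCoatom K' → K = K' := by
    intro K K' hK hK'
    obtain ⟨f, hf, hfk⟩ := exists_hom_ker_eq (p := p) hQ hK
    obtain ⟨g, hg, hgk⟩ := exists_hom_ker_eq (p := p) hQ hK'
    let Ω : Subgroup (Q →* ℂˣ) := (powMonoidHom p).ker
    have hfp : orderOf f = p := orderOf_eq_prime hf fun h1 => hK.1 (by rw [← hfk, h1, MonoidHom.ker_one])
    have hle : Subgroup.zpowers f ≤ Ω := Subgroup.zpowers_le.2 hf
    have heq : Subgroup.zpowers f = Ω := Subgroup.eq_of_le_of_card_ge hle (by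
      rw [Nat.card_zpowers, hfp]
      refine le_of_eq_of_le ?_ h
      exact Nat.card_congr (Equiv.subtypeEquivRight fun k => Iff.rfl))
    obtain ⟨i, hi⟩ := Subgroup.mem_zpowers_iff.1 (heq.symm ▸ (hg : g ∈ Ω) : g ∈ Subgroup.zpowers f)
    have hle' : K ≤ K' := fun x hx => by
      rw [← hfk, MonoidHom.mem_ker] at hx
      rw [← hgk, MonoidHom.mem_ker, ← hi]
      show (f ^ i) x = 1
      have : (f ^ i) x = f x ^ i := map_zpow (MonoidHom.eval x) f i
      rw [this, hx, one_zpow]
    exact (hK.le_iff.1 hle').resolve_left hK'.1 |>.symm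
  rcases subsingleton_or_nontrivial Q with hs | hs
  · infer_instance
  obtain ⟨K, hK, -⟩ := (eq_top_or_exists_le_coatom (⊥ : Subgroup Q)).resolve_left bot_ne_top
  obtain ⟨x, hx⟩ : ∃ x, x ∉ K := by
    by_contra hall
    push Not at hall
    exact hK.1 (eq_top_iff.2 fun x _ => hall x)
  refine ⟨⟨x, fun y => ?_⟩⟩
  rcases eq_top_or_exists_le_coatom (Subgroup.zpowers x) with he | ⟨K', hK', hle⟩
  · show y ∈ Subgroup.zpowers x
    rw [he]
    exact Subgroup.mem_top y
  · exact absurd (huniq K' K hK' hK ▸ hle (Subgroup.mem_zpowers x)) hx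

variable {B : Set (Cfsg.IrrCharacter G)} {P L : Subgroup G} [P.Normal] [L.Normal]

/-- The linear characters of exponent `p`, written additively. -/
def Vec (p : ℕ) (Q : Type u) [Group Q] : Type u :=
  Additive ↥((powMonoidHom p).ker : Subgroup (Q →* ℂˣ))

noncomputable instance (p : ℕ) (Q : Type u) [Group Q] : AddCommGroup (Vec p Q) :=
  inferInstanceAs (AddCommGroup (Additive ↥((powMonoidHom p).ker : Subgroup (Q →* ℂˣ))))

theorem Below.isClassFun (D : Below p M B P L) : Cfsg.IsClassFunction L (D.base : L → ℂ) :=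
  haveI := Fintype.ofFinite L
  IsIrr.isClassFunction D.base.2

/-- The quotient of the inertia group of the base. -/
abbrev Below.Quot (D : Below p M B P L) : Type u :=
  inertia L (D.base : L → ℂ) ⧸ L.subgroupOf (inertia L (D.base : L → ℂ))

theorem conjHom_of_mem {f : P →* ℂˣ} {g : G} (hL : L = P ⊔ Subgroup.centralizer (P : Set G))
    (hg : g ∈ L) : conjHom f g = f := by
  rw [hL] at hg
  obtain ⟨a, ha, c, hc, rfl⟩ := Subgroup.mem_sup_of_normal_left.1 hg
  refine MonoidHom.ext fun x => ?_
  rw [conjHom_apply]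
  have hx : ((a * c) * x * (a * c)⁻¹ : G) = a * x * a⁻¹ := by
    rw [show (a * c) * (x : G) * (a * c)⁻¹ = a * (c * x * c⁻¹) * a⁻¹ by group,
      ← Subgroup.mem_centralizer_iff.1 hc x x.2, mul_inv_cancel_right]
  have : (⟨(a * c) * x * (a * c)⁻¹, Subgroup.Normal.conj_mem ‹P.Normal› x x.2 _⟩ : P) =
      ⟨a, ha⟩ * x * (⟨a, ha⟩ : P)⁻¹ := Subtype.ext (by simpa using hx)
  rw [this, map_mul, map_mul, map_inv, mul_comm (f ⟨a, ha⟩), mul_inv_cancel_right]

theorem conjHom_conjHom (f : P →* ℂˣ) (a b : G) :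
    conjHom (conjHom f a) b = conjHom f (a * b) :=
  MonoidHom.ext fun x => by
    simp only [conjHom_apply]
    congr 1
    exact Subtype.ext (by group)

/-- The action of the inertia quotient on linear characters. -/
noncomputable def Below.actHom (D : Below p M B P L) (hL : L = P ⊔ Subgroup.centralizer (P : Set G)) :
    D.Quot →* MulAut (P →* ℂˣ) :=
  QuotientGroup.lift _
    ({ toFun := fun g =>
        { toFun := fun f => conjHom f (g : G)⁻¹
          invFun := fun f => conjHom f (g : G)
          left_inv := fun f => by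
            show conjHom (conjHom f _) _ = f
            rw [conjHom_conjHom, inv_mul_cancel]
            exact conjHom_of_mem hL (one_mem L)
          right_inv := fun f => by
            show conjHom (conjHom f _) _ = f
            rw [conjHom_conjHom, mul_inv_cancel]
            exact conjHom_of_mem hL (one_mem L)
          map_mul' := fun f f' => MonoidHom.ext fun x => rfl }
       map_one' := MulEquiv.ext fun f => by
        show conjHom f ((1 : inertia L (D.base : L → ℂ)) : G)⁻¹ = f
        rw [Subgroup.coe_one, inv_one]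
        exact conjHom_of_mem hL (one_mem L)
       map_mul' := fun g h => MulEquiv.ext fun f => by
        show conjHom f _ = conjHom (conjHom f _) _
        rw [conjHom_conjHom, Subgroup.coe_mul, mul_inv_rev] } :
      inertia L (D.base : L → ℂ) →* MulAut (P →* ℂˣ))
    (fun g hg => MulEquiv.ext fun f => conjHom_of_mem hL (inv_mem (Subgroup.mem_subgroupOf.1 hg)))

theorem Below.actHom_mk (D : Below p M B P L) (hL : L = P ⊔ Subgroup.centralizer (P : Set G))
    (g : inertia L (D.base : L → ℂ)) (f : P →* ℂˣ) :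
    D.actHom hL (g : D.Quot) f = conjHom f (g : G)⁻¹ := rfl

variable (D : Below p M B P L) (hM : Cfsg.IsPModular p M)
  (hL : L = P ⊔ Subgroup.centralizer (P : Set G))

/-- The map of an inertia group to the inertia quotient. -/
noncomputable def Below.toQuot (f : P →* ℂˣ) :
    inertia L (D.mem hM hL f : L → ℂ) →* D.Quot :=
  (QuotientGroup.mk' _).comp (Subgroup.inclusion
    fun g hg => ((D.mem_inertia_iff hM hL f g).1 hg).1)

theorem Below.ker_toQuot (f : P →* ℂˣ) :
    (D.toQuot hM hL f).ker = L.subgroupOf (inertia L (D.mem hM hL f : L → ℂ)) := by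
  ext g
  rw [MonoidHom.mem_ker]
  exact (QuotientGroup.eq_one_iff _).trans Iff.rfl

theorem Below.mem_range_toQuot (f : P →* ℂˣ) (a : D.Quot) :
    a ∈ (D.toQuot hM hL f).range ↔ D.actHom hL a f = f := by
  constructor
  · rintro ⟨g, rfl⟩
    exact ((D.mem_inertia_iff hM hL f _).1 (inv_mem g.2)).2
  · induction a using QuotientGroup.induction_on with
    | H g =>
      intro h
      rw [D.actHom_mk] at h
      have hg : (g : G) ∈ inertia L (D.mem hM hL f : L → ℂ) :=
        inv_mem_iff.1 ((D.mem_inertia_iff hM hL f _).2 ⟨inv_mem g.2, h⟩)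
      exact ⟨⟨g, hg⟩, rfl⟩

section Local

variable (f : P →* ℂˣ)

local notation "Hf" => inertia L (D.mem hM hL f : L → ℂ)
local notation "ψf" => (D.mem hM hL f : L → ℂ)

theorem Below.le_inertia_mem : L ≤ Hf :=
  haveI := Fintype.ofFinite L
  CharInduce.le_inertia L (IsIrr.isClassFunction (D.mem hM hL f).2)

/-- The member, on `L` inside its inertia group. -/
noncomputable def Below.loc : L.subgroupOf Hf → ℂ := fun n => ψf ⟨((n : Hf) : G), n.2⟩

theorem Below.isIrr_loc : Cfsg.IsIrrCharacter (L.subgroupOf Hf) (D.loc hM hL f) := by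
  let e : L.subgroupOf Hf ≃* L := Subgroup.subgroupOfEquivOfLe (D.le_inertia_mem hM hL f)
  exact CharInduce.IsIrr.comp (D.mem hM hL f).2 e.toMonoidHom e.surjective

theorem Below.loc_invariant (g : Hf) : CharInduce.conjFun (L.subgroupOf Hf) (D.loc hM hL f) g = D.loc hM hL f := by
  funext n
  have h := congrFun ((CharInduce.mem_inertia L).1 g.2) ⟨((n : Hf) : G), n.2⟩
  rw [conjFun_eq_comp] at h ⊢
  exact h

/-- Induction embeds the characters over the member in its inertia group. -/
theorem Below.card_above_loc_le :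
    letI := Fintype.ofFinite Hf
    (above (L.subgroupOf Hf) (D.loc hM hL f)).card ≤ D.count hM hL f := by
  classical
  haveI := Fintype.ofFinite L
  letI := Fintype.ofFinite Hf
  haveI := Fintype.ofFinite (L.subgroupOf Hf)
  have hle := D.le_inertia_mem hM hL f
  let e : L.subgroupOf Hf ≃* L := Subgroup.subgroupOfEquivOfLe hle
  have hres : ∀ β ∈ above (L.subgroupOf Hf) (D.loc hM hL f),
      classInner (resTo L hle (β : Hf → ℂ)) ψf ≠ 0 := by
    intro β hβ
    rw [mem_above, classInner_indFun_left _ _ _ (IsIrr.isClassFunction β.2), ← conj_classInner,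
      Ne, map_eq_zero] at hβ
    rw [← classInner_comp_mulEquiv e]
    exact hβ
  have h := fun β hβ => clifford_correspondence L (D.mem hM hL f).2 hle
    (ψ := (β : Cfsg.IrrCharacter Hf).1) β.2 (hres β hβ)
  refine Finset.card_le_card_of_injOn
    (fun β => if hβ : β ∈ above (L.subgroupOf Hf) (D.loc hM hL f) then
      ⟨indFun Hf (β : Hf → ℂ), (h β hβ).1⟩ else (exists_over L (D.mem hM hL f)).choose)
    (fun β hβ => ?_) (fun β hβ β' hβ' he => ?_)
  · simp only [Finset.mem_coe] at hβ ⊢
    rw [dif_pos hβ, mem_above,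
      classInner_indFun_left L _ _ (isClassFunction_indFun Hf (β : Hf → ℂ)), ← conj_classInner,
      Ne, map_eq_zero, (h β hβ).2.1]
    exact hres β hβ
  · simp only [Finset.mem_coe] at hβ hβ'
    simp only [dif_pos hβ, dif_pos hβ'] at he
    exact Subtype.ext ((h β' hβ').2.2 _ β.2 (hres β hβ) (congrArg Subtype.val he))

/-- Good classes of the stabiliser bound the count. -/
theorem Below.good_le (S : Subgroup D.Quot) (hS : ∀ a, a ∈ S ↔ D.actHom hL a f = f)
    (s : Finset D.Quot) (hgood : ∀ x ∈ s, GoodIn S x)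
    (hconj : ∀ a ∈ s, ∀ b ∈ s, ∀ g ∈ S, g * a * g⁻¹ = b → a = b) :
    s.card ≤ D.count hM hL f := by
  classical
  haveI := Fintype.ofFinite L
  letI := Fintype.ofFinite Hf
  refine le_trans ?_ (D.card_above_loc_le hM hL f)
  set π := D.toQuot hM hL f with hπ
  set N := L.subgroupOf Hf
  have hker : π.ker = N := D.ker_toQuot hM hL f
  have hmem : ∀ a ∈ S, ∃ x : Hf, π x = a := fun a ha =>
    (D.mem_range_toQuot hM hL f a).2 ((hS a).1 ha)
  have heq : ∀ {x y : Hf}, (x : Hf ⧸ N) = y ↔ π x = π y := by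
    intro x y
    rw [QuotientGroup.eq, ← hker, MonoidHom.mem_ker, map_mul, map_inv, inv_mul_eq_one]
  have hcomm : ∀ {x y : Hf}, Commute (x : Hf ⧸ N) (y : Hf ⧸ N) ↔ Commute (π x) (π y) := by
    intro x y
    show (x : Hf ⧸ N) * y = y * x ↔ _ * _ = _ * _
    rw [← QuotientGroup.mk_mul, ← QuotientGroup.mk_mul, heq, map_mul, map_mul]
  choose r hr using fun a : s => hmem a (hgood a a.2).1
  have hirr := D.isIrr_loc hM hL f
  have hinv := D.loc_invariant hM hL f
  have h1 := card_le_above (N := N) hirr hinv r (fun a h hh => ?_) (fun a b hab => ?_)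
  · simpa using h1
  · have hπS : ∀ z : Hf, π z ∈ S := fun z =>
      (hS _).2 ((D.mem_range_toQuot hM hL f _).1 ⟨z, rfl⟩)
    have hfix : N ≤ extFixer N (D.loc hM hL f) (r a) := fun n hn =>
      fixesExt_of_root hirr hinv (x := r a) (y := r a) (e := 1)
        (by rw [(QuotientGroup.eq_one_iff n).2 hn]; exact Commute.one_left _)
        (by rw [pow_one]) (Or.inl (le_cycOver N (r a) hn))
    have hgen : Subgroup.closure {k : D.Quot | k ∈ S ∧ Compat S (a : D.Quot) k} ≤
        (extFixer N (D.loc hM hL f) (r a)).map π := by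
      rw [Subgroup.closure_le]
      rintro k ⟨hk, y, hy, e, hky, hxy, hcase⟩
      obtain ⟨k', rfl⟩ := hmem k hk
      obtain ⟨y', rfl⟩ := hmem y hy
      refine Subgroup.mem_map_of_mem π (fixesExt_of_root hirr hinv (x := r a) (y := y') (e := e)
        (hcomm.2 hky) ?_ ?_)
      · rw [← QuotientGroup.mk_pow, heq, map_pow, hr]
        exact hxy
      · rcases hcase with hz | hz
        · obtain ⟨i, hi⟩ := Subgroup.mem_zpowers_iff.1 hz
          refine Or.inl ((mem_cycOver N).2 ⟨i, ?_⟩)
          show (y' : Hf ⧸ N) ^ i = _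
          rw [← QuotientGroup.mk_zpow, heq, map_zpow, hi]
        · refine Or.inr ?_
          rw [← QuotientGroup.mk_pow, ← QuotientGroup.mk_one, heq, map_pow, hz, map_one]
    have hh' := hgen ((hgood a a.2).2 (π h) (hπS h) (hr a ▸ (hcomm.1 hh).symm))
    obtain ⟨k, hk, hkh⟩ := Subgroup.mem_map.1 hh'
    have hn : k⁻¹ * h ∈ N := by rw [← hker, MonoidHom.mem_ker, map_mul, map_inv, hkh, inv_mul_cancel]
    have := (extFixer N (D.loc hM hL f) (r a)).mul_mem hk (hfix hn)
    rwa [mul_inv_cancel_left] at this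
  · obtain ⟨c, hc⟩ := isConj_iff.1 hab
    induction c using QuotientGroup.induction_on with
    | H c =>
      rw [← QuotientGroup.mk_inv, ← QuotientGroup.mk_mul, ← QuotientGroup.mk_mul, heq, map_mul,
        map_mul, map_inv, hr, hr] at hc
      exact Subtype.ext (hconj a a.2 b b.2 (π c)
        ((hS _).2 ((D.mem_range_toQuot hM hL f _).1 ⟨c, rfl⟩)) hc)

/-- A single character over a member makes the stabiliser a square. -/
theorem Below.square (S : Subgroup D.Quot) (hS : ∀ a, a ∈ S ↔ D.actHom hL a f = f)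
    (h1 : D.count hM hL f = 1) : ∃ e : ℕ, Nat.card S = e ^ 2 := by
  classical
  haveI := Fintype.ofFinite L
  letI := Fintype.ofFinite Hf
  haveI := Fintype.ofFinite (L.subgroupOf Hf)
  have hle := D.card_above_loc_le hM hL f
  obtain ⟨β, hβ⟩ := exists_over (L.subgroupOf Hf) ⟨D.loc hM hL f, D.isIrr_loc hM hL f⟩
  have hpos : β ∈ above (L.subgroupOf Hf) (D.loc hM hL f) := by
    rw [mem_above, classInner_indFun_left _ _ _ (IsIrr.isClassFunction β.2), ← conj_classInner,
      Ne, map_eq_zero]
    exact hβ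
  obtain ⟨e, he⟩ := exists_sq_index (D.isIrr_loc hM hL f) (D.loc_invariant hM hL f)
    (le_antisymm (hle.trans h1.le) (Finset.card_pos.2 ⟨β, hpos⟩))
  refine ⟨e, ?_⟩
  have hr : (D.toQuot hM hL f).range = S := by
    ext a
    rw [D.mem_range_toQuot, hS]
  rw [← hr, ← Subgroup.index_ker, D.ker_toQuot, he]

end Local

include hM in
/-- For odd `p` at most three characters of height zero force order three. -/
theorem card_eq_three_of_height_zero (hB : Cfsg.IsPBlock M B)
    (hD : Cfsg.IsDefectGroup p M B P) (hp2 : p ≠ 2) (hP1 : Nat.card P ≠ 1)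
    (hk : Nat.card {χ : Cfsg.IrrCharacter G //
      χ ∈ B ∧ Cfsg.blockHeight p B (χ : G → ℂ) = 0} ≤ 3) : Nat.card P = 3 := by
  classical
  set L := P ⊔ Subgroup.centralizer (P : Set G) with hLdef
  haveI : L.Normal := sup_centralizer_normal P
  obtain ⟨D⟩ := exists_below hM hB hD (L := L) rfl
  haveI := Fintype.ofFinite L
  have hP : IsPGroup p P := IsPGroup.of_card (H35.card_defectGroup hM hB hD)
  haveI : Fintype P := Fintype.ofFinite _
  haveI : Finite (P →* ℂˣ) := Finite.of_injective
    (fun f : P →* ℂˣ => (⟨fun x => (f x : ℂ), isIrrCharacter_hom f⟩ : Cfsg.IrrCharacter P))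
    fun f g h => MonoidHom.ext fun x => Units.ext (congrFun (congrArg Subtype.val h) x)
  haveI := Fintype.ofFinite (P →* ℂˣ)
  have hpE : ¬ p ∣ Nat.card D.Quot := D.not_dvd_relIndex hM rfl hB hD
  letI : MulDistribMulAction D.Quot (P →* ℂˣ) :=
    { smul := fun a f => D.actHom rfl a f
      one_smul := fun f => by
        show D.actHom rfl 1 f = f
        rw [map_one]
        rfl
      mul_smul := fun a b f => by
        show D.actHom rfl (a * b) f = D.actHom rfl a (D.actHom rfl b f)
        rw [map_mul]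
        rfl
      smul_mul := fun a f g => map_mul (D.actHom rfl a) f g
      smul_one := fun a => map_one (D.actHom rfl a) }
  have hsmul : ∀ (a : D.Quot) (f : P →* ℂˣ), a • f = D.actHom rfl a f := fun a f => rfl
  have horb : ∀ s : Finset (P →* ℂˣ), (∀ a ∈ s, ∀ b ∈ s, ∀ g : D.Quot, g • a = b → a = b) →
      ∑ f ∈ s, D.count hM rfl f ≤ 3 := fun s hs =>
    D.sum_count_le hM rfl hB hD hk s fun a ha b hb g hg hab =>
      hs a ha b hb ((⟨g, hg⟩ : inertia L (D.base : L → ℂ))⁻¹ : inertia L (D.base : L → ℂ)) (by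
        rw [hsmul, D.actHom_mk, Subgroup.coe_inv, inv_inv, hab])
  -- the characters of exponent `p`
  have hone : ∀ a : D.Quot, a • (1 : P →* ℂˣ) = 1 := fun a => map_one (D.actHom rfl a)
  set Ω : Subgroup (P →* ℂˣ) := (powMonoidHom p).ker with hΩ
  haveI : Module (ZMod p) (Vec p ↥P) := AddCommGroup.zmodModule fun x =>
    congrArg Additive.ofMul (Subtype.ext (Additive.toMul x).2 : (Additive.toMul x) ^ p = 1)
  have hmemΩ : ∀ (a : D.Quot) (f : Ω), a • (f : P →* ℂˣ) ∈ Ω := fun a f => by
    show (a • (f : P →* ℂˣ)) ^ p = 1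
    rw [← smul_pow', show (f : P →* ℂˣ) ^ p = 1 from f.2, hone]
  letI : DistribMulAction D.Quot (Vec p ↥P) :=
    { smul := fun a v => Additive.ofMul ⟨a • ((Additive.toMul v : Ω) : P →* ℂˣ), hmemΩ a _⟩
      one_smul := fun v => congrArg Additive.ofMul (Subtype.ext (one_smul _ _))
      mul_smul := fun a b v => congrArg Additive.ofMul (Subtype.ext (mul_smul _ _ _))
      smul_zero := fun a => congrArg Additive.ofMul (Subtype.ext (hone _))
      smul_add := fun a v w => congrArg Additive.ofMul (Subtype.ext (smul_mul' _ _ _)) }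
  haveI : SMulCommClass D.Quot (ZMod p) (Vec p ↥P) :=
    ⟨fun a c v => ZMod.map_smul (DistribSMul.toAddMonoidHom (Vec p ↥P) a) c v⟩
  haveI : Finite (Vec p ↥P) := inferInstanceAs (Finite (Additive Ω))
  haveI : FiniteDimensional (ZMod p) (Vec p ↥P) := Module.Finite.of_finite
  let ι : (Vec p ↥P) → (P →* ℂˣ) := fun v => ((Additive.toMul v : Ω) : P →* ℂˣ)
  have hι : ∀ (a : D.Quot) (v : (Vec p ↥P)), ι (a • v) = a • ι v := fun a v => rfl
  have hιinj : Function.Injective ι := fun v w h => Additive.toMul.injective (Subtype.ext h)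
  -- faithfulness
  haveI : FaithfulSMul D.Quot (Vec p ↥P) := by
    refine ⟨fun {a b} hab => ?_⟩
    have h0 : ∀ v : (Vec p ↥P), (a⁻¹ * b) • v = v := fun v => by rw [mul_smul, ← hab v, inv_smul_smul]
    rw [← inv_mul_eq_one]
    generalize a⁻¹ * b = c at h0
    induction c using QuotientGroup.induction_on with
    | H g =>
      obtain ⟨k, r, hr, hkr⟩ :=
        Nat.exists_eq_pow_mul_and_not_dvd (orderOf_pos (g : G)).ne' p hp.out.ne_one
      set t := g ^ p ^ k with htdef
      have ht : ¬ p ∣ orderOf (t : G) := by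
        rw [htdef, Subgroup.coe_pow,
          orderOf_pow_of_dvd (pow_ne_zero _ hp.out.ne_zero) (hkr ▸ dvd_mul_right _ _), hkr,
          Nat.mul_div_cancel_left _ (pow_pos hp.out.pos _)]
        exact hr
      have htfix : ∀ v : (Vec p ↥P), (t : D.Quot) • v = v := by
        intro v
        rw [htdef, QuotientGroup.mk_pow]
        generalize p ^ k = j
        induction j with
        | zero => rw [pow_zero, one_smul]
        | succ j ih => rw [pow_succ, mul_smul, h0, ih]
      have htinv : ∀ v : (Vec p ↥P), ((t⁻¹ : inertia L (D.base : L → ℂ)) : D.Quot) • v = v := fun v => by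
        rw [QuotientGroup.mk_inv]
        exact inv_smul_eq_iff.2 (htfix v).symm
      have hcent : (t : G) ∈ Subgroup.centralizer (P : Set G) := by
        refine H81.EqualDegrees.mem_centralizer_of_mod_frattini hP ht fun d hd => ?_
        have hc : (t : G) * d * (t : G)⁻¹ * d⁻¹ ∈ P :=
          P.mul_mem (Subgroup.Normal.conj_mem ‹P.Normal› d hd t) (P.inv_mem hd)
        refine ⟨⟨_, hc⟩, mem_frattini_of_forall_hom hP fun f hf => ?_, rfl⟩
        let w : Vec p ↥P := Additive.ofMul ⟨f, hf⟩
        have h : ((t⁻¹ : inertia L (D.base : L → ℂ)) : D.Quot) • f = f :=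
          (hι _ w).symm.trans (congrArg ι (htinv w))
        rw [hsmul, D.actHom_mk, Subgroup.coe_inv, inv_inv] at h
        have h' : f ⟨(t : G) * d * (t : G)⁻¹, Subgroup.Normal.conj_mem ‹P.Normal› d hd t⟩ =
            f ⟨d, hd⟩ := by
          rw [← conjHom_apply f (t : G) ⟨d, hd⟩]
          exact DFunLike.congr_fun h ⟨d, hd⟩
        rw [show (⟨_, hc⟩ : P) = ⟨(t : G) * d * (t : G)⁻¹,
          Subgroup.Normal.conj_mem ‹P.Normal› d hd t⟩ * (⟨d, hd⟩ : P)⁻¹ from rfl, map_mul, map_inv,
          h', mul_inv_cancel]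
      have h1 : (g : D.Quot) ^ p ^ k = 1 := by
        rw [← QuotientGroup.mk_pow, QuotientGroup.eq_one_iff, Subgroup.mem_subgroupOf]
        exact Subgroup.mem_sup_right hcent
      exact orderOf_eq_one_iff.1 (Nat.eq_one_of_dvd_coprimes
        (Nat.Coprime.pow_left k ((hp.out.coprime_iff_not_dvd).2 hpE))
        (orderOf_dvd_of_pow_eq_one h1) (orderOf_dvd_natCard _))
  -- the weights
  have hstab : ∀ (v : (Vec p ↥P)) (a : D.Quot), a ∈ stabilizer D.Quot v ↔ D.actHom rfl a (ι v) = ι v :=
    fun v a => ⟨fun h => congrArg ι (mem_stabilizer_iff.1 h), fun h => hιinj h⟩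
  let W : Weights D.Quot (Vec p ↥P) :=
    { l := fun v => D.count hM rfl (ι v)
      one_le := fun v => D.one_le_count hM rfl _
      orbit_le := fun s hs => by
        have h := horb (s.map ⟨ι, hιinj⟩) (by
          intro a ha b hb g hg
          obtain ⟨v, hv, rfl⟩ := Finset.mem_map.1 ha
          obtain ⟨w, hw, rfl⟩ := Finset.mem_map.1 hb
          exact congrArg ι (hs v hv w hw g (hιinj hg)))
        rwa [Finset.sum_map] at h
      good_le := fun v s h1 h2 => D.good_le hM rfl (ι v) _ (hstab v) s h1 h2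
      square := fun v h => D.square hM rfl (ι v) _ (hstab v) h }
  have hrank : finrank (ZMod p) (Vec p ↥P) ≤ 1 :=
    W.finrank_le_one hpE hp2
  have hcardV : Nat.card (Vec p ↥P) ≤ p := by
    have hc : Nat.card (Vec p ↥P) = Nat.card (ZMod p) ^ finrank (ZMod p) (Vec p ↥P) :=
      Module.natCard_eq_pow_finrank
    rw [hc, Nat.card_zmod]
    calc p ^ finrank (ZMod p) (Vec p ↥P) ≤ p ^ 1 := Nat.pow_le_pow_right hp.out.pos hrank
      _ = p := pow_one p
  haveI hPcyc : IsCyclic P := isCyclic_of_card_hom_le hP (by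
    refine le_of_eq_of_le ?_ hcardV
    exact Nat.card_congr Additive.ofMul)
  -- the quotient is cyclic
  haveI : Nontrivial P := Finite.one_lt_card_iff_nontrivial.1 (by
    have := Nat.card_pos (α := P); omega)
  obtain ⟨v, hv⟩ : ∃ v : (Vec p ↥P), v ≠ 0 := by
    obtain ⟨K, hK, -⟩ := (eq_top_or_exists_le_coatom (⊥ : Subgroup P)).resolve_left bot_ne_top
    obtain ⟨f, hf, hker⟩ := exists_hom_ker_eq (p := p) hP hK
    refine ⟨Additive.ofMul ⟨f, hf⟩, fun h => hK.1 ?_⟩
    have h' : f = 1 := congrArg ι h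
    rw [← hker, h', MonoidHom.ker_one]
  have hspan : ∀ w : (Vec p ↥P), ∃ c : ZMod p, c • v = w := by
    intro w
    have htop : Submodule.span (ZMod p) {v} = ⊤ := Submodule.eq_top_of_finrank_eq (by
      have := Submodule.finrank_le (Submodule.span (ZMod p) {v})
      rw [finrank_span_singleton hv] at this ⊢
      omega)
    exact Submodule.mem_span_singleton.1 (htop ▸ Submodule.mem_top)
  haveI hEcyc : IsCyclic D.Quot := by
    choose χ hχ using fun a : D.Quot => hspan (a • v)
    have huniq : ∀ {c c' : ZMod p}, c • v = c' • v → c = c' := fun h =>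
      smul_left_injective (ZMod p) hv h
    let F : D.Quot →* ZMod p :=
      { toFun := χ
        map_one' := huniq (by rw [hχ, one_smul, one_smul])
        map_mul' := fun a b => huniq (by
          rw [hχ, mul_smul, ← hχ b, smul_comm, ← hχ a, smul_smul, mul_comm]) }
    refine isCyclic_of_injective F.toHomUnits ((injective_iff_map_eq_one _).2 fun a ha => ?_)
    refine eq_of_smul_eq_smul fun w : (Vec p ↥P) => ?_
    obtain ⟨c, rfl⟩ := hspan w
    have h1 : χ a = 1 := congrArg Units.val ha
    rw [one_smul, smul_comm, ← hχ a, h1, one_smul]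
  have hgood : Nat.card D.Quot ≤ D.count hM rfl 1 := by
    haveI := Fintype.ofFinite D.Quot
    obtain ⟨y, hy⟩ := IsCyclic.exists_generator (α := D.Quot)
    have htop : (⊤ : Subgroup D.Quot) = Subgroup.zpowers y :=
      (eq_top_iff.2 fun x _ => hy x).symm
    rw [Nat.card_eq_fintype_card]
    refine D.good_le hM rfl 1 ⊤ (fun a => ⟨fun _ => map_one _, fun _ => Subgroup.mem_top a⟩)
      Finset.univ (fun x _ => goodIn_of_eq_zpowers htop (Subgroup.mem_top x)) ?_
    intro a _ b _ g _ h
    obtain ⟨i, hi⟩ := Subgroup.mem_zpowers_iff.1 (hy g)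
    obtain ⟨j, hj⟩ := Subgroup.mem_zpowers_iff.1 (hy a)
    rw [← h, ← hi, ← hj, (Commute.zpow_zpow_self y i j).mul_inv_cancel]
  -- counting orbits
  have hpair : ∀ a : P →* ℂˣ, a ≠ 1 → D.count hM rfl 1 + D.count hM rfl a ≤ 3 := fun a ha => by
    have h := horb {1, a} (by
      intro x hx y hy g hg
      simp only [Finset.mem_insert, Finset.mem_singleton] at hx hy
      rcases hx with rfl | rfl <;> rcases hy with rfl | rfl
      · rfl
      · rw [hone] at hg; exact hg
      · exact (inv_smul_eq_iff.2 hg.symm).symm.trans (hone _)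
      · rfl)
    rwa [Finset.sum_pair (Ne.symm ha)] at h
  have hcard : Nat.card (P →* ℂˣ) ≤ 3 := by
    by_contra h4
    have he2 : 2 ≤ Nat.card D.Quot := by
      by_contra he
      haveI : Subsingleton D.Quot := Finite.card_le_one_iff_subsingleton.1 (by omega)
      have h := horb Finset.univ fun a _ b _ g hg => by
        rw [← hg, Subsingleton.elim g 1, one_smul]
      have h1 : Fintype.card (P →* ℂˣ) ≤ ∑ f : P →* ℂˣ, D.count hM rfl f :=
        le_trans (by simp) (Finset.sum_le_sum (f := fun _ => 1) fun f _ => D.one_le_count hM rfl f)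
      rw [← Nat.card_eq_fintype_card] at h1
      omega
    have hne : 3 ≤ ((Finset.univ : Finset (P →* ℂˣ)).erase 1).card := by
      rw [Finset.card_erase_of_mem (Finset.mem_univ _), Finset.card_univ,
        ← Nat.card_eq_fintype_card]
      omega
    obtain ⟨a, ha⟩ := Finset.card_pos.1 (by omega : 0 < ((Finset.univ : Finset (P →* ℂˣ)).erase 1).card)
    have ha1 := Finset.ne_of_mem_erase ha
    have he := hpair a ha1
    have hla := D.one_le_count hM rfl a
    have horba : (orbit D.Quot a).toFinset.card ≤ 2 := by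
      rw [← Set.ncard_eq_toFinset_card', ← index_stabilizer]
      exact (Nat.le_of_dvd Nat.card_pos (Subgroup.index_dvd_card _)).trans (by omega)
    obtain ⟨b, hb, hba⟩ := Finset.exists_mem_notMem_of_card_lt_card
      (horba.trans_lt (by omega : 2 < ((Finset.univ : Finset (P →* ℂˣ)).erase 1).card))
    have hb1 := Finset.ne_of_mem_erase hb
    rw [Set.mem_toFinset] at hba
    have hab : a ≠ b := fun h => hba (h ▸ mem_orbit_self a)
    have hgab : ∀ g : D.Quot, g • a ≠ b ∧ g • b ≠ a := fun g =>
      ⟨fun h => hba ⟨g, h⟩, fun h => hba ⟨g⁻¹, inv_smul_eq_iff.2 h.symm⟩⟩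
    have h := horb {1, a, b} (by
      intro x hx y hy g hg
      simp only [Finset.mem_insert, Finset.mem_singleton] at hx hy
      have hz : ∀ {z : P →* ℂˣ}, g • z = 1 → z = 1 := fun h =>
        (inv_smul_eq_iff.2 h.symm).symm.trans (hone _)
      rcases hx with rfl | rfl | rfl <;> rcases hy with rfl | rfl | rfl <;>
        first
        | rfl
        | exact (hone g).symm.trans hg
        | exact hz hg
        | exact absurd hg (hgab g).1
        | exact absurd hg (hgab g).2)
    rw [Finset.sum_insert (by simp [Ne.symm ha1, Ne.symm hb1]), Finset.sum_pair hab] at h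
    have := D.one_le_count hM rfl b
    omega
  have hcardP : Nat.card (P →* ℂˣ) = Nat.card P := by
    letI := IsCyclic.commGroup (α := P)
    exact CommGroup.card_monoidHom_of_hasEnoughRootsOfUnity P ℂ
  obtain ⟨d, hd⟩ := IsPGroup.iff_card.1 hP
  rcases d with _ | d
  · exact absurd (by rw [hd, pow_zero]) hP1
  · have h1 : p ≤ p ^ (d + 1) := Nat.le_self_pow (Nat.succ_ne_zero d) p
    have h2 := hp.out.two_le
    omega

end Cfsg.Agent.H35.ThreeBlock
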