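import Cfsg.Agent.H35.ThreeBlock.Irred

/-!
# The transitive case on eighty vectors
-/

set_option linter.unusedSectionVars false
set_option linter.style.haveILetI false

namespace Cfsg.Agent.H35.ThreeBlock

open MulAction Module Cfsg.Agent.Arith

variable {E : Type*} [Group E] [Finite E] {V : Type*} [AddCommGroup V]
  [Module (ZMod 3) V] [Module.Finite (ZMod 3) V] [DistribMulAction E V]
  [SMulCommClass E (ZMod 3) V] [FaithfulSMul E V]

theorem isPPD_five : IsPPD 5 3 4 :=
  ⟨by norm_num, by norm_num, fun k hk hk4 => by interval_cases k <;> norm_num⟩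

theorem isPPD_thirteen : IsPPD 13 3 3 :=
  ⟨by norm_num, by norm_num, fun k hk hk4 => by interval_cases k <;> norm_num⟩

/-- The order divides that of the general linear group. -/
theorem card_dvd_GL {p : ℕ} [Fact p.Prime] {V : Type*} [AddCommGroup V] [Module (ZMod p) V]
    [Module.Finite (ZMod p) V] [DistribMulAction E V] [SMulCommClass E (ZMod p) V]
    [FaithfulSMul E V] :
    Nat.card E ∣ ∏ i : Fin (finrank (ZMod p) V),
      (p ^ finrank (ZMod p) V - p ^ (i : ℕ)) := by
  classical
  let b := Module.finBasis (ZMod p) V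
  let ρ : E →* Matrix (Fin (finrank (ZMod p) V)) (Fin (finrank (ZMod p) V)) (ZMod p) :=
    { toFun := fun x => LinearMap.toMatrix b b (lin x)
      map_one' := by
        rw [show (lin (1 : E) : V →ₗ[ZMod p] V) = LinearMap.id from
          LinearMap.ext fun u => one_smul E u, LinearMap.toMatrix_id]
      map_mul' := fun x y => by
        rw [← LinearMap.toMatrix_mul]
        congr 1
        exact LinearMap.ext fun u => mul_smul x y u }
  have hinj : Function.Injective ρ.toHomUnits := fun x y hxy => by
    refine eq_of_smul_eq_smul fun u : V => ?_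
    exact LinearMap.congr_fun ((LinearMap.toMatrix b b).injective (congrArg Units.val hxy)) u
  have h1 := Subgroup.card_subgroup_dvd_card ρ.toHomUnits.range
  rw [Matrix.card_GL_field, ← Nat.card_congr (MonoidHom.ofInjective hinj).toEquiv, ZMod.card] at h1
  exact h1

theorem Weights.false_of_transitive_small (W : Weights E V) (hE : ¬ 3 ∣ Nat.card E)
    (hn : finrank (ZMod 3) V = 4) {v : V} (hv : v ≠ 0) (ht : ∀ u : V, u ≠ 0 → u ∈ orbit E v)
    (hl0 : W.l 0 ≤ 2) (hlv : W.l v = 1) : False := by
  classical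
  haveI := Fintype.ofFinite E
  haveI : Finite V := Module.finite_of_finite (ZMod 3)
  haveI := Fintype.ofFinite V
  have hq : IsPPD 5 3 (finrank (ZMod 3) V) := hn.symm ▸ isPPD_five
  have htop : ∀ q : ℕ, q.Prime → q ∣ Nat.card E → NoQQ (stabilizer E (0 : V)) q →
      ∃ x : E, orderOf x = q ∧ GoodIn (stabilizer E (0 : V)) x := fun q hq hd hN =>
    Weights.good_of_dvd hq hN (by rwa [stabilizer_zero, Subgroup.card_top])
  have hbot : ∀ {q m : ℕ}, IsPPD q 3 m → 4 < 2 * m → NoQQ (stabilizer E (0 : V)) q := fun hq h =>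
    noQQ_of_lt hq (by omega) _ (⊥ : Submodule (ZMod 3) V)
      (fun s _ u hu => by rw [(Submodule.mem_bot (ZMod 3)).1 hu, smul_zero])
      (by rw [finrank_bot, hn]; omega)
  have hcard : 80 * Nat.card (stabilizer E v) = Nat.card E := by
    have := card_eq_of_transitive (p := 3) hv ht
    rwa [hn] at this
  have h5 : 5 ∣ Nat.card E := hcard ▸ Dvd.dvd.mul_right (by norm_num) _
  have hN5 := hbot isPPD_five (by norm_num)
  obtain ⟨g, hg, hggood⟩ := htop 5 (by norm_num) h5 hN5
  have hclass : ∀ y : E, GoodIn (stabilizer E (0 : V)) y → y ≠ 1 → IsConj g y := by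
    intro y hy hy1
    by_contra hne
    have := W.three_le_of_good hggood hy (fun h => by rw [h, orderOf_one] at hg; omega) hy1
      (fun c _ hc => hne (isConj_iff.2 ⟨c, hc⟩))
    omega
  -- the primes
  have hprimes : ∀ t : ℕ, t.Prime → t ∣ Nat.card E → t = 2 ∨ t = 5 := by
    intro t htp htd
    obtain ⟨x, -, hx⟩ := exists_orderOf_prime (S := (⊤ : Subgroup E)) htp (by rwa [Subgroup.card_top])
    have ht3 : t ≠ 3 := fun h => hE (h ▸ htd)
    have hxt : x ^ t = 1 := hx ▸ pow_orderOf_eq_one x
    have hd := dvd_pow_finrank_mvd (p := 3) htp hxt ht3 (mvd (p := 3) (V := V) x)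
      (fun u hu => smul_mem_mvd (Commute.refl x) hu)
      (fun u hu hf => eq_zero_of_mem_mvd_fixd hxt (not_dvd_of_ne (p := 3) htp ht3) hu hf)
    have hi1 : 1 ≤ finrank (ZMod 3) (mvd (p := 3) (V := V) x) := by
      rcases Nat.eq_zero_or_pos (finrank (ZMod 3) (mvd (p := 3) (V := V) x)) with e | e
      · exact absurd (Submodule.finrank_eq_zero.1 e)
          (mvd_ne_bot fun h => htp.ne_one (by rw [← hx, h, orderOf_one]))
      · exact e
    have hi4 := (Submodule.finrank_le (mvd (p := 3) (V := V) x)).trans hn.le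
    have h2 : t = 2 ∨ t = 5 ∨ t = 13 := by
      have key : t ∣ 2 * 5 * 13 := by
        generalize finrank (ZMod 3) (mvd (p := 3) (V := V) x) = i at hd hi1 hi4
        interval_cases i <;> norm_num at hd ⊢
        · exact hd.trans (by norm_num)
        · have : t ∣ 2 ^ 3 := by norm_num; exact hd
          exact (htp.dvd_of_dvd_pow this).trans (by norm_num)
        · exact hd.trans (by norm_num)
        · rw [show 80 = 5 * 2 ^ 4 by norm_num, htp.dvd_mul] at hd
          rcases hd with hd | hd
          · exact hd.trans (by norm_num)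
          · exact (htp.dvd_of_dvd_pow hd).trans (by norm_num)
      rcases htp.dvd_mul.1 key with hd' | hd'
      · rcases htp.dvd_mul.1 hd' with hd'' | hd''
        · exact Or.inl ((Nat.prime_dvd_prime_iff_eq htp Nat.prime_two).1 hd'')
        · exact Or.inr (Or.inl ((Nat.prime_dvd_prime_iff_eq htp (by norm_num)).1 hd''))
      · exact Or.inr (Or.inr ((Nat.prime_dvd_prime_iff_eq htp (by norm_num)).1 hd'))
    rcases h2 with h | h | rfl
    · exact Or.inl h
    · exact Or.inr h
    · obtain ⟨y, hy, hygood⟩ := htop 13 htp htd (hbot isPPD_thirteen (by norm_num))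
      have := W.three_le_of_good' hggood hygood (by omega) (by omega) (by omega)
      omega
  have hS5 : ¬ 5 ∣ Nat.card (stabilizer E v) := fun h => by
    obtain ⟨c, hc, hco⟩ := exists_orderOf_prime (by norm_num : Nat.Prime 5) h
    exact smul_ne_of_ppd (p := 3) (by omega) hq hco hv (mem_stabilizer_iff.1 hc)
  -- two-parts
  obtain ⟨k, hk⟩ : ∃ k, Nat.card (stabilizer E v) = 2 ^ k := by
    refine ⟨_, Nat.eq_prime_pow_of_unique_prime_dvd Nat.card_pos.ne' fun {d} hd hdd => ?_⟩
    rcases hprimes d hd (hdd.trans (Subgroup.card_subgroup_dvd_card _)) with h | h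
    · exact h
    · exact absurd (h ▸ hdd) hS5
  have hcardE : Nat.card E = 5 * 2 ^ (k + 4) := by rw [← hcard, hk, pow_add]; ring
  have hk5 : k ≤ 5 := by
    have h1 := card_dvd_GL (E := E) (p := 3) (V := V)
    rw [hn, hcardE] at h1
    simp only [Fin.prod_univ_four, Fin.val_zero, Fin.val_one, Fin.val_two] at h1
    norm_num at h1
    by_contra hk
    have h2 : 2 ^ 10 ∣ 24261120 := ((pow_dvd_pow 2 (by omega)).trans (Dvd.intro_left 5 rfl)).trans h1
    norm_num at h2
  -- the centraliser of `g`
  have hfree : ∀ c : E, Commute c g → ∀ w : V, c • w = w → w ≠ 0 → c = 1 := fun c hc w hcw hw =>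
    eq_of_commute_smul_eq hq hg hc (Commute.one_left g) hw (by rw [hcw, one_smul])
  have hN2C : NoQQ (Subgroup.centralizer {g}) 2 :=
    noQQ_of_free (p := 3) Nat.prime_two (by norm_num) ⟨v, hv⟩ _ fun c hc hco w hcw => by
      by_contra hw
      have := hfree c (Subgroup.mem_centralizer_singleton_iff.1 hc) w hcw hw
      rw [this, orderOf_one] at hco
      omega
  have hmemC : ∀ {c : E}, Commute c g → c ∈ Subgroup.centralizer {g} := fun hc =>
    Subgroup.mem_centralizer_singleton_iff.2 hc.eq
  have hnoinv : ∀ z : E, Commute z g → orderOf z ≠ 2 := by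
    intro z hzg hz
    have hz2 : z ^ 2 = 1 := hz ▸ pow_orderOf_eq_one z
    have hg5 : g ^ 5 = 1 := hg ▸ pow_orderOf_eq_one g
    set x := g * z with hxdef
    have hx6 : x ^ 6 = g := by
      rw [hxdef, hzg.symm.mul_pow, show z ^ 6 = (z ^ 2) ^ 3 by rw [← pow_mul], hz2, one_pow,
        mul_one, show g ^ 6 = g ^ 5 * g from pow_succ g 5, hg5, one_mul]
    have hxo : orderOf x = 10 := by
      rw [hxdef, hzg.symm.orderOf_mul_eq_mul_orderOf_of_coprime (by rw [hg, hz]; norm_num), hg, hz]
    have hgood : GoodIn (stabilizer E (0 : V)) x := by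
      refine ⟨smul_zero x, fun h _ hxh => ?_⟩
      have hhg : Commute h g := hx6 ▸ (hxh.symm.pow_right 6)
      have hhz : Commute h z := by
        have hz' : z = g⁻¹ * x := by rw [hxdef, inv_mul_cancel_left]
        rw [hz']
        exact hhg.inv_right.mul_right hxh.symm
      obtain ⟨a, r, hr, har⟩ := Nat.exists_eq_pow_mul_and_not_dvd (orderOf_pos h).ne' 2 (by omega)
      have hr5 : r ∣ 5 := by
        have h1 : r ∣ 5 * 2 ^ (k + 4) :=
          hcardE ▸ (Dvd.intro_left _ har.symm).trans (orderOf_dvd_natCard h)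
        exact (Nat.Coprime.pow_right _ ((Nat.prime_two.coprime_iff_not_dvd.2 hr).symm)).dvd_of_dvd_mul_right h1
      obtain ⟨u, w, huw⟩ : ∃ u w : ℤ, u * (2 ^ a : ℕ) + w * 5 = 1 := by
        have hco : IsCoprime ((2 ^ a : ℕ) : ℤ) ((5 : ℕ) : ℤ) :=
          (Nat.Coprime.pow_left a (by norm_num)).cast
        obtain ⟨u, w, h1⟩ := hco
        exact ⟨u, w, h1⟩
      have hdec : h = (h ^ (2 ^ a)) ^ u * (h ^ 5) ^ w := by
        conv_lhs => rw [← zpow_one h, ← huw, zpow_add, mul_comm u, mul_comm w, zpow_mul, zpow_mul,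
          zpow_natCast, show ((5 : ℤ)) = ((5 : ℕ) : ℤ) from rfl, zpow_natCast]
      have hmem0 : ∀ y : E, y ∈ stabilizer E (0 : V) := fun y => smul_zero y
      rw [hdec]
      refine mul_mem (Subgroup.zpow_mem _ ?_ u) (Subgroup.zpow_mem _ ?_ w) <;>
        refine Subgroup.subset_closure ⟨hmem0 _, ?_⟩
      · have h5' : (h ^ 2 ^ a) ^ 5 ^ 1 = 1 := by
          rw [← pow_mul, pow_one, orderOf_dvd_iff_pow_eq_one.1]
          rw [har]
          exact mul_dvd_mul_left _ hr5
        have hm := mem_zpowers_of_noQQ (by norm_num) hN5 (hmem0 g) (k := 1) (by rw [hg, pow_one]) 1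
          (h ^ 2 ^ a) (hmem0 _) (hhg.symm.pow_right _) h5' le_rfl
        exact ⟨x, hmem0 x, 1, (hxh.symm.pow_left _), (pow_one x).symm,
          Or.inl (Subgroup.zpowers_le.2 (hx6 ▸ Subgroup.npow_mem_zpowers x 6) hm)⟩
      · set k₂ := h ^ 5 with hk₂
        have hk2 : k₂ ^ 2 ^ a = 1 := by
          rw [← pow_mul]
          refine orderOf_dvd_iff_pow_eq_one.1 ?_
          rw [har, mul_comm]
          exact mul_dvd_mul_right hr5 _
        obtain ⟨b, -, hb⟩ := (Nat.dvd_prime_pow Nat.prime_two).1 (orderOf_dvd_of_pow_eq_one hk2)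
        rcases Nat.eq_zero_or_pos b with rfl | hb0
        · rw [pow_zero, orderOf_eq_one_iff] at hb
          rw [hb]
          exact ⟨x, hmem0 x, 1, Commute.one_left x, (pow_one x).symm, Or.inl (one_mem _)⟩
        set i := 2 ^ (b - 1) with hi
        have hki : orderOf (k₂ ^ i) = 2 := by
          rw [orderOf_pow_of_dvd (pow_ne_zero _ two_ne_zero) (hb ▸ pow_dvd_pow 2 (Nat.sub_le b 1)),
            hb, Nat.pow_div (Nat.sub_le b 1) two_pos, show b - (b - 1) = 1 by omega, pow_one]
        have hzi : k₂ ^ i = z := by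
          obtain ⟨j, hj⟩ := Subgroup.mem_zpowers_iff.1 (hN2C z (hmemC hzg) (k₂ ^ i)
            (hmemC ((hhg.pow_left 5).pow_left i)) hz hki ((hhz.symm.pow_right 5).pow_right i))
          rcases Int.even_or_odd j with ⟨c, rfl⟩ | ⟨c, rfl⟩
          · rw [← two_mul, zpow_mul, zpow_two, ← sq, hz2, one_zpow] at hj
            rw [← hj, orderOf_one] at hki
            omega
          · rw [zpow_add, zpow_mul, zpow_two, ← sq, hz2, one_zpow, one_mul, zpow_one] at hj
            exact hj.symm
        obtain ⟨s, hs⟩ : ∃ s : ℕ, g ^ (s * i) = g := by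
          obtain ⟨s, hs⟩ := exists_pow_eq_self_of_coprime (x := g) (n := i)
            (by rw [hg]; exact Nat.Coprime.pow_left _ (by norm_num))
          exact ⟨s, by rw [mul_comm, pow_mul]; exact hs⟩
        have hgk : Commute (g ^ s) k₂ := ((hhg.symm.pow_right 5).pow_left s)
        have hky : k₂ ∈ Subgroup.zpowers (g ^ s * k₂) := by
          obtain ⟨c, hc⟩ := exists_pow_eq_self_of_coprime (x := k₂) (n := 5)
            (by rw [hb]; exact Nat.Coprime.pow_right _ (by norm_num))
          have e : (g ^ s * k₂) ^ 5 = k₂ ^ 5 := by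
            rw [hgk.mul_pow, ← pow_mul, mul_comm, pow_mul, hg5, one_pow, one_mul]
          exact ⟨((5 * c : ℕ) : ℤ), by
            show (g ^ s * k₂) ^ ((5 * c : ℕ) : ℤ) = k₂
            rw [zpow_natCast, pow_mul, e]; exact hc⟩
        exact ⟨g ^ s * k₂, hmem0 _, i, hgk.symm.mul_right (Commute.refl k₂),
          by rw [hgk.mul_pow, ← pow_mul, hs, hzi], Or.inl hky⟩
    have := W.three_le_of_good' hggood hgood (by omega) (by omega) (by omega)
    omega
  have hCg : ∀ c : E, Commute c g → c ∈ Subgroup.zpowers g := by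
    intro c hc
    have hodd : ¬ 2 ∣ orderOf c := fun h => by
      obtain ⟨d, hd⟩ := h
      refine hnoinv (c ^ d) (hc.pow_left d) ?_
      rw [orderOf_pow_of_dvd (fun e => (orderOf_pos c).ne' (by rw [hd, e, mul_zero]))
        ⟨2, by rw [hd, mul_comm]⟩, hd, Nat.mul_div_cancel _ (by
          have := orderOf_pos c; omega)]
    have h5 : orderOf c ∣ 5 := (Nat.Coprime.pow_right _
      (Nat.prime_two.coprime_iff_not_dvd.2 hodd).symm).dvd_of_dvd_mul_right
        (hcardE ▸ orderOf_dvd_natCard c)
    rcases (Nat.dvd_prime (by norm_num)).1 h5 with h | h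
    · rw [orderOf_eq_one_iff.1 h]; exact one_mem _
    · exact hN5 g (smul_zero g) c (smul_zero c) hg h hc.symm
  have hgC : Nat.card (Subgroup.centralizer ({g} : Set E)) = 5 := by
    rw [show Subgroup.centralizer ({g} : Set E) = Subgroup.zpowers g from
      le_antisymm (fun c hc => hCg c (Subgroup.mem_centralizer_singleton_iff.1 hc))
        (Subgroup.zpowers_le.2 (Subgroup.mem_centralizer_singleton_iff.2 rfl)), Nat.card_zpowers, hg]
  haveI : Fact (Nat.Prime 5) := ⟨by norm_num⟩
  have hact : IsPGroup 5 (Subgroup.zpowers g) :=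
    IsPGroup.of_card (n := 1) (by rw [Nat.card_zpowers, hg, pow_one])
  -- the elements of order five
  have hk2' : k = 2 := by
    let X := {x : E // orderOf x = 5}
    letI : MulAction (Subgroup.zpowers g) X :=
      { smul := fun c x => ⟨(c : E) * x.1 * (c : E)⁻¹, 
          ((MulAut.conj (c : E)).orderOf_eq x.1).trans x.2⟩
        one_smul := fun x => Subtype.ext (by show (1 : E) * x.1 * (1 : E)⁻¹ = x.1; simp)
        mul_smul := fun a b x => Subtype.ext (by
          show ((a * b : Subgroup.zpowers g) : E) * x.1 * ((a * b : Subgroup.zpowers g) : E)⁻¹ =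
            (a : E) * ((b : E) * x.1 * (b : E)⁻¹) * (a : E)⁻¹
          push_cast; group) }
    have hX : Nat.card X * 5 = Nat.card E := by
      have hset : {x : E | orderOf x = 5} = {x : E | IsConj g x} := by
        ext x
        refine ⟨fun hx => hclass x ?_ (fun h => by rw [h] at hx; simp at hx), fun hx => ?_⟩
        · exact goodIn_of_noQQ (q := 5) (by norm_num) (smul_zero x) (j := 1) (by rw [pow_one]; exact hx)
            (hN5.mono inf_le_left)
        · obtain ⟨c, hc⟩ := isConj_iff.1 hx
          show orderOf x = 5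
          rw [← hc, ← hg]
          exact (MulAut.conj c).orderOf_eq g
      have h1 : Nat.card X = (orbit (ConjAct E) g).ncard := by
        rw [← Nat.card_coe_set_eq]
        refine Nat.card_congr (Equiv.setCongr ?_)
        show {x : E | orderOf x = 5} = _
        rw [hset, ConjAct.orbit_eq_carrier_conjClasses]
        ext x
        rw [ConjClasses.mem_carrier_iff_mk_eq, ConjClasses.mk_eq_mk_iff_isConj]
        exact ⟨IsConj.symm, IsConj.symm⟩
      have h2 : (orbit (ConjAct E) g).ncard * Nat.card (Subgroup.centralizer ({g} : Set E)) =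
          Nat.card E := by
        rw [← index_stabilizer, mul_comm,
          show Nat.card E = Nat.card (ConjAct E) from Nat.card_congr ConjAct.toConjAct.toEquiv,
          ← (stabilizer (ConjAct E) g).card_mul_index]
        congr 1
        rw [ConjAct.stabilizer_eq_centralizer]
        exact (Nat.card_congr (Equiv.subtypeEquiv ConjAct.toConjAct.toEquiv fun c => by
          show _ ↔ ConjAct.toConjAct c ∈ _
          simp only [Subgroup.mem_centralizer_singleton_iff]
          constructor
          · intro h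
            rw [← map_mul, ← map_mul, h]
          · intro h
            exact ConjAct.toConjAct.injective (by rw [map_mul, map_mul, h])))
      rw [hgC] at h2
      rw [h1, h2]
    have h1 := hact.card_modEq_card_fixedPoints X
    have hfix : Nat.card (fixedPoints (Subgroup.zpowers g) X) = 4 := by
      have hgo : g ≠ 1 := fun h => by rw [h, orderOf_one] at hg; omega
      let f : {x : Subgroup.zpowers g // x ≠ 1} → fixedPoints (Subgroup.zpowers g) X := fun x =>
        ⟨⟨(x.1 : E), by
          have := orderOf_dvd_natCard x.1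
          rw [Nat.card_zpowers, hg] at this
          rcases (Nat.dvd_prime (by norm_num)).1 this with h | h
          · exact absurd (orderOf_eq_one_iff.1 h) x.2
          · rw [← h, Subgroup.orderOf_coe]⟩, fun c => Subtype.ext (by
          show (c : E) * (x.1 : E) * (c : E)⁻¹ = x.1
          obtain ⟨i, hi⟩ := Subgroup.mem_zpowers_iff.1 c.2
          obtain ⟨j, hj⟩ := Subgroup.mem_zpowers_iff.1 x.1.2
          rw [← hi, ← hj, (Commute.zpow_zpow_self g i j).mul_inv_cancel])⟩
      have hf : Function.Bijective f := by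
        refine ⟨fun a b hab => Subtype.ext (Subtype.ext
          (congrArg (fun z : fixedPoints (Subgroup.zpowers g) X => z.1.1) hab)), fun z => ?_⟩
        have hz := congrArg Subtype.val (z.2 ⟨g, Subgroup.mem_zpowers g⟩)
        change g * z.1.1 * g⁻¹ = z.1.1 at hz
        have hzc : Commute z.1.1 g := (mul_inv_eq_iff_eq_mul.1 hz).symm
        refine ⟨⟨⟨z.1.1, hCg _ hzc⟩, fun h => ?_⟩, rfl⟩
        have h' : z.1.1 = 1 := congrArg Subtype.val h
        have := z.1.2
        rw [h', orderOf_one] at this
        omega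
      rw [← Nat.card_eq_of_bijective f hf, Nat.card_eq_fintype_card, Fintype.card_subtype_compl,
        Fintype.card_subtype_eq, ← Nat.card_eq_fintype_card, Nat.card_zpowers, hg]
    rw [hfix] at h1
    have h3 : Nat.card X = 2 ^ (k + 4) := by omega
    rw [h3, Nat.ModEq] at h1
    interval_cases k <;> first | rfl | (exfalso; revert h1; norm_num; done)
  subst hk2'
  -- a normal subgroup of order sixteen
  obtain ⟨P⟩ : Nonempty (Sylow 2 E) := inferInstance
  haveI : Fact (Nat.Prime 2) := ⟨Nat.prime_two⟩
  have hP : Nat.card P = 64 := by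
    rw [P.card_eq_multiplicity, hcardE, Nat.factorization_mul (by norm_num) (by norm_num),
      Finsupp.add_apply, Nat.factorization_eq_zero_of_not_dvd (by norm_num),
      Nat.prime_two.factorization_pow, Finsupp.single_eq_same]
    norm_num
  have hPi : (P : Subgroup E).index = 5 := by
    have h1 : Nat.card P * (P : Subgroup E).index = Nat.card E := (P : Subgroup E).card_mul_index
    rw [hP, hcardE] at h1
    omega
  set M := (P : Subgroup E).normalCore with hMdef
  have hconjM : ∀ {a : E}, a ∈ M → ∀ c : E, c * a * c⁻¹ ∈ M :=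
    fun {a} ha c => (Subgroup.normalCore_normal (P : Subgroup E)).conj_mem a ha c
  have hMdvd : M.index ∣ 120 := by
    rw [hMdef, Subgroup.normalCore_eq_ker, Subgroup.index_ker]
    refine (Subgroup.card_subgroup_dvd_card _).trans ?_
    rw [Nat.card_perm, ← Subgroup.index, hPi]
    rfl
  have hMP : Nat.card M ∣ 64 := hP ▸ Subgroup.card_dvd_of_le (Subgroup.normalCore_le _)
  have hMi := M.card_mul_index
  rw [hcardE] at hMi
  have hgfree : ∀ a ∈ M, g * a * g⁻¹ = a → a = 1 := by
    intro a ha h
    have hag := hCg a (mul_inv_eq_iff_eq_mul.1 h).symm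
    have h1 : orderOf a ∣ 5 := by
      have := Subgroup.orderOf_dvd_natCard _ hag
      rwa [Nat.card_zpowers, hg] at this
    have h2 : orderOf a ∣ 64 := (Subgroup.orderOf_dvd_natCard _ ha).trans hMP
    exact orderOf_eq_one_iff.1 (Nat.eq_one_of_dvd_coprimes (by norm_num) h1 h2)
  have hmod : ∀ U : Subgroup E, U ≤ M → (∀ a ∈ U, g * a * g⁻¹ ∈ U) → Nat.card U ≡ 1 [MOD 5] := by
    intro U hUM hU
    haveI := Fintype.ofFinite U
    let σ : Function.End U := fun u => ⟨g * (u : E) * g⁻¹, hU u u.2⟩
    have hσpow : ∀ (i : ℕ) (u : U), ((σ ^ i) u : E) = g ^ i * (u : E) * (g ^ i)⁻¹ := by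
      intro i u
      induction i with
      | zero =>
        show (u : E) = _
        simp
      | succ i ih =>
        rw [pow_succ']
        show g * ((σ ^ i) u : E) * g⁻¹ = _
        rw [ih, pow_succ']
        group
    have hσ : σ ^ (5 ^ 1) = 1 := funext fun u => Subtype.ext (by
      rw [hσpow, pow_one, ← hg, pow_orderOf_eq_one]
      show (1 : E) * (u : E) * 1⁻¹ = u
      simp)
    have h1 := Equiv.Perm.card_fixedPoints_modEq (f := σ) (p := 5) (n := 1) hσ
    have h2 : Fintype.card σ.fixedPoints = 1 := by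
      rw [Fintype.card_eq_one_iff]
      refine ⟨⟨1, Subtype.ext (by show g * (1 : E) * g⁻¹ = 1; group)⟩,
        fun u => Subtype.ext (Subtype.ext ?_)⟩
      exact hgfree _ (hUM u.1.2) (congrArg Subtype.val u.2)
    rw [h2, ← Nat.card_eq_fintype_card] at h1
    exact h1
  have hM16 : Nat.card M = 16 := by
    have h1 := hmod M le_rfl fun a ha => hconjM ha g
    rw [show (64 : ℕ) = 2 ^ 6 by norm_num] at hMP
    obtain ⟨i, hi, hMc⟩ := (Nat.dvd_prime_pow Nat.prime_two).1 hMP
    rw [hMc, Nat.ModEq] at h1
    rw [hMc] at hMi ⊢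
    interval_cases i <;> first | rfl | (exfalso; revert h1; norm_num; done) | skip
    · norm_num at hMi
      rw [hMi] at hMdvd
      norm_num at hMdvd
  have hM2 : IsPGroup 2 M := IsPGroup.of_card (n := 4) (by rw [hM16]; norm_num)
  haveI : Nontrivial M := Finite.one_lt_card_iff_nontrivial.1 (by omega)
  have hdiv16 : ∀ U : Subgroup E, U ≤ M → (∀ a ∈ U, g * a * g⁻¹ ∈ U) → U ≠ ⊥ → U = M := by
    intro U hUM hU hne
    refine Subgroup.eq_of_le_of_card_ge hUM ?_
    have h1 := hmod U hUM hU
    have h2 := Subgroup.card_dvd_of_le hUM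
    rw [hM16, show (16 : ℕ) = 2 ^ 4 by norm_num] at h2
    obtain ⟨i, hi, hUc⟩ := (Nat.dvd_prime_pow Nat.prime_two).1 h2
    rw [hUc, Nat.ModEq] at h1
    rw [hM16, hUc]
    interval_cases i <;> first | rfl | (exfalso; revert h1; norm_num; done) | skip
    · exact absurd (Subgroup.eq_bot_of_card_eq _ (by rw [hUc]; norm_num)) hne
  have hab : ∀ a ∈ M, ∀ b ∈ M, a * b = b * a := by
    have hZ : (Subgroup.center M).map M.subtype = M := by
      refine hdiv16 _ (Subgroup.map_subtype_le _) ?_ ?_
      · rintro _ ⟨c, hc, rfl⟩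
        have hcm : g * (c : E) * g⁻¹ ∈ M := hconjM c.2 g
        refine ⟨⟨_, hcm⟩, Subgroup.mem_center_iff.2 fun d => Subtype.ext ?_, rfl⟩
        have hd' : g⁻¹ * (d : E) * g ∈ M := by simpa using hconjM d.2 g⁻¹
        have h1 := congrArg Subtype.val (Subgroup.mem_center_iff.1 hc ⟨_, hd'⟩)
        change (g⁻¹ * (d : E) * g) * (c : E) = (c : E) * (g⁻¹ * (d : E) * g) at h1
        show (d : E) * (g * (c : E) * g⁻¹) = g * (c : E) * g⁻¹ * (d : E)
        calc (d : E) * (g * (c : E) * g⁻¹) = g * ((g⁻¹ * (d : E) * g) * (c : E)) * g⁻¹ := by group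
          _ = g * ((c : E) * (g⁻¹ * (d : E) * g)) * g⁻¹ := by rw [h1]
          _ = _ := by group
      · haveI := hM2.center_nontrivial
        exact fun h => (Subgroup.nontrivial_iff_ne_bot _).1 inferInstance
          ((Subgroup.map_eq_bot_iff_of_injective _ M.subtype_injective).1 h)
    intro a ha b hb
    obtain ⟨c, hc, rfl⟩ := hZ.symm ▸ ha
    exact (congrArg Subtype.val (Subgroup.mem_center_iff.1 hc ⟨b, hb⟩)).symm
  have hsq : ∀ a ∈ M, a ^ 2 = 1 := by
    let sq' : M →* M :=
      { toFun := fun a => a ^ 2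
        map_one' := one_pow 2
        map_mul' := fun a b => (show Commute a b from Subtype.ext (hab a a.2 b b.2)).mul_pow 2 }
    by_cases hbot : (sq'.range).map M.subtype = ⊥
    · intro a ha
      have : (sq' ⟨a, ha⟩ : E) ∈ (sq'.range).map M.subtype := ⟨_, ⟨_, rfl⟩, rfl⟩
      rw [hbot, Subgroup.mem_bot] at this
      exact this
    · exfalso
      have h1 := hdiv16 _ (Subgroup.map_subtype_le _) (by
        rintro _ ⟨_, ⟨c, rfl⟩, rfl⟩
        refine ⟨_, ⟨⟨g * (c : E) * g⁻¹, hconjM c.2 g⟩, rfl⟩, ?_⟩
        show (g * (c : E) * g⁻¹) ^ 2 = g * (c : E) ^ 2 * g⁻¹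
        rw [sq, sq]; group) hbot
      have hsurj : Function.Surjective sq' := fun y => by
        obtain ⟨z, ⟨w, hw⟩, hzy⟩ : (y : E) ∈ (sq'.range).map M.subtype := h1.symm ▸ y.2
        exact ⟨w, hw.trans (Subtype.ext hzy)⟩
      have hinj := Finite.injective_iff_surjective.2 hsurj
      obtain ⟨x, hx⟩ := exists_prime_orderOf_dvd_card' 2 (G := M) (by rw [hM16]; norm_num)
      have : x = 1 := hinj (show x ^ 2 = (1 : M) ^ 2 by rw [one_pow, ← hx, pow_orderOf_eq_one])
      rw [this, orderOf_one] at hx
      omega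
  -- fixed points
  let F : E → ℕ := fun a => (Finset.univ.filter fun u : V => u ≠ 0 ∧ a • u = u).card
  set A := Finset.univ.filter (fun a : E => a ∈ M ∧ a ≠ 1) with hA
  have hAcard : A.card = 15 := by
    have h1 : A = (Finset.univ.filter (fun a : E => a ∈ M)).erase 1 := by
      ext a; simp [hA, and_comm]
    rw [h1, Finset.card_erase_of_mem (by simp [M.one_mem]), ← Fintype.card_subtype,
      ← Nat.card_eq_fintype_card, hM16]
  set s := Nat.card (M ⊓ stabilizer E v : Subgroup E) with hsdef
  have hsum : ∑ a ∈ A, F a = 80 * (s - 1) := by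
    simp only [F, Finset.card_filter]
    rw [Finset.sum_comm]
    have hne : (Finset.univ.filter fun u : V => u ≠ 0).card = 80 := by
      have h1 := ncard_ne_zero (p := 3) (V := V)
      rw [hn, Set.ncard_eq_toFinset_card'] at h1
      rw [← show 3 ^ 4 - 1 = 80 by norm_num, ← h1]
      congr 1
      ext u; simp
    rw [← Finset.sum_filter_add_sum_filter_not Finset.univ (fun u : V => u ≠ 0),
      Finset.sum_eq_zero (s := Finset.univ.filter fun u : V => ¬ u ≠ 0) (fun u hu => by
        simp only [Finset.mem_filter, not_not] at hu; simp [hu.2]), add_zero]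
    rw [Finset.sum_congr rfl (g := fun _ => s - 1), Finset.sum_const, hne, smul_eq_mul]
    intro u hu
    simp only [Finset.mem_filter] at hu
    rw [← Finset.card_filter]
    obtain ⟨c, rfl⟩ := ht u hu.2
    have h1 : (A.filter fun a => c • v ≠ 0 ∧ a • c • v = c • v) =
        ((Finset.univ.filter (fun a : E => a ∈ M ⊓ stabilizer E v)).erase 1).map
          (MulAut.conj c).toEquiv.toEmbedding := by
      ext a
      simp only [hA, Finset.mem_filter, Finset.mem_univ, true_and, Finset.mem_map, Finset.mem_erase,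
        Subgroup.mem_inf, mem_stabilizer_iff, MulEquiv.toEquiv_eq_coe, Equiv.coe_toEmbedding,
        EquivLike.coe_coe, MulAut.conj_apply]
      constructor
      · rintro ⟨⟨haM, ha1⟩, -, hau⟩
        refine ⟨c⁻¹ * a * c, ⟨fun h => ha1 ?_, ?_, ?_⟩, by group⟩
        · calc a = c * (c⁻¹ * a * c) * c⁻¹ := by group
            _ = 1 := by rw [h]; group
        · simpa using hconjM haM c⁻¹
        · rw [mul_smul, mul_smul, hau, inv_smul_smul]
      · rintro ⟨b, ⟨hb1, hbM, hbv⟩, rfl⟩
        refine ⟨⟨hconjM hbM c, fun h => hb1 ?_⟩, hu.2, ?_⟩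
        · calc b = c⁻¹ * (c * b * c⁻¹) * c := by group
            _ = 1 := by rw [h]; group
        · rw [mul_smul, mul_smul, inv_smul_smul, hbv]
    rw [h1, Finset.card_map, Finset.card_erase_of_mem (by simp [(M ⊓ stabilizer E v).one_mem]),
      ← Fintype.card_subtype, ← Nat.card_eq_fintype_card]
  have hs4 : s ∣ 4 := by
    have := Subgroup.card_dvd_of_le (inf_le_right : M ⊓ stabilizer E v ≤ stabilizer E v)
    rw [hk] at this
    simpa [hsdef] using this
  have hsne : s ≠ 1 := by
    intro h
    have hN : NoQQ M 2 := noQQ_of_free (p := 3) Nat.prime_two (by norm_num) ⟨v, hv⟩ _ fun c hc hco w hcw => by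
      by_contra hw
      obtain ⟨d, rfl⟩ := ht w hw
      have hmem : d⁻¹ * c * d ∈ M ⊓ stabilizer E v := by
        refine ⟨by simpa using hconjM hc d⁻¹, ?_⟩
        show (d⁻¹ * c * d) • v = v
        rw [mul_smul, mul_smul]
        exact inv_smul_eq_iff.2 hcw
      rw [Subgroup.eq_bot_of_card_eq _ h, Subgroup.mem_bot] at hmem
      have : c = 1 := by
        calc c = d * (d⁻¹ * c * d) * d⁻¹ := by group
          _ = 1 := by rw [hmem]; group
      rw [this, orderOf_one] at hco
      omega
    obtain ⟨a, ha, hao⟩ := exists_orderOf_prime Nat.prime_two (S := M) (by rw [hM16]; norm_num)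
    have hle : M ≤ Subgroup.zpowers a := fun b hb => by
      rcases eq_or_ne b 1 with rfl | hb1
      · exact one_mem _
      · exact hN a ha b hb hao (orderOf_eq_prime (hsq b hb) hb1) (hab a ha b hb)
    have := Subgroup.card_le_of_le hle
    rw [hM16, Nat.card_zpowers, hao] at this
    omega
  -- the values of the fixed point counts
  have hval : ∀ a ∈ A, F a = 2 ∨ F a = 8 ∨ F a = 26 := by
    intro a ha
    simp only [hA, Finset.mem_filter, Finset.mem_univ, true_and] at ha
    have hFa : F a = 3 ^ finrank (ZMod 3) (fixd (p := 3) (V := V) a) - 1 := by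
      rw [← ncard_ne_zero (p := 3) (V := fixd (p := 3) (V := V) a), Set.ncard_eq_toFinset_card']
      symm
      refine Finset.card_bij (fun u _ => (u : V)) ?_ ?_ ?_
      · intro u hu
        simp only [Set.toFinset_ofPred, Finset.mem_filter, Finset.mem_univ, true_and] at hu ⊢
        exact ⟨fun h => hu (Subtype.ext h), mem_fixd.1 u.2⟩
      · intro u _ w _ h; exact Subtype.ext h
      · intro u hu
        simp only [Finset.mem_filter, Finset.mem_univ, true_and] at hu
        exact ⟨⟨u, mem_fixd.2 hu.2⟩, by simp [hu.1], rfl⟩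
    have hlt : finrank (ZMod 3) (fixd (p := 3) (V := V) a) < 4 := by
      have h1 := finrank_mvd_add (p := 3) (V := V) a
      have h2 : finrank (ZMod 3) (mvd (p := 3) (V := V) a) ≠ 0 := fun e =>
        mvd_ne_bot ha.2 (Submodule.finrank_eq_zero.1 e)
      omega
    have hpos : finrank (ZMod 3) (fixd (p := 3) (V := V) a) ≠ 0 := by
      intro e
      have hbot := Submodule.finrank_eq_zero.1 e
      have hneg : ∀ u : V, a • u = -u := fun u => by
        have h1 : a • u + u ∈ fixd (p := 3) a := mem_fixd.2 (by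
          rw [smul_add, ← mul_smul, ← sq, hsq a ha.1, one_smul, add_comm])
        rw [hbot, Submodule.mem_bot] at h1
        exact eq_neg_of_add_eq_zero_left h1
      refine ha.2 (hgfree a ha.1 (eq_of_smul_eq_smul fun u : V => ?_))
      rw [mul_smul, mul_smul, hneg, smul_neg, smul_inv_smul, hneg]
    rw [hFa]
    interval_cases hf : finrank (ZMod 3) (fixd (p := 3) (V := V) a) <;> norm_num
    exact hpos rfl
  have h5dvd : ∀ c : ℕ, 5 ∣ (A.filter fun a => F a = c).card := by
    intro c
    set B := A.filter fun a => F a = c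
    have hB : ∀ a ∈ B, g * a * g⁻¹ ∈ B := by
      intro a ha
      simp only [B, hA, Finset.mem_filter, Finset.mem_univ, true_and] at ha ⊢
      refine ⟨⟨hconjM ha.1.1 g, fun h => ha.1.2 ?_⟩, ?_⟩
      · calc a = g⁻¹ * (g * a * g⁻¹) * g := by group
          _ = 1 := by rw [h]; group
      · rw [← ha.2]
        refine Finset.card_bij' (fun u _ => g⁻¹ • u) (fun u _ => g • u) ?_ ?_ ?_ ?_
        · intro u hu
          simp only [Finset.mem_filter, Finset.mem_univ, true_and] at hu ⊢
          refine ⟨Weights.smul_ne_zero_of_ne hu.1 _, ?_⟩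
          conv_rhs => rw [← hu.2]
          rw [← mul_smul, ← mul_smul]
          congr 1
          group
        · intro u hu
          simp only [Finset.mem_filter, Finset.mem_univ, true_and] at hu ⊢
          refine ⟨Weights.smul_ne_zero_of_ne hu.1 _, ?_⟩
          rw [mul_smul, mul_smul, inv_smul_smul, hu.2]
        · intro u _; exact smul_inv_smul g u
        · intro u _; exact inv_smul_smul g u
    let σ : Function.End B := fun u => ⟨g * (u : E) * g⁻¹, hB u u.2⟩
    have hσpow : ∀ (i : ℕ) (u : B), ((σ ^ i) u : E) = g ^ i * (u : E) * (g ^ i)⁻¹ := by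
      intro i u
      induction i with
      | zero =>
        show (u : E) = _
        simp
      | succ i ih =>
        rw [pow_succ']
        show g * ((σ ^ i) u : E) * g⁻¹ = _
        rw [ih, pow_succ']
        group
    have hσ : σ ^ (5 ^ 1) = 1 := funext fun u => Subtype.ext (by
      rw [hσpow, pow_one, ← hg, pow_orderOf_eq_one]
      show (1 : E) * (u : E) * 1⁻¹ = u
      simp)
    have h1 := Equiv.Perm.card_fixedPoints_modEq (f := σ) (p := 5) (n := 1) hσ
    have h2 : Fintype.card σ.fixedPoints = 0 := by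
      rw [Fintype.card_eq_zero_iff]
      refine ⟨fun u => ?_⟩
      have hu := u.1.2
      simp only [B, hA, Finset.mem_filter, Finset.mem_univ, true_and] at hu
      exact hu.1.2 (hgfree _ hu.1.1 (congrArg Subtype.val u.2))
    rw [h2, Fintype.card_coe] at h1
    exact Nat.modEq_zero_iff_dvd.1 h1
  have hsplit : ∑ a ∈ A, F a = 2 * (A.filter fun a => F a = 2).card +
      8 * (A.filter fun a => F a = 8).card + 26 * (A.filter fun a => F a = 26).card ∧
      A.card = (A.filter fun a => F a = 2).card + (A.filter fun a => F a = 8).card +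
        (A.filter fun a => F a = 26).card := by
    constructor
    · simp only [Finset.card_filter, Finset.mul_sum, ← Finset.sum_add_distrib]
      refine Finset.sum_congr rfl fun a ha => ?_
      rcases hval a ha with h | h | h <;> simp [h]
    · simp only [Finset.card_filter, ← Finset.sum_add_distrib]
      rw [Finset.card_eq_sum_ones]
      refine Finset.sum_congr rfl fun a ha => ?_
      rcases hval a ha with h | h | h <;> simp [h]
  obtain ⟨i2, hi2⟩ := h5dvd 2
  obtain ⟨i8, hi8⟩ := h5dvd 8
  obtain ⟨i26, hi26⟩ := h5dvd 26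
  rw [hi2, hi8, hi26] at hsplit
  have hs' : s = 2 ∨ s = 4 := by
    have : s ≤ 4 := Nat.le_of_dvd (by norm_num) hs4
    interval_cases s <;> omega
  rw [hsum, hAcard] at hsplit
  rcases hs' with h | h <;> rw [h] at hsplit <;> omega

end Cfsg.Agent.H35.ThreeBlock
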