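import Cfsg.Agent.H35.ThreeBlock.SmallTransitive

/-!
# The transitive case in dimension at least three
-/

set_option linter.unusedSectionVars false
set_option linter.style.haveILetI false

namespace Cfsg.Agent.H35.ThreeBlock

open MulAction Module Cfsg.Agent.Arith

variable {p : ℕ} [Fact p.Prime] {E : Type*} [Group E] [Finite E] {V : Type*} [AddCommGroup V]
  [Module (ZMod p) V] [Module.Finite (ZMod p) V] [DistribMulAction E V] [SMulCommClass E (ZMod p) V]
  [FaithfulSMul E V]

/-- A `q`-group without `q × q` has an element of every order dividing its order, for squares. -/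
theorem exists_orderOf_sq {q : ℕ} (hq : q.Prime) (hN : NoQQ (⊤ : Subgroup E) q)
    (h : q ^ 2 ∣ Nat.card E) : ∃ x : E, orderOf x = q ^ 2 := by
  classical
  haveI := Fact.mk hq
  by_contra hno
  push Not at hno
  obtain ⟨P⟩ : Nonempty (Sylow q E) := inferInstance
  have hdvd : q ^ 2 ∣ Nat.card P := P.pow_dvd_card_of_pow_dvd_card h
  haveI : Nontrivial (P : Subgroup E) := Finite.one_lt_card_iff_nontrivial.1
    ((Nat.one_lt_pow two_ne_zero hq.one_lt).trans_le (Nat.le_of_dvd Nat.card_pos hdvd))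
  have hord : ∀ x ∈ (P : Subgroup E), x ≠ 1 → orderOf x = q := by
    intro x hx hx1
    obtain ⟨k, hk⟩ := IsPGroup.iff_orderOf.1 P.2 ⟨x, hx⟩
    rw [Subgroup.orderOf_mk] at hk
    rcases k with _ | _ | k
    · rw [pow_zero, orderOf_eq_one_iff] at hk
      exact absurd hk hx1
    · rw [hk, pow_one]
    · exfalso
      refine hno (x ^ q ^ k) ?_
      rw [orderOf_pow_of_dvd (pow_ne_zero _ hq.ne_zero) (hk ▸ pow_dvd_pow q (by omega)), hk,
        Nat.pow_div (by omega) hq.pos, show k + 1 + 1 - k = 2 by omega]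
  haveI := P.2.center_nontrivial
  obtain ⟨⟨⟨z, hzP⟩, hzc⟩, hz1⟩ := exists_ne (1 : Subgroup.center (P : Subgroup E))
  have hz : z ≠ 1 := fun h => hz1 (Subtype.ext (Subtype.ext h))
  have hle : (P : Subgroup E) ≤ Subgroup.zpowers z := by
    intro b hb
    rcases eq_or_ne b 1 with rfl | hb1
    · exact one_mem _
    · exact hN z trivial b trivial (hord z hzP hz) (hord b hb hb1)
        (congrArg Subtype.val (Subgroup.mem_center_iff.1 hzc ⟨b, hb⟩)).symm
  have := Subgroup.card_le_of_le hle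
  rw [Nat.card_zpowers, hord z hzP hz] at this
  have h2 := Nat.le_of_dvd Nat.card_pos hdvd
  have h3 : q < q ^ 2 := by rw [sq]; exact Nat.lt_mul_self_iff.2 hq.one_lt
  omega

theorem Weights.false_of_transitive (W : Weights E V) (hE : ¬ p ∣ Nat.card E) (hp2 : p ≠ 2)
    (hn : 3 ≤ finrank (ZMod p) V) {v : V} (hv : v ≠ 0) (ht : ∀ u : V, u ≠ 0 → u ∈ orbit E v) :
    False := by
  classical
  haveI := Fintype.ofFinite E
  have hp : p.Prime := Fact.out
  have hp3 : 3 ≤ p := by have := hp.two_le; omega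
  set n := finrank (ZMod p) V with hndef
  have hcard := card_eq_of_transitive (p := p) hv ht
  rw [← hndef] at hcard
  have hdvdE : ∀ {d i : ℕ}, d ∣ p ^ i - 1 → i ∣ n → d ∣ Nat.card E := fun hd hi =>
    (hd.trans (Nat.pow_sub_one_dvd_pow_sub_one p hi)).trans (Dvd.intro _ hcard)
  obtain ⟨q, hq⟩ := exists_isPPD (a := p) (n := n) hp.one_lt (by omega) (by omega) (by omega)
  have hNq : NoQQ (⊤ : Subgroup E) q := noQQ_of_lt (V := V) hq (by omega) _ (⊥ : Submodule (ZMod p) V)
    (fun s _ u hu => by rw [(Submodule.mem_bot (ZMod p)).1 hu, smul_zero])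
    (by rw [finrank_bot, ← hndef]; omega)
  obtain ⟨g, hg, hgood⟩ := Weights.good_of_dvd (E := E) (v := (0 : V)) hq.1
    (by rw [stabilizer_zero]; exact hNq)
    (by rw [stabilizer_zero, Subgroup.card_top]; exact hdvdE hq.2.1 dvd_rfl)
  have hg1 : g ≠ 1 := fun h => hq.1.ne_one (by rw [← hg, h, orderOf_one])
  have h2 := W.two_le_of_good hgood hg1
  have h3 := W.l_zero_add_le hv
  have h1 := W.one_le v
  have hl0 : W.l 0 ≤ 2 := by omega
  have hlv : W.l v = 1 := by omega
  have hclass : ∀ y : E, GoodIn (stabilizer E (0 : V)) y → y ≠ 1 → IsConj g y := by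
    intro y hy hy1
    by_contra hne
    have := W.three_le_of_good hgood hy hg1 hy1 (fun c _ hc => hne (isConj_iff.2 ⟨c, hc⟩))
    omega
  have hgoodT : ∀ {t : ℕ}, t.Prime → NoQQ (⊤ : Subgroup E) t → ∀ (x : E) (j : ℕ),
      orderOf x = t ^ j → GoodIn (stabilizer E (0 : V)) x := fun ht hN x j hx =>
    goodIn_of_noQQ ht (smul_zero x) hx (hN.mono le_top)
  have horder : ∀ y : E, GoodIn (stabilizer E (0 : V)) y → y ≠ 1 → orderOf y = q := by
    intro y hy hy1
    obtain ⟨c, hc⟩ := isConj_iff.1 (hclass y hy hy1)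
    rw [← hc, ← hg]
    exact (MulAut.conj c).orderOf_eq g
  -- the units modulo `q` are powers of `p`
  haveI := Fact.mk hq.1
  have hordp : orderOf (p : ZMod q) = n := ((isPPD_iff hp.one_le (by omega)).1 hq).2
  have hqn : q = n + 1 := by
    have hdvd : n ∣ q - 1 := hordp ▸ ord_dvd_sub_one hq.1 hp.one_le (by omega) hq.2.1
    have hp0 : (p : ZMod q) ≠ 0 := ne_zero_of_dvd_pow_sub_one hq.1 hp.one_le (by omega) hq.2.1
    have hall : ∀ x : (ZMod q)ˣ, x ∈ Subgroup.zpowers (Units.mk0 (p : ZMod q) hp0) := by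
      intro x
      have hj : g ^ (x : ZMod q).val ≠ 1 := fun h => by
        have h1 := Nat.le_of_dvd (Nat.pos_of_ne_zero fun h0 => x.ne_zero ((ZMod.val_eq_zero _).1 h0))
          (hg ▸ orderOf_dvd_of_pow_eq_one h)
        exact absurd (ZMod.val_lt (x : ZMod q)) (not_lt.2 h1)
      have hgj : orderOf (g ^ (x : ZMod q).val) = q :=
        orderOf_eq_prime (by rw [← pow_mul, mul_comm, pow_mul, orderOf_dvd_iff_pow_eq_one.1 (dvd_of_eq hg), one_pow]) hj
      obtain ⟨h, hh⟩ := isConj_iff.1 (hclass _ (hgoodT hq.1 hNq _ 1 (by rw [hgj, pow_one])) hj)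
      obtain ⟨i, hi⟩ := exists_modEq_pow_of_conj hq hg (by omega) hh
      refine ⟨(i : ℤ), Units.ext ?_⟩
      show ((Units.mk0 (p : ZMod q) hp0 ^ (i : ℤ) : (ZMod q)ˣ) : ZMod q) = x
      rw [zpow_natCast, Units.val_pow_eq_pow_val, Units.val_mk0, ← Nat.cast_pow,
        ← (ZMod.natCast_eq_natCast_iff _ _ q).2 hi, ZMod.natCast_zmod_val]
    have hle : Nat.card (ZMod q)ˣ ≤ n := by
      have h := Nat.card_le_card_of_injective
        (fun x : (ZMod q)ˣ => (⟨x, hall x⟩ : Subgroup.zpowers (Units.mk0 (p : ZMod q) hp0)))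
        fun a b hab => congrArg Subtype.val hab
      rwa [Nat.card_zpowers, ← orderOf_units, Units.val_mk0, hordp] at h
    rw [Nat.card_eq_fintype_card, ZMod.card_units] at hle
    have := Nat.le_of_dvd (by have := hq.1.two_le; omega) hdvd
    omega
  obtain ⟨m, hm⟩ : ∃ m, n = 2 * m := by
    rcases hq.1.eq_two_or_odd' with h | ⟨m, hm⟩
    · omega
    · exact ⟨m, by omega⟩
  by_cases hm2 : m = 2
  · -- dimension four
    obtain rfl : q = 5 := by omega
    have hn4 : n = 4 := by omega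
    have hsplit : p ^ 2 + 1 ∣ p ^ n - 1 := ⟨p ^ 2 - 1, by
      rw [← Nat.sq_sub_sq (p ^ 2) 1, hn4]
      ring_nf⟩
    have hsqE : p ^ 2 + 1 ∣ Nat.card E := hdvdE hsplit dvd_rfl
    have hprime : ∀ r : ℕ, r.Prime → r ∣ p ^ 2 + 1 → r ≠ 2 → r = 5 := by
      intro r hr hd hr2
      have hp4 : r ∣ p ^ n - 1 := hd.trans hsplit
      haveI := Fact.mk hr
      have hneg : (p : ZMod r) ^ 2 = -1 := eq_neg_of_add_eq_zero_left (by
        have := (ZMod.natCast_eq_zero_iff _ _).2 hd
        simpa using this)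
      have hrPPD : IsPPD r p n := by
        refine ⟨hr, hp4, fun k hk hk4 hd' => ?_⟩
        have h1 : (p : ZMod r) ^ k = 1 :=
          orderOf_dvd_iff_pow_eq_one.1 ((dvd_pow_sub_one_iff hp.one_le).1 hd')
        have h4 : (p : ZMod r) ^ 4 = 1 := by
          rw [show 4 = 2 * 2 by norm_num, pow_mul, hneg, neg_one_sq]
        have h2' : (p : ZMod r) ^ 2 = 1 := by
          have hk' : k = 1 ∨ k = 2 ∨ k = 3 := by omega
          rcases hk' with rfl | rfl | rfl
          · rw [pow_one] at h1; rw [h1, one_pow]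
          · exact h1
          · have h5 : (p : ZMod r) = 1 := by
              rw [pow_succ, h1, one_mul] at h4
              exact h4
            rw [h5, one_pow]
        rw [hneg] at h2'
        haveI : Fact (2 < r) := ⟨by have := hr.two_le; omega⟩
        exact ZMod.neg_one_ne_one h2'
      have hNr : NoQQ (⊤ : Subgroup E) r := noQQ_of_lt (V := V) hrPPD (by omega) _
        (⊥ : Submodule (ZMod p) V)
        (fun s _ u hu => by rw [(Submodule.mem_bot (ZMod p)).1 hu, smul_zero])
        (by rw [finrank_bot, ← hndef]; omega)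
      obtain ⟨x, -, hx⟩ := exists_orderOf_prime (S := (⊤ : Subgroup E)) hr
        (by rw [Subgroup.card_top]; exact hdvdE hp4 dvd_rfl)
      rw [← hx]
      exact horder x (hgoodT hr hNr x 1 (by rw [hx, pow_one]))
        (fun h => hr.ne_one (by rw [← hx, h, orderOf_one]))
    have h25 : ¬ 5 ^ 2 ∣ Nat.card E := fun h => by
      obtain ⟨x, hx⟩ := exists_orderOf_sq hq.1 hNq h
      have := horder x (hgoodT hq.1 hNq x 2 hx) (fun e => by rw [e, orderOf_one] at hx; omega)
      omega
    obtain ⟨r, hr⟩ := Odd.pow (n := 2) (hp.odd_of_ne_two hp2)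
    have hr1 : r + 1 ∣ p ^ 2 + 1 := ⟨2, by omega⟩
    have hrodd : ¬ 2 ∣ r + 1 := by
      rintro ⟨c, hc⟩
      have h1 : (p : ZMod 4) ^ 2 = -1 := by
        have : ((p ^ 2 + 1 : ℕ) : ZMod 4) = 0 :=
          (ZMod.natCast_eq_zero_iff _ _).2 ⟨c, by omega⟩
        exact eq_neg_of_add_eq_zero_left (by simpa using this)
      revert h1
      generalize (p : ZMod 4) = z
      revert z
      decide
    obtain ⟨j, hj⟩ : ∃ j, r + 1 = 5 ^ j := ⟨_, Nat.eq_prime_pow_of_unique_prime_dvd (by omega)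
      fun {d} hd hdd => hprime d hd (hdd.trans hr1) fun h => hrodd (h ▸ hdd)⟩
    have hj1 : j ≤ 1 := by
      by_contra hj1
      exact h25 ((pow_dvd_pow 5 (by omega)).trans ((hj ▸ hr1).trans hsqE))
    have h9 : 9 ≤ p ^ 2 := by nlinarith
    interval_cases j
    · omega
    · have hp' : p = 3 := by nlinarith
      subst hp'
      exact W.false_of_transitive_small hE (hndef ▸ hn4) hv ht hl0 hlv
  · -- a primitive prime of half the dimension
    obtain ⟨t, ht'⟩ := exists_isPPD (a := p) (n := m) hp.one_lt (by omega) (by omega) (by omega)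
    have hNt := noQQ_stabilizer (V := V) (E := E) ht' (by omega) hv (by rw [← hndef]; omega)
    have hfree := free_of_transitive ht (W.not_dvd_of_l_eq_one ht'.1 hNt hlv)
    have hNT : NoQQ (⊤ : Subgroup E) t := noQQ_of_free ht'.1 (ppd_ne_base ht' (by omega)) ⟨v, hv⟩ _
      fun c _ hc => hfree c hc
    obtain ⟨x, -, hx⟩ := exists_orderOf_prime (S := (⊤ : Subgroup E)) ht'.1
      (by rw [Subgroup.card_top]; exact hdvdE ht'.2.1 ⟨2, by omega⟩)
    have h := horder x (hgoodT ht'.1 hNT x 1 (by rw [hx, pow_one]))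
      (fun h => ht'.1.ne_one (by rw [← hx, h, orderOf_one]))
    rw [hx] at h
    subst h
    exact hq.2.2 m (by omega) (by omega) ht'.2.1

end Cfsg.Agent.H35.ThreeBlock
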