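import Cfsg.Agent.H35.ThreeBlock.Linear

/-!
# Weights on the orbits of a coprime linear group

`Weights` records what is left of a block with normal defect group and at most three characters of
height zero: a linear group on the Frattini quotient of the defect group, and for each vector the
number of characters over the corresponding character.
-/

set_option linter.unusedSectionVars false
set_option linter.style.haveILetI false

namespace Cfsg.Agent.H35.ThreeBlock

open MulAction Module Cfsg.Agent.Arith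

section Group

variable {E : Type*} [Group E] [Finite E]

/-- `k` centralises a root of `x` in `S` in a way fixing the extensions at `x`. -/
def Compat (S : Subgroup E) (x k : E) : Prop :=
  ∃ y ∈ S, ∃ e : ℕ, Commute k y ∧ x = y ^ e ∧ (k ∈ Subgroup.zpowers y ∨ k ^ e = 1)

/-- Good elements of a subgroup. -/
def GoodIn (S : Subgroup E) (x : E) : Prop :=
  x ∈ S ∧ ∀ h ∈ S, Commute x h → h ∈ Subgroup.closure {k : E | k ∈ S ∧ Compat S x k}

/-- No elementary abelian subgroup of order `q²`. -/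
def NoQQ (S : Subgroup E) (q : ℕ) : Prop :=
  ∀ a ∈ S, ∀ b ∈ S, orderOf a = q → orderOf b = q → Commute a b → b ∈ Subgroup.zpowers a

theorem goodIn_one (S : Subgroup E) : GoodIn S 1 :=
  ⟨S.one_mem, fun h hh _ => Subgroup.subset_closure
    ⟨hh, h, hh, 0, Commute.refl h, (pow_zero h).symm, Or.inl (Subgroup.mem_zpowers h)⟩⟩

theorem goodIn_of_eq_zpowers {S : Subgroup E} {y : E} (hS : S = Subgroup.zpowers y) {x : E}
    (hx : x ∈ S) : GoodIn S x := by
  refine ⟨hx, fun h hh _ => Subgroup.subset_closure ?_⟩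
  obtain ⟨e, he⟩ := mem_powers_iff_mem_zpowers.2 (hS ▸ hx : x ∈ Subgroup.zpowers y)
  obtain ⟨i, hi⟩ := Subgroup.mem_zpowers_iff.1 (hS ▸ hh)
  exact ⟨hh, y, hS ▸ Subgroup.mem_zpowers y, e, hi ▸ (Commute.refl y).zpow_left i, he.symm,
    Or.inl (hS ▸ hh)⟩

/-- Commuting `q`-elements generate a cyclic group when there is no `q × q`. -/
theorem mem_zpowers_of_noQQ {S : Subgroup E} {q : ℕ} (hq : q.Prime) (hS : NoQQ S q) {a : E}
    (ha : a ∈ S) {k : ℕ} (hak : orderOf a = q ^ k) :
    ∀ (j : ℕ) (b : E), b ∈ S → Commute a b → b ^ q ^ j = 1 → j ≤ k → b ∈ Subgroup.zpowers a := by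
  intro j
  induction j with
  | zero =>
    intro b _ _ hb _
    rw [pow_zero, pow_one] at hb
    rw [hb]
    exact one_mem _
  | succ j ih =>
    intro b hbS hab hb hjk
    have hbq : b ^ q ∈ Subgroup.zpowers a :=
      ih (b ^ q) (S.pow_mem hbS q) (hab.pow_right q) (by rw [← pow_mul, ← pow_succ']; exact hb)
        (by omega)
    obtain ⟨i, hi⟩ := mem_powers_iff_mem_zpowers.2 hbq
    change a ^ i = b ^ q at hi
    have hd : q ^ (j + 1) ∣ i * q ^ j := by
      refine (pow_dvd_pow q hjk).trans (hak ▸ orderOf_dvd_of_pow_eq_one ?_)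
      rw [pow_mul, hi, ← pow_mul, ← pow_succ', hb]
    have hqi : q ∣ i := by
      rw [pow_succ', Nat.mul_dvd_mul_iff_right (pow_pos hq.pos j)] at hd
      exact hd
    obtain ⟨i', rfl⟩ := hqi
    set c := b * (a ^ i')⁻¹ with hc
    have hcq : c ^ q = 1 := by
      rw [hc, ((hab.symm.pow_right i').inv_right).mul_pow, inv_pow, ← pow_mul, mul_comm i' q, ← hi,
        mul_inv_cancel]
    have hcb : b = c * a ^ i' := by rw [hc]; group
    rw [hcb]
    refine mul_mem ?_ (Subgroup.npow_mem_zpowers a i')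
    by_cases hc1 : c = 1
    · rw [hc1]; exact one_mem _
    haveI := Fact.mk hq
    set a₁ := a ^ q ^ (k - 1)
    have ha₁ : orderOf a₁ = q := by
      rw [orderOf_pow_of_dvd (pow_ne_zero _ hq.ne_zero) (hak ▸ pow_dvd_pow q (Nat.sub_le k 1)), hak,
        Nat.pow_div (Nat.sub_le k 1) hq.pos, show k - (k - 1) = 1 by omega, pow_one]
    have hcomm : Commute a₁ c :=
      (hab.mul_right ((Commute.refl a).pow_right i').inv_right).pow_left _
    exact Subgroup.zpowers_le.2 (Subgroup.npow_mem_zpowers a _)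
      (hS a₁ (S.pow_mem ha _) c (S.mul_mem hbS (S.inv_mem (S.pow_mem ha i'))) ha₁
        (orderOf_eq_prime hcq hc1) hcomm)

theorem exists_pow_eq_of_pow_eq_one {x : E} {r : ℕ} (h : (orderOf x).Coprime r) :
    ∃ y ∈ Subgroup.zpowers x, x = y ^ r := by
  obtain ⟨k, hk⟩ := exists_pow_eq_self_of_coprime h.symm
  exact ⟨x ^ k, Subgroup.npow_mem_zpowers x k, by rw [← pow_mul, mul_comm, pow_mul]; exact hk.symm⟩

/-- A `q`-element is good when its centraliser has no `q × q`. -/
theorem goodIn_of_noQQ {S : Subgroup E} {q : ℕ} (hq : q.Prime) {x : E} (hx : x ∈ S) {j : ℕ}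
    (hxj : orderOf x = q ^ j) (hS : NoQQ (S ⊓ Subgroup.centralizer {x}) q) : GoodIn S x := by
  refine ⟨hx, fun h hh hxh => ?_⟩
  obtain ⟨k, r, hr, hkr⟩ := Nat.exists_eq_pow_mul_and_not_dvd (orderOf_pos h).ne' q hq.ne_one
  obtain ⟨u, w, huw⟩ : ∃ u w : ℤ, u * (q ^ k : ℕ) + w * r = 1 := by
    have hco : IsCoprime ((q ^ k : ℕ) : ℤ) (r : ℤ) :=
      (Nat.Coprime.pow_left k (hq.coprime_iff_not_dvd.2 hr)).cast
    obtain ⟨u, w, h1⟩ := hco
    exact ⟨u, w, h1⟩
  have hdec : h = (h ^ (q ^ k)) ^ u * (h ^ r) ^ w := by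
    conv_lhs => rw [← zpow_one h, ← huw, zpow_add, mul_comm u, mul_comm w, zpow_mul, zpow_mul,
      zpow_natCast, zpow_natCast]
  rw [hdec]
  refine mul_mem (Subgroup.zpow_mem _ ?_ u) (Subgroup.zpow_mem _ ?_ w) <;>
    refine Subgroup.subset_closure ⟨S.pow_mem hh _, ?_⟩
  · -- the prime-to-`q` part
    obtain ⟨y, hy, hxy⟩ := exists_pow_eq_of_pow_eq_one (x := x) (r := r)
      (by rw [hxj]; exact Nat.Coprime.pow_left j (hq.coprime_iff_not_dvd.2 hr))
    obtain ⟨i, rfl⟩ := Subgroup.mem_zpowers_iff.1 hy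
    refine ⟨x ^ i, S.zpow_mem hx i, r, (hxh.symm.pow_left _).zpow_right i, hxy, Or.inr ?_⟩
    rw [← pow_mul, ← hkr, pow_orderOf_eq_one]
  · -- the `q`-part
    have hh1 : (h ^ r) ^ q ^ k = 1 := by rw [← pow_mul, mul_comm, ← hkr, pow_orderOf_eq_one]
    have hmemC : ∀ {g : E}, g ∈ S → Commute x g → g ∈ S ⊓ Subgroup.centralizer {x} := fun hg hc =>
      ⟨hg, Subgroup.mem_centralizer_singleton_iff.2 hc.symm.eq⟩
    obtain ⟨k', -, hk'⟩ := (Nat.dvd_prime_pow hq).1 (orderOf_dvd_of_pow_eq_one hh1)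
    have hc := hxh.pow_right r
    rcases le_total k' j with hle | hle
    · have hm := mem_zpowers_of_noQQ hq hS (hmemC hx (Commute.refl x)) hxj k' (h ^ r)
        (hmemC (S.pow_mem hh r) hc) hc (hk' ▸ pow_orderOf_eq_one _) hle
      exact ⟨x, hx, 1, hc.symm, (pow_one x).symm, Or.inl hm⟩
    · have hm := mem_zpowers_of_noQQ hq hS (hmemC (S.pow_mem hh r) hc) hk' j x
        (hmemC hx (Commute.refl x)) hc.symm (hxj ▸ pow_orderOf_eq_one x) hle
      obtain ⟨e, he⟩ := mem_powers_iff_mem_zpowers.2 hm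
      exact ⟨h ^ r, S.pow_mem hh r, e, Commute.refl _, he.symm, Or.inl (Subgroup.mem_zpowers _)⟩

theorem NoQQ.mono {S T : Subgroup E} {q : ℕ} (h : NoQQ T q) (hle : S ≤ T) : NoQQ S q :=
  fun a ha b hb => h a (hle ha) b (hle hb)

theorem exists_orderOf_prime {S : Subgroup E} {q : ℕ} (hq : q.Prime) (h : q ∣ Nat.card S) :
    ∃ x ∈ S, orderOf x = q := by
  haveI := Fact.mk hq
  obtain ⟨⟨x, hx⟩, hxo⟩ := exists_prime_orderOf_dvd_card' q h
  exact ⟨x, hx, by rwa [Subgroup.orderOf_mk] at hxo⟩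

end Group

variable {p : ℕ} [Fact p.Prime] {E : Type*} [Group E] [Finite E] {V : Type*} [AddCommGroup V]
  [Module (ZMod p) V] [Module.Finite (ZMod p) V] [DistribMulAction E V] [SMulCommClass E (ZMod p) V]
  [FaithfulSMul E V]

variable (E V) in
/-- The weights. -/
structure Weights where
  /-- The number of characters over a vector. -/
  l : V → ℕ
  one_le : ∀ v, 1 ≤ l v
  orbit_le : ∀ s : Finset V, (∀ a ∈ s, ∀ b ∈ s, ∀ g : E, g • a = b → a = b) → ∑ v ∈ s, l v ≤ 3
  good_le : ∀ (v : V) (s : Finset E), (∀ x ∈ s, GoodIn (stabilizer E v) x) →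
    (∀ a ∈ s, ∀ b ∈ s, ∀ g ∈ stabilizer E v, g * a * g⁻¹ = b → a = b) → s.card ≤ l v
  square : ∀ v, l v = 1 → ∃ e : ℕ, Nat.card (stabilizer E v) = e ^ 2

theorem stabilizer_zero : stabilizer E (0 : V) = ⊤ :=
  eq_top_iff.2 fun g _ => smul_zero g

/-- A `q`-element in a group with a free action has no partner. -/
theorem exists_fixed_of_qq {q : ℕ} (hq : q.Prime) (hqp : q ≠ p) {a b : E} (ha : orderOf a = q)
    (hb : orderOf b = q) (hab : Commute a b) (hb' : b ∉ Subgroup.zpowers a)
    (hV : ∃ v : V, v ≠ 0) :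
    ∃ c : E, orderOf c = q ∧ (c = a ∨ ∃ j : ℕ, c = b * a ^ j) ∧ ∃ w : V, w ≠ 0 ∧ c • w = w := by
  classical
  haveI := Fact.mk hq
  have hnd := not_dvd_of_ne (p := p) hq hqp
  have haq : a ^ q = 1 := ha ▸ pow_orderOf_eq_one a
  have hbq : b ^ q = 1 := hb ▸ pow_orderOf_eq_one b
  obtain ⟨v, hv⟩ := hV
  by_contra hno
  push Not at hno
  have hfree : ∀ c : E, orderOf c = q → (c = a ∨ ∃ j : ℕ, c = b * a ^ j) → ∀ w : V, c • w = w →
      w = 0 := fun c hc hc' w hw => by
    by_contra h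
    exact hno c hc hc' w h hw
  have hSa : ∀ i, i ∈ Finset.range q → i ≠ 0 →
      ∑ j ∈ Finset.range q, (a ^ i) ^ j • v = 0 := by
    intro i hi hi0
    refine hfree a ha (Or.inl rfl) _ ?_
    obtain ⟨k, hk⟩ := exists_pow_eq_self_of_coprime (x := a) (n := i) (by
      rw [ha]
      exact (hq.coprime_iff_not_dvd.2 fun h =>
        absurd (Nat.le_of_dvd (Nat.pos_of_ne_zero hi0) h) (by
          have := Finset.mem_range.1 hi; omega)).symm)
    have hai := sum_pow_smul_fixed (q := q) (g := a ^ i)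
      (by rw [← pow_mul, mul_comm, pow_mul, haq, one_pow]) v
    have hall : ∀ r : ℕ, (a ^ i) ^ r • (∑ j ∈ Finset.range q, (a ^ i) ^ j • v) =
        ∑ j ∈ Finset.range q, (a ^ i) ^ j • v := by
      intro r
      induction r with
      | zero => rw [pow_zero, one_smul]
      | succ r ih => rw [pow_succ, mul_smul, hai, ih]
    have h2 := hall k
    rwa [hk] at h2
  have hSc : ∀ j : ℕ, ∑ i ∈ Finset.range q, (b * a ^ j) ^ i • v = 0 := by
    intro j
    have hcq : (b * a ^ j) ^ q = 1 := by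
      rw [(hab.symm.pow_right j).mul_pow, hbq, ← pow_mul, mul_comm, pow_mul, haq]; simp
    have hc1 : b * a ^ j ≠ 1 := fun h => hb' (by
      rw [eq_inv_of_mul_eq_one_left h]
      exact inv_mem (Subgroup.npow_mem_zpowers a j))
    exact hfree _ (orderOf_eq_prime hcq hc1) (Or.inr ⟨j, rfl⟩) _ (sum_pow_smul_fixed hcq v)
  have hzero : (∑ j ∈ Finset.range q, ∑ i ∈ Finset.range q, (b * a ^ j) ^ i • v) = q • v := by
    rw [Finset.sum_comm, Finset.sum_eq_single 0]
    · simp
    · intro i hi hi0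
      have h1 : ∀ j, (b * a ^ j) ^ i • v = b ^ i • ((a ^ i) ^ j • v) := fun j => by
        rw [(hab.symm.pow_right j).mul_pow, ← pow_mul, mul_comm, pow_mul, mul_smul]
      simp only [h1, ← Finset.smul_sum, hSa i hi hi0, smul_zero]
    · intro h
      exact absurd (Finset.mem_range.2 hq.pos) h
  simp only [hSc, Finset.sum_const_zero] at hzero
  exact hv (natCast_smul_eq_zero hnd hzero.symm)

/-- A free prime is `NoQQ`. -/
theorem noQQ_of_free {q : ℕ} (hq : q.Prime) (hqp : q ≠ p) (hV : ∃ v : V, v ≠ 0) (S : Subgroup E)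
    (hfree : ∀ c ∈ S, orderOf c = q → ∀ w : V, c • w = w → w = 0) : NoQQ S q := by
  intro a ha b hb hao hbo hab
  by_contra hb'
  obtain ⟨c, hc, hc', w, hw, hcw⟩ := exists_fixed_of_qq (V := V) hq hqp hao hbo hab hb' hV
  refine hw (hfree c ?_ hc w hcw)
  rcases hc' with rfl | ⟨j, rfl⟩
  · exact ha
  · exact S.mul_mem hb (S.pow_mem ha j)

theorem noQQ_of_lt {q m : ℕ} (hq : IsPPD q p m) (hm : 0 < m) (S : Subgroup E)
    (F : Submodule (ZMod p) V) (hF : ∀ s ∈ S, ∀ u ∈ F, s • u = u)
    (hlt : finrank (ZMod p) V < finrank (ZMod p) F + 2 * m) : NoQQ S q := by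
  intro a ha b hb hao hbo hab
  by_contra hb'
  have := finrank_add_two_mul_le hq hm hao hbo hab hb' F (hF a ha) (hF b hb)
  omega

theorem noQQ_stabilizer {q m : ℕ} (hq : IsPPD q p m) (hm : 0 < m) {v : V} (hv : v ≠ 0)
    (hlt : finrank (ZMod p) V < 1 + 2 * m) : NoQQ (stabilizer E v) q := by
  refine noQQ_of_lt hq hm _ (Submodule.span (ZMod p) {v}) (fun s hs u hu => ?_)
    (by rwa [finrank_span_singleton hv])
  obtain ⟨c, rfl⟩ := Submodule.mem_span_singleton.1 hu
  rw [smul_comm, mem_stabilizer_iff.1 hs]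

namespace Weights

variable (W : Weights E V)

theorem sum_three {a b c : V} (hab : a ≠ b) (hac : a ≠ c) (hbc : b ≠ c)
    (h : ∀ g : E, g • a ≠ b ∧ g • b ≠ a ∧ g • a ≠ c ∧ g • c ≠ a ∧ g • b ≠ c ∧ g • c ≠ b) :
    W.l a + W.l b + W.l c ≤ 3 := by
  classical
  have h1 := W.orbit_le {a, b, c} (by
    intro x hx y hy g hg
    simp only [Finset.mem_insert, Finset.mem_singleton] at hx hy
    obtain ⟨h1, h2, h3, h4, h5, h6⟩ := h g
    rcases hx with rfl | rfl | rfl <;> rcases hy with rfl | rfl | rfl <;> first | rfl | contradiction)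
  rw [Finset.sum_insert (by simp [hab, hac]), Finset.sum_insert (by simp [hbc]),
    Finset.sum_singleton] at h1
  omega

theorem smul_ne_zero_of_ne {v : V} (hv : v ≠ 0) (g : E) : g • v ≠ 0 := fun h => hv (by
  rw [← inv_smul_smul g v, h, smul_zero])

theorem l_zero_add_le {v : V} (hv : v ≠ 0) : W.l 0 + W.l v ≤ 3 := by
  classical
  have h1 := W.orbit_le {0, v} (by
    intro x hx y hy g hg
    simp only [Finset.mem_insert, Finset.mem_singleton] at hx hy
    rcases hx with rfl | rfl <;> rcases hy with rfl | rfl <;>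
      first
      | rfl
      | exact absurd hg (by rw [smul_zero]; exact Ne.symm hv)
      | exact absurd hg (smul_ne_zero_of_ne hv g))
  rw [Finset.sum_insert (by simp [Ne.symm hv]), Finset.sum_singleton] at h1
  exact h1

/-- At most two orbits on nonzero vectors; three weights equal one when there are two. -/
theorem two_orbits {v w : V} (hv : v ≠ 0) (hw : w ≠ 0) (hvw : w ∉ orbit E v) :
    W.l 0 = 1 ∧ W.l v = 1 ∧ W.l w = 1 ∧ ∀ u : V, u ≠ 0 → u ∈ orbit E v ∨ u ∈ orbit E w := by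
  classical
  have hne : ∀ g : E, g • v ≠ w ∧ g • w ≠ v := fun g =>
    ⟨fun h => hvw ⟨g, h⟩, fun h => hvw ⟨g⁻¹, by show g⁻¹ • v = w; rw [← h, inv_smul_smul]⟩⟩
  have h3 := W.sum_three (a := 0) (b := v) (c := w) (Ne.symm hv) (Ne.symm hw)
    (fun h => hvw (h ▸ mem_orbit_self v)) (fun g => ⟨by rw [smul_zero]; exact Ne.symm hv,
      smul_ne_zero_of_ne hv g, by rw [smul_zero]; exact Ne.symm hw, smul_ne_zero_of_ne hw g,
      (hne g).1, (hne g).2⟩)
  have := W.one_le 0
  have := W.one_le v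
  have := W.one_le w
  refine ⟨by omega, by omega, by omega, fun u hu => ?_⟩
  by_contra hcon
  rw [not_or] at hcon
  have hne' : ∀ {x : V}, u ∉ orbit E x → ∀ g : E, g • x ≠ u ∧ g • u ≠ x := fun hx g =>
    ⟨fun h => hx ⟨g, h⟩, fun h => hx ⟨g⁻¹, by show g⁻¹ • _ = u; rw [← h, inv_smul_smul]⟩⟩
  have h4 := W.orbit_le {0, v, w, u} (by
    intro x hx y hy g hg
    simp only [Finset.mem_insert, Finset.mem_singleton] at hx hy
    have hz : ∀ {z : V}, z ≠ 0 → g • (0 : V) ≠ z := fun hz0 => by rw [smul_zero]; exact Ne.symm hz0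
    rcases hx with rfl | rfl | rfl | rfl <;> rcases hy with rfl | rfl | rfl | rfl <;>
      first
      | rfl
      | exact absurd hg (hz hv)
      | exact absurd hg (hz hw)
      | exact absurd hg (hz hu)
      | exact absurd hg (smul_ne_zero_of_ne hv g)
      | exact absurd hg (smul_ne_zero_of_ne hw g)
      | exact absurd hg (smul_ne_zero_of_ne hu g)
      | exact absurd hg (hne g).1
      | exact absurd hg (hne g).2
      | exact absurd hg (hne' hcon.1 g).1
      | exact absurd hg (hne' hcon.1 g).2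
      | exact absurd hg (hne' hcon.2 g).1
      | exact absurd hg (hne' hcon.2 g).2)
  rw [Finset.sum_insert (by simp [Ne.symm hv, Ne.symm hw, Ne.symm hu]),
    Finset.sum_insert (by
      simp only [Finset.mem_insert, Finset.mem_singleton, not_or]
      exact ⟨fun h => hvw (h ▸ mem_orbit_self v), fun h => hcon.1 (h ▸ mem_orbit_self v)⟩),
    Finset.sum_insert (by
      simp only [Finset.mem_singleton]
      exact fun h => hcon.2 (h ▸ mem_orbit_self w)), Finset.sum_singleton] at h4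
  have := W.one_le u
  omega

theorem two_le_of_good {v : V} {x : E} (hx : GoodIn (stabilizer E v) x) (hx1 : x ≠ 1) :
    2 ≤ W.l v := by
  classical
  have h1 := W.good_le v {1, x} (by
    intro a ha
    simp only [Finset.mem_insert, Finset.mem_singleton] at ha
    rcases ha with rfl | rfl
    · exact goodIn_one _
    · exact hx) (by
    intro a ha b hb g _ hg
    simp only [Finset.mem_insert, Finset.mem_singleton] at ha hb
    rcases ha with rfl | rfl <;> rcases hb with rfl | rfl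
    · rfl
    · simp at hg; exact hg
    · exact conj_eq_one_iff.1 hg
    · rfl)
  rwa [Finset.card_insert_of_notMem (by simp [Ne.symm hx1]), Finset.card_singleton] at h1

theorem three_le_of_good {v : V} {x y : E} (hx : GoodIn (stabilizer E v) x)
    (hy : GoodIn (stabilizer E v) y) (hx1 : x ≠ 1) (hy1 : y ≠ 1)
    (hxy : ∀ g ∈ stabilizer E v, g * x * g⁻¹ ≠ y) : 3 ≤ W.l v := by
  classical
  have hne : x ≠ y := fun h => hxy 1 (one_mem _) (by simp [h])
  have hyx : ∀ g ∈ stabilizer E v, g * y * g⁻¹ ≠ x := fun g hg h =>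
    hxy g⁻¹ (inv_mem hg) (by rw [← h]; group)
  have h1 := W.good_le v {1, x, y} (by
    intro a ha
    simp only [Finset.mem_insert, Finset.mem_singleton] at ha
    rcases ha with rfl | rfl | rfl
    · exact goodIn_one _
    · exact hx
    · exact hy) (by
    intro a ha b hb g hg hgab
    simp only [Finset.mem_insert, Finset.mem_singleton] at ha hb
    rcases ha with rfl | rfl | rfl <;> rcases hb with rfl | rfl | rfl <;>
      first
      | rfl
      | (simp at hgab; exact hgab)
      | exact conj_eq_one_iff.1 hgab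
      | exact absurd hgab (hxy g hg)
      | exact absurd hgab (hyx g hg))
  rw [Finset.card_insert_of_notMem (by simp [Ne.symm hx1, Ne.symm hy1]),
    Finset.card_insert_of_notMem (by simp [hne]), Finset.card_singleton] at h1
  omega

/-- Good elements of different orders. -/
theorem three_le_of_good' {v : V} {x y : E} (hx : GoodIn (stabilizer E v) x)
    (hy : GoodIn (stabilizer E v) y) (hx1 : orderOf x ≠ 1) (hy1 : orderOf y ≠ 1)
    (hxy : orderOf x ≠ orderOf y) : 3 ≤ W.l v :=
  W.three_le_of_good hx hy (fun h => hx1 (h ▸ orderOf_one)) (fun h => hy1 (h ▸ orderOf_one))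
    fun g _ h => hxy (by rw [← h]; exact ((MulAut.conj g).orderOf_eq x).symm)

/-- A prime order element with no partner is good. -/
theorem good_of_dvd {v : V} {q : ℕ} (hq : q.Prime) (hS : NoQQ (stabilizer E v) q)
    (hd : q ∣ Nat.card (stabilizer E v)) :
    ∃ x : E, orderOf x = q ∧ GoodIn (stabilizer E v) x := by
  obtain ⟨x, hx, hxo⟩ := exists_orderOf_prime hq hd
  exact ⟨x, hxo, goodIn_of_noQQ hq (j := 1) hx (by rw [hxo, pow_one]) (hS.mono inf_le_left)⟩

theorem not_dvd_of_l_eq_one {v : V} {q : ℕ} (hq : q.Prime) (hS : NoQQ (stabilizer E v) q)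
    (hl : W.l v = 1) : ¬ q ∣ Nat.card (stabilizer E v) := fun hd => by
  obtain ⟨x, hxo, hx⟩ := good_of_dvd hq hS hd
  have := W.two_le_of_good hx (fun h => hq.ne_one (by rw [← hxo, h, orderOf_one]))
  omega

end Weights

end Cfsg.Agent.H35.ThreeBlock
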